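import Mathlib

/-!
# `Ext¹` from a short free presentation, and a few length computations
-/

universe u v

namespace Groth.Agent.TFCurvLib

open CategoryTheory Abelian

variable {A : Type u} [CommRing A] {K F M : Type u} [AddCommGroup K] [Module A K]
  [AddCommGroup F] [Module A F] [Module.Projective A F] [AddCommGroup M] [Module A M]
  (f : K →ₗ[A] F) (g : F →ₗ[A] M) (hf : Function.Injective f) (hg : Function.Surjective g)
  (hfg : Function.Exact f g) (N : Type u) [AddCommGroup N] [Module A N]

/-- The short complex of a presentation. -/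
abbrev presentation : ShortComplex (ModuleCat.{u} A) :=
  ShortComplex.mk (ModuleCat.ofHom f) (ModuleCat.ofHom g)
    (ModuleCat.hom_ext (LinearMap.ext fun k => (hfg (f k)).2 ⟨k, rfl⟩))

include hf hg in
theorem presentation_shortExact : (presentation f g hfg).ShortExact :=
  { exact := (ShortComplex.ShortExact.moduleCat_exact_iff_function_exact _).2 hfg
    mono_f := (ModuleCat.mono_iff_injective _).2 hf
    epi_g := (ModuleCat.epi_iff_surjective _).2 hg }

/-- The connecting map `Hom(K, N) → Ext¹(M, N)`. -/
noncomputable def extDelta :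
    (K →ₗ[A] N) →ₗ[A] Ext (ModuleCat.of A M) (ModuleCat.of A N) 1 where
  toFun φ := (presentation_shortExact f g hf hg hfg).extClass.comp
    (Ext.mk₀ (ModuleCat.ofHom φ)) (add_zero 1)
  map_add' a b := by
    rw [show ModuleCat.ofHom (a + b) = ModuleCat.ofHom a + ModuleCat.ofHom b from rfl,
      Ext.mk₀_add, Ext.comp_add]
  map_smul' r a := by
    rw [show ModuleCat.ofHom (r • a) = r • ModuleCat.ofHom a from rfl,
      Ext.mk₀_smul, Ext.comp_smul, RingHom.id_apply]

theorem extDelta_surjective : Function.Surjective (extDelta f g hf hg hfg N) := fun x => by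
  haveI : Projective (presentation f g hfg).X₂ :=
    (IsProjective.iff_projective (R := A) F).1 inferInstance
  obtain ⟨y, hy⟩ := Ext.contravariant_sequence_exact₃ (presentation_shortExact f g hf hg hfg)
    _ x (Ext.eq_zero_of_projective _) (add_zero 1)
  obtain ⟨φ, rfl⟩ := (Ext.mk₀_bijective _ _).2 y
  exact ⟨φ.hom, hy⟩

theorem extDelta_ker :
    LinearMap.ker (extDelta f g hf hg hfg N) = LinearMap.range (LinearMap.lcomp A N f) := by
  ext φ
  constructor
  · intro hφ
    obtain ⟨y, hy⟩ := Ext.contravariant_sequence_exact₁ (presentation_shortExact f g hf hg hfg)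
      _ (Ext.mk₀ (ModuleCat.ofHom φ)) (add_zero 1) hφ
    obtain ⟨ψ, rfl⟩ := (Ext.mk₀_bijective _ _).2 y
    rw [Ext.mk₀_comp_mk₀] at hy
    exact ⟨ψ.hom, congrArg ModuleCat.Hom.hom ((Ext.mk₀_bijective _ _).1 hy)⟩
  · rintro ⟨ψ, rfl⟩
    change (presentation_shortExact f g hf hg hfg).extClass.comp (Ext.mk₀
      ((presentation f g hfg).f ≫ ModuleCat.ofHom ψ)) (add_zero 1) = 0
    rw [← Ext.mk₀_comp_mk₀, ShortComplex.ShortExact.extClass_comp_assoc]

include hf hg hfg in
/-- `length Ext¹(M, N) = length (Hom(K, N) / Hom(F, N))`. -/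
theorem length_ext_one :
    Module.length A (Ext (ModuleCat.of A M) (ModuleCat.of A N) 1) =
      Module.length A ((K →ₗ[A] N) ⧸ LinearMap.range (LinearMap.lcomp A N f)) := by
  rw [← extDelta_ker f g hf hg hfg N]
  exact (LinearEquiv.length_eq
    (LinearMap.quotKerEquivOfSurjective _ (extDelta_surjective f g hf hg hfg N))).symm

end Groth.Agent.TFCurvLib

namespace Groth.Agent.TFCurvLib

open CategoryTheory Abelian

section Length

variable {k : Type u} [Field k] {A : Type v} [CommRing A] [Algebra k A] (χ : A →ₐ[k] k)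
  (hχ : ∀ a, χ a ≠ 0 → IsUnit a)

include hχ in
theorem finrank_simple (S : Type*) [AddCommGroup S] [Module A S] [Module k S] [IsScalarTower k A S]
    [IsSimpleModule A S] : Module.finrank k S = 1 := by
  obtain ⟨P, hP, ⟨e⟩⟩ := (isSimpleModule_iff_quot_maximal (R := A) (M := S)).1 inferInstance
  have hle : P ≤ RingHom.ker χ := fun a ha => by
    by_contra h
    exact hP.ne_top (P.eq_top_of_isUnit_mem ha (hχ a h))
  have hsurj : Function.Surjective χ := fun r => ⟨algebraMap k A r, by simp⟩
  have hPeq : P = RingHom.ker χ := hP.eq_of_le (RingHom.ker_ne_top _) hle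
  subst hPeq
  rw [(e.restrictScalars k).finrank_eq,
    (Ideal.quotientKerAlgEquivOfSurjective hsurj).toLinearEquiv.finrank_eq]
  exact Module.finrank_self k

include hχ in
/-- Length equals dimension over the residue field `k`. -/
theorem length_eq_finrank (Q : Type*) [AddCommGroup Q] [Module A Q] [Module k Q]
    [IsScalarTower k A Q] [Module.Finite k Q] : Module.length A Q = Module.finrank k Q := by
  suffices ∀ (d : ℕ) (P : Submodule A Q), Module.finrank k P = d → Module.length A P = d by
    have h := this _ ⊤ rfl
    rw [Submodule.topEquiv.length_eq, (Submodule.topEquiv.restrictScalars k).finrank_eq] at h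
    exact h
  haveI : IsArtinian A Q := isArtinian_of_tower k inferInstance
  intro d
  induction d using Nat.strong_induction_on with
  | _ d ih =>
    intro P hd
    have hfin : Module.Finite k P :=
      inferInstanceAs (Module.Finite k (P.restrictScalars k))
    by_cases hne : P = ⊥
    · subst hne
      rw [Module.length_eq_zero, ← hd,
        show Module.finrank k (⊥ : Submodule A Q) = 0 from Module.finrank_zero_of_subsingleton]
      rfl
    -- a coatom below `P`
    haveI : IsNoetherian A P := isNoetherian_of_tower k inferInstance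
    haveI : Nontrivial P := Submodule.nontrivial_iff_ne_bot.2 hne
    obtain ⟨C, hC, -⟩ := (IsCoatomic.eq_top_or_exists_le_coatom (⊥ : Submodule A P)).resolve_left
      bot_ne_top
    haveI : IsSimpleModule A (P ⧸ C) := isSimpleModule_iff_isCoatom.2 hC
    let C' : Submodule A Q := C.map P.subtype
    let e : C ≃ₗ[A] C' := Submodule.equivMapOfInjective P.subtype Subtype.val_injective C
    have h1 := finrank_simple χ hχ (P ⧸ C)
    haveI : Module.Finite k (C.restrictScalars k) := inferInstance
    have h2 := Submodule.finrank_quotient_add_finrank (C.restrictScalars k)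
    rw [(Submodule.Quotient.restrictScalarsEquiv k C).finrank_eq, h1, hd,
      show Module.finrank k (C.restrictScalars k) = Module.finrank k C' from
        (e.restrictScalars k).finrank_eq] at h2
    have h3 := ih _ (by omega : Module.finrank k C' < d) C' rfl
    rw [← e.length_eq] at h3
    rw [Module.length_eq_add_of_exact C.subtype C.mkQ (Submodule.subtype_injective C) C.mkQ_surjective
      (LinearMap.exact_subtype_mkQ C), h3, Module.length_eq_one, add_comm, ← h2]
    norm_cast

include hχ in
theorem length_quot_eq_card {H : Type*} [AddCommGroup H] [Module A H] [Module k H]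
    [IsScalarTower k A H] (P : Submodule A H) {ι : Type*} [Fintype ι] (Φ : H →ₗ[k] (ι → k))
    (hΦ : Function.Surjective Φ) (hker : ∀ x, Φ x = 0 ↔ x ∈ P) :
    Module.length A (H ⧸ P) = Fintype.card ι := by
  have hk : LinearMap.ker Φ = P.restrictScalars k := Submodule.ext fun x => hker x
  let e : (H ⧸ P) ≃ₗ[k] (ι → k) := (Submodule.Quotient.restrictScalarsEquiv k P).symm.trans
    ((Submodule.quotEquivOfEq _ _ hk.symm).trans (Φ.quotKerEquivOfSurjective hΦ))
  haveI : Module.Finite k (H ⧸ P) := Module.Finite.equiv e.symm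
  rw [length_eq_finrank χ hχ (H ⧸ P), e.finrank_eq, Module.finrank_pi]

end Length

variable {k : Type u} [Field k] {A : Type u} [CommRing A] [Algebra k A]

/-- `length Ext¹(M, N)` from a presentation and coordinates on `Hom(K, N)/Hom(F, N)`. -/
theorem length_ext_one_eq_card (χ : A →ₐ[k] k) (hχ : ∀ a, χ a ≠ 0 → IsUnit a)
    {K F M : Type u} [AddCommGroup K] [Module A K] [AddCommGroup F] [Module A F]
    [Module.Projective A F] [AddCommGroup M] [Module A M]
    (f : K →ₗ[A] F) (g : F →ₗ[A] M) (hf : Function.Injective f) (hg : Function.Surjective g)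
    (hfg : Function.Exact f g) (N : Type u) [AddCommGroup N] [Module A N] [Module k N]
    [IsScalarTower k A N] {ι : Type*} [Fintype ι] (Φ : (K →ₗ[A] N) →ₗ[k] (ι → k))
    (hΦ : Function.Surjective Φ) (hker : ∀ φ, Φ φ = 0 ↔ ∃ ψ : F →ₗ[A] N, ψ ∘ₗ f = φ) :
    Module.length A (Ext (ModuleCat.of A M) (ModuleCat.of A N) 1) = Fintype.card ι := by
  rw [length_ext_one f g hf hg hfg N]
  exact length_quot_eq_card χ hχ _ Φ hΦ fun φ => by
    rw [hker]; rfl

end Groth.Agent.TFCurvLib
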