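import Mathlib.RingTheory.DedekindDomain.PID
import Mathlib.RingTheory.DedekindDomain.IntegralClosure
import Mathlib.RingTheory.QuasiFinite.Basic
import Mathlib.Algebra.Module.Submodule.Union
import Mathlib.LinearAlgebra.FreeModule.PID
import Mathlib.FieldTheory.IsAlgClosed.Basic
import Mathlib.LinearAlgebra.Matrix.NonsingularInverse

/-!
# Torsion-free modules sandwiched between a free module and the normalisation
-/

universe u

open scoped TensorProduct

namespace Groth.Agent.TFCurvLib

section Semilocal

variable (O : Type u) [CommRing O] [IsLocalRing O] {B : Type u} [CommRing B] [IsDomain B] [Algebra O B]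
  [Algebra.IsIntegral O B] [Finite (MaximalSpectrum B)] [Infinite (IsLocalRing.ResidueField O)]
  {M : Type u} [AddCommGroup M] [Module O M] {n : ℕ} (ψ : M →ₗ[O] (Fin n → B))

theorem smul_quotient_eq_zero (P : MaximalSpectrum B) {a : O} (ha : a ∈ IsLocalRing.maximalIdeal O) :
    algebraMap O (B ⧸ P.asIdeal) a = 0 := by
  haveI : (Ideal.comap (algebraMap O B) P.asIdeal).IsMaximal :=
    Ideal.isMaximal_comap_of_isIntegral_of_isMaximal P.asIdeal
  rw [IsScalarTower.algebraMap_apply O B (B ⧸ P.asIdeal), Ideal.Quotient.algebraMap_eq, Ideal.Quotient.eq_zero_iff_mem,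
    ← Ideal.mem_comap, IsLocalRing.eq_maximalIdeal ‹(Ideal.comap (algebraMap O B) P.asIdeal).IsMaximal›]
  exact ha

/-- Reduction modulo a maximal ideal. -/
noncomputable def red (P : MaximalSpectrum B) : M →ₗ[O] (Fin n → B ⧸ P.asIdeal) :=
  LinearMap.pi fun i => ((Ideal.Quotient.mkₐ O P.asIdeal).toLinearMap ∘ₗ LinearMap.proj i) ∘ₗ ψ

theorem red_apply (P : MaximalSpectrum B) (x : M) (i : Fin n) :
    red O ψ P x i = Ideal.Quotient.mk P.asIdeal (ψ x i) := rfl

/-- Elements which stay independent at every maximal ideal. -/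
theorem exists_family (hψ : Submodule.span B (Set.range ψ) = ⊤) (j : ℕ) (hj : j ≤ n) :
    ∃ m : Fin j → M, ∀ P : MaximalSpectrum B, LinearIndependent (B ⧸ P.asIdeal) fun a => red O ψ P (m a) := by
  induction j with
  | zero => exact ⟨Fin.elim0, fun P => linearIndependent_empty_type⟩
  | succ j ih =>
    obtain ⟨m, hm⟩ := ih (Nat.le_of_succ_le hj)
    let S : MaximalSpectrum B → Submodule O M := fun P =>
      ((Submodule.span (B ⧸ P.asIdeal) (Set.range fun a => red O ψ P (m a))).restrictScalars O).comap (red O ψ P)
    let I := IsLocalRing.maximalIdeal O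
    letI : Field (O ⧸ I) := Ideal.Quotient.field I
    haveI : Infinite (O ⧸ I) := ‹Infinite (IsLocalRing.ResidueField O)›
    let q : M →ₗ[O] M ⧸ (I • (⊤ : Submodule O M)) := Submodule.mkQ _
    have hmem : ∀ P, I • (⊤ : Submodule O M) ≤ S P := fun P => Submodule.smul_le.2 fun a ha x _ => by
      show red O ψ P (a • x) ∈ Submodule.span (B ⧸ P.asIdeal) _
      rw [map_smul, ← algebraMap_smul (B ⧸ P.asIdeal) a, smul_quotient_eq_zero O P ha, zero_smul]
      exact Submodule.zero_mem _
    let S' : MaximalSpectrum B → Submodule (O ⧸ I) (M ⧸ (I • (⊤ : Submodule O M))) := fun P =>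
      { carrier := ((S P).map q : Set _)
        add_mem' := ((S P).map q).add_mem
        zero_mem' := ((S P).map q).zero_mem
        smul_mem' := fun c x hx => by
          obtain ⟨c, rfl⟩ := Ideal.Quotient.mk_surjective c
          exact ((S P).map q).smul_mem c hx }
    have hne : ∀ P, S' P ≠ ⊤ := by
      intro P htop
      letI : Field (B ⧸ P.asIdeal) := Ideal.Quotient.field _
      have hS : S P = ⊤ := by
        refine eq_top_iff.2 fun x _ => ?_
        have : q x ∈ (S P).map q := (SetLike.mem_coe (p := S' P)).1 (htop ▸ Set.mem_univ _)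
        obtain ⟨y, hy, hyx⟩ := Submodule.mem_map.1 this
        have h := hmem P ((Submodule.Quotient.eq _).1 hyx)
        simpa using (S P).sub_mem hy h
      have hspan : Submodule.span (B ⧸ P.asIdeal) (Set.range fun a => red O ψ P (m a)) = ⊤ := by
        refine eq_top_iff.2 fun y _ => ?_
        choose z hz using fun i => Ideal.Quotient.mk_surjective (I := P.asIdeal) (y i)
        let Q : Submodule B (Fin n → B) :=
          ((Submodule.span (B ⧸ P.asIdeal) (Set.range fun a => red O ψ P (m a))).restrictScalars B).comap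
            (LinearMap.pi fun i => (Ideal.Quotient.mkₐ B P.asIdeal).toLinearMap ∘ₗ LinearMap.proj i)
        have hQ : z ∈ Q := by
          have : Submodule.span B (Set.range ψ) ≤ Q := Submodule.span_le.2 (by
            rintro _ ⟨x, rfl⟩
            exact (hS ▸ Submodule.mem_top : x ∈ S P))
          exact this (hψ ▸ Submodule.mem_top)
        exact (show (fun i => Ideal.Quotient.mk P.asIdeal (z i)) = y from funext hz) ▸ hQ
      have h1 := finrank_range_le_card (R := B ⧸ P.asIdeal) (fun a => red O ψ P (m a))
      rw [Set.finrank, hspan, finrank_top, Module.finrank_fin_fun, Fintype.card_fin] at h1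
      omega
    obtain ⟨x', hx'⟩ := Submodule.exists_forall_notMem_of_forall_ne_top S' hne
    obtain ⟨x, rfl⟩ := Submodule.mkQ_surjective _ x'
    refine ⟨Fin.snoc m x, fun P => ?_⟩
    letI : Field (B ⧸ P.asIdeal) := Ideal.Quotient.field _
    have : (fun a => red O ψ P ((Fin.snoc m x : Fin (j + 1) → M) a)) =
        Fin.snoc (fun a => red O ψ P (m a)) (red O ψ P x) := by
      funext a
      cases a using Fin.lastCases <;> simp
    rw [this, linearIndependent_finSnoc]
    exact ⟨hm P, fun h => hx' P (Submodule.mem_map.2 ⟨x, h, rfl⟩)⟩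

/-- A change of coordinates after which the image contains the standard basis. -/
theorem exists_normalized (hψ : Submodule.span B (Set.range ψ) = ⊤) (hinj : Function.Injective ψ) :
    ∃ φ : M →ₗ[O] (Fin n → B), Function.Injective φ ∧ ∀ j : Fin n, Pi.single j (1 : B) ∈ LinearMap.range φ := by
  classical
  obtain ⟨m, hm⟩ := exists_family O ψ hψ n le_rfl
  let A : Matrix (Fin n) (Fin n) B := Matrix.of fun i j => ψ (m j) i
  have hA : IsUnit A.det := by
    by_contra h
    obtain ⟨P, hP, hdet⟩ := Ideal.exists_le_maximal (Ideal.span {A.det}) (by rwa [ne_eq, Ideal.span_singleton_eq_top])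
    letI : Field (B ⧸ P) := Ideal.Quotient.field _
    have h0 : (A.map (Ideal.Quotient.mk P)).det = 0 := by
      rw [← RingHom.mapMatrix_apply, ← RingHom.map_det, Ideal.Quotient.eq_zero_iff_mem]
      exact hdet (Ideal.mem_span_singleton_self _)
    have hli : LinearIndependent (B ⧸ P) (A.map (Ideal.Quotient.mk P)).col := hm ⟨P, hP⟩
    rw [Matrix.linearIndependent_cols_iff_isUnit, Matrix.isUnit_iff_isUnit_det, h0] at hli
    exact not_isUnit_zero hli
  refine ⟨(A⁻¹).mulVecLin.restrictScalars O ∘ₗ ψ, ?_, fun j => ⟨m j, ?_⟩⟩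
  · refine Function.Injective.comp (g := (A⁻¹).mulVec) ?_ hinj
    refine Function.LeftInverse.injective (g := A.mulVec) fun v => ?_
    rw [Matrix.mulVec_mulVec, Matrix.mul_nonsing_inv A hA, Matrix.one_mulVec]
  · show (A⁻¹).mulVec (ψ (m j)) = _
    rw [show ψ (m j) = A.mulVec (Pi.single j 1) by rw [Matrix.mulVec_single_one]; rfl, Matrix.mulVec_mulVec,
      Matrix.nonsing_inv_mul A hA, Matrix.one_mulVec]

end Semilocal

variable (O : Type u) [CommRing O] [IsDomain O] [IsNoetherianRing O] [IsLocalRing O]
  (K : Type u) [Field K] [Algebra O K] [IsFractionRing O K]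
  (M : Type u) [AddCommGroup M] [Module O M] [Module.Finite O M] [NoZeroSMulDivisors O M]

theorem isPrincipalIdealRing_integralClosure (hdim : ringKrullDim O = 1)
    (hfin : Module.Finite O ↥(integralClosure O K)) : IsPrincipalIdealRing ↥(integralClosure O K) := by
  classical
  let B := integralClosure O K
  haveI : Module.Finite O B := hfin
  haveI : Ring.KrullDimLE 1 O := Ring.krullDimLE_iff.2 hdim.le
  haveI : Ring.DimensionLEOne O := ⟨fun hne hp => Ring.krullDimLE_one_iff_of_noZeroDivisors.1 ‹Ring.KrullDimLE 1 O› _ hne hp⟩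
  haveI : IsFractionRing B K := integralClosure.isFractionRing_of_finite_extension (A := O) K K
  haveI : IsIntegrallyClosed B := integralClosure.isIntegrallyClosedOfFiniteExtension K
  haveI : IsNoetherianRing B := IsNoetherianRing.of_finite O B
  haveI : IsDedekindDomain B := (isDedekindDomain_iff B K).2 ⟨inferInstance, inferInstance, inferInstance,
    fun {x} hx => (IsIntegrallyClosed.isIntegral_iff.1 hx)⟩
  haveI : Finite (PrimeSpectrum O) := by
    have hle : ∀ p : PrimeSpectrum O, p.asIdeal = ⊥ ∨ p.asIdeal = IsLocalRing.maximalIdeal O := fun p =>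
      or_iff_not_imp_left.2 fun h => IsLocalRing.eq_maximalIdeal (p.isPrime.isMaximal h)
    refine Finite.of_injective (fun p : PrimeSpectrum O => decide (p.asIdeal = ⊥)) fun p q h => ?_
    simp only [decide_eq_decide] at h
    ext1
    rcases hle p with hp | hp <;> rcases hle q with hq | hq
    · rw [hp, hq]
    · rw [hp, h.1 hp]
    · rw [h.2 hq, hq]
    · rw [hp, hq]
  haveI : Finite (PrimeSpectrum B) := Algebra.QuasiFinite.finite_primeSpectrum (R := O) (S := B)
  exact IsPrincipalIdealRing.of_finite_primes (by
    have := Set.finite_range (fun p : PrimeSpectrum B => p.asIdeal)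
    exact this.subset fun p hp => ⟨⟨p, hp⟩, rfl⟩)

theorem exists_sandwich (hdim : ringKrullDim O = 1) [Infinite (IsLocalRing.ResidueField O)]
    (hfin : Module.Finite O ↥(integralClosure O K)) (n : ℕ) (hn : Module.finrank K (K ⊗[O] M) = n) :
    ∃ M' : Submodule O (Fin n → K), Submodule.pi Set.univ (fun _ : Fin n => (1 : Submodule O K)) ≤ M' ∧
      M' ≤ Submodule.pi Set.univ (fun _ : Fin n => Subalgebra.toSubmodule (integralClosure O K)) ∧
      Nonempty (M ≃ₗ[O] ↥M') := by
  classical
  let B := integralClosure O K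
  haveI : Module.Finite O B := hfin
  haveI : Ring.KrullDimLE 1 O := Ring.krullDimLE_iff.2 hdim.le
  haveI : Ring.DimensionLEOne O := ⟨fun hne hp => Ring.krullDimLE_one_iff_of_noZeroDivisors.1 ‹Ring.KrullDimLE 1 O› _ hne hp⟩
  haveI : IsFractionRing B K := integralClosure.isFractionRing_of_finite_extension (A := O) K K
  haveI : IsIntegrallyClosed B := integralClosure.isIntegrallyClosedOfFiniteExtension K
  haveI : IsNoetherianRing B := IsNoetherianRing.of_finite O B
  haveI : IsDedekindDomain B := (isDedekindDomain_iff B K).2 ⟨inferInstance, inferInstance, inferInstance,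
    fun {x} hx => (IsIntegrallyClosed.isIntegral_iff.1 hx)⟩
  haveI : Finite (PrimeSpectrum O) := by
    have hle : ∀ p : PrimeSpectrum O, p.asIdeal = ⊥ ∨ p.asIdeal = IsLocalRing.maximalIdeal O := fun p =>
      or_iff_not_imp_left.2 fun h => IsLocalRing.eq_maximalIdeal (p.isPrime.isMaximal h)
    refine Finite.of_injective (fun p : PrimeSpectrum O => decide (p.asIdeal = ⊥)) fun p q h => ?_
    simp only [decide_eq_decide] at h
    ext1
    rcases hle p with hp | hp <;> rcases hle q with hq | hq
    · rw [hp, hq]
    · rw [hp, h.1 hp]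
    · rw [h.2 hq, hq]
    · rw [hp, hq]
  haveI : Finite (PrimeSpectrum B) := Algebra.QuasiFinite.finite_primeSpectrum (R := O) (S := B)
  haveI : Finite (MaximalSpectrum B) := Finite.of_injective _ MaximalSpectrum.toPrimeSpectrum_injective
  haveI : IsPrincipalIdealRing B := IsPrincipalIdealRing.of_finite_primes (by
    have := Set.finite_range (fun p : PrimeSpectrum B => p.asIdeal)
    exact this.subset fun p hp => ⟨⟨p, hp⟩, rfl⟩)
  haveI : FiniteDimensional K (K ⊗[O] M) := Module.Finite.base_change O K M
  let b₀ : Module.Basis (Fin n) K (K ⊗[O] M) := Module.finBasisOfFinrankEq K _ hn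
  let ι : M →ₗ[O] (Fin n → K) := b₀.equivFun.toLinearMap.restrictScalars O ∘ₗ TensorProduct.mk O K M 1
  have hι : Function.Injective ι := by
    refine b₀.equivFun.injective.comp ?_
    haveI : IsLocalizedModule (nonZeroDivisors O) (TensorProduct.mk O K M 1) :=
      (isLocalizedModule_iff_isBaseChange (nonZeroDivisors O) K _).2 (TensorProduct.isBaseChange O M K)
    rw [injective_iff_map_eq_zero]
    intro x hx
    obtain ⟨s, hs⟩ := (IsLocalizedModule.eq_zero_iff (nonZeroDivisors O) (TensorProduct.mk O K M 1)).1 hx
    exact (smul_eq_zero.1 hs).resolve_left (nonZeroDivisors.coe_ne_zero s)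
  have hspanK : Submodule.span K (Set.range ι) = ⊤ := by
    have h1 : Submodule.span K (Set.range (TensorProduct.mk O K M 1)) = ⊤ := by
      refine eq_top_iff.2 fun x _ => ?_
      induction x with
      | zero => exact Submodule.zero_mem _
      | tmul a y =>
        rw [show a ⊗ₜ[O] y = a • ((1 : K) ⊗ₜ[O] y) by rw [TensorProduct.smul_tmul', smul_eq_mul, mul_one]]
        exact Submodule.smul_mem _ _ (Submodule.subset_span ⟨y, rfl⟩)
      | add x y hx hy => exact Submodule.add_mem _ (hx trivial) (hy trivial)
    rw [show Set.range ι = b₀.equivFun.toLinearMap '' Set.range (TensorProduct.mk O K M 1) from Set.range_comp (⇑b₀.equivFun.toLinearMap) (⇑(TensorProduct.mk O K M 1)),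
      Submodule.span_image, h1, Submodule.map_top, LinearMap.range_eq_top]
    exact b₀.equivFun.surjective
  let N : Submodule B (Fin n → K) := Submodule.span B (Set.range ι)
  haveI : Module.Finite B N := by
    obtain ⟨s, hs⟩ := (Module.Finite.fg_top : (⊤ : Submodule O M).FG)
    refine Module.Finite.iff_fg.2 ⟨s.image ι, le_antisymm (Submodule.span_le.2 ?_) (Submodule.span_le.2 ?_)⟩
    · rw [Finset.coe_image]
      exact (Set.image_subset_range _ _).trans Submodule.subset_span
    · rintro _ ⟨x, rfl⟩
      have hx : ι x ∈ (⊤ : Submodule O M).map ι := Submodule.mem_map_of_mem trivial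
      rw [← hs, Submodule.map_span] at hx
      rw [Finset.coe_image]
      exact Submodule.span_le_restrictScalars O B _ hx
  let bN := Module.Free.chooseBasis B N
  have hliK : LinearIndependent K fun a => ((bN a : N) : Fin n → K) :=
    (LinearIndependent.iff_fractionRing B K).1 (bN.linearIndependent.map' N.subtype (Submodule.ker_subtype _))
  have hspN : Submodule.span K (Set.range fun a => ((bN a : N) : Fin n → K)) = ⊤ := by
    refine eq_top_iff.2 (hspanK ▸ Submodule.span_le.2 ?_)
    rintro _ ⟨x, rfl⟩
    have hx : (ι x) ∈ Submodule.span B (Set.range fun a => ((bN a : N) : Fin n → K)) := by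
      have h := congrArg (Submodule.map N.subtype) bN.span_eq
      rw [Submodule.map_span, Submodule.map_top, Submodule.range_subtype, ← Set.range_comp] at h
      exact h.symm ▸ Submodule.subset_span (Set.mem_range_self x)
    exact Submodule.span_le_restrictScalars B K _ hx
  have hcard : Fintype.card (Module.Free.ChooseBasisIndex B N) = n := by
    rw [← Module.finrank_eq_card_basis (Module.Basis.mk hliK (le_of_eq hspN.symm)), Module.finrank_fin_fun]
  let e : N ≃ₗ[B] (Fin n → B) := (bN.reindex (Fintype.equivFinOfCardEq hcard)).equivFun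
  let ι' : M →ₗ[O] N := LinearMap.codRestrict (N.restrictScalars O) ι fun x => Submodule.subset_span ⟨x, rfl⟩
  let ψ : M →ₗ[O] (Fin n → B) := e.toLinearMap.restrictScalars O ∘ₗ ι'
  have hψi : Function.Injective ψ := e.injective.comp fun x y h => hι (congrArg Subtype.val h)
  have hψ : Submodule.span B (Set.range ψ) = ⊤ := by
    have h : Submodule.span B (Set.range ι') = ⊤ := by
      refine Submodule.map_injective_of_injective N.subtype_injective ?_
      rw [Submodule.map_span, ← Set.range_comp, Submodule.map_top, Submodule.range_subtype]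
      rfl
    rw [show Set.range ψ = e.toLinearMap '' Set.range ι' from Set.range_comp (⇑e.toLinearMap) (⇑ι'), Submodule.span_image, h,
      Submodule.map_top, LinearEquiv.range]
  obtain ⟨φ, hφ, hsingle⟩ := exists_normalized O ψ hψ hψi
  let j : (Fin n → B) →ₗ[O] (Fin n → K) :=
    LinearMap.pi fun i => (Subalgebra.toSubmodule (integralClosure O K)).subtype ∘ₗ LinearMap.proj i
  have hj : Function.Injective j := fun x y h => funext fun i => Subtype.ext (congrFun h i)
  refine ⟨LinearMap.range (j ∘ₗ φ), ?_, ?_, ⟨LinearEquiv.ofInjective _ (hj.comp hφ)⟩⟩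
  · intro x hx
    rw [← Finset.univ_sum_single x]
    refine Submodule.sum_mem _ fun i _ => ?_
    obtain ⟨c, hc⟩ := Submodule.mem_one.1 (hx i (Set.mem_univ i))
    obtain ⟨y, hy⟩ := hsingle i
    refine ⟨c • y, ?_⟩
    show j (φ (c • y)) = _
    rw [map_smul, map_smul, hy]
    funext l
    show c • ((Pi.single i (1 : B) : Fin n → B) l : K) = _
    rcases eq_or_ne l i with rfl | hl
    · simp [← hc, Algebra.smul_def]
    · simp [Pi.single_eq_of_ne hl]
  · rintro _ ⟨x, rfl⟩ i _
    exact (φ x i).2

end Groth.Agent.TFCurvLib
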