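import Groth.Agent.TFCurvLib.Lattice
import Groth.Agent.TFCurvLib.Sandwich
import Groth.Agent.LC.GorHull
import Groth.Prelude.Def_CAlg

/-!
# Lattices between powers of the conductor and of the normalisation over a Gorenstein curve singularity
-/

set_option linter.style.haveILetI false

universe u

open CategoryTheory
open scoped Matrix TensorProduct

namespace Groth.Agent.TFCurvLib.Lattice

variable (O : Type u) [CommRing O] (K : Type u) [Field K] [Algebra O K] (n : ℕ)

/-- The power of `O` inside `K^n`. -/
abbrev piOne : Submodule O (Fin n → K) := Submodule.pi Set.univ fun _ : Fin n => (1 : Submodule O K)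

/-- The power of the normalisation. -/
abbrev piBar : Submodule O (Fin n → K) :=
  Submodule.pi Set.univ fun _ : Fin n => Subalgebra.toSubmodule (integralClosure O K)

/-- The conductor as a submodule of `K`. -/
abbrev condK : Submodule O K :=
  ((1 : Submodule O K).colon (Subalgebra.toSubmodule (integralClosure O K) : Set K)) • (1 : Submodule O K)

/-- The power of the conductor. -/
abbrev piCond : Submodule O (Fin n → K) := Submodule.pi Set.univ fun _ : Fin n => condK O K

variable {O K n}

theorem mem_condK {z : K} :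
    z ∈ condK O K ↔ ∀ b ∈ integralClosure O K, z * b ∈ (1 : Submodule O K) := by
  constructor
  · intro hz
    refine Submodule.smul_induction_on hz (fun c hc y hy b hb => ?_)
      (fun x y hx hy b hb => by rw [add_mul]; exact Submodule.add_mem _ (hx b hb) (hy b hb))
    obtain ⟨o, rfl⟩ := Submodule.mem_one.1 hy
    have h := Submodule.mem_colon.1 hc b hb
    rw [show c • algebraMap O K o * b = o • (c • b) by simp only [Algebra.smul_def]; ring]
    exact Submodule.smul_mem _ _ h
  · intro hz
    obtain ⟨c, hc⟩ := Submodule.mem_one.1 (by simpa using hz 1 (one_mem _))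
    rw [show z = c • (1 : K) by rw [Algebra.smul_def, mul_one, hc]]
    refine Submodule.smul_mem_smul (Submodule.mem_colon.2 fun b hb => ?_) (Submodule.mem_one.2 ⟨1, map_one _⟩)
    rw [Algebra.smul_def, hc]
    exact hz b hb

variable [IsDomain O] [IsFractionRing O K] [IsNoetherianRing O]

omit [IsDomain O] [IsNoetherianRing O] [IsFractionRing O K] in
theorem piOne_le_piBar : piOne O K n ≤ piBar O K n := fun v hv i hi => by
  obtain ⟨c, hc⟩ := Submodule.mem_one.1 (hv i hi)
  exact hc ▸ (integralClosure O K).algebraMap_mem c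

omit [IsDomain O] [IsNoetherianRing O] [IsFractionRing O K] in
theorem piCond_le_piOne : piCond O K n ≤ piOne O K n := fun v hv i hi => by
  simpa using mem_condK.1 (hv i hi) 1 (one_mem _)

omit [IsDomain O] [IsNoetherianRing O] [IsFractionRing O K] in
theorem piBar_fg (hfin : Module.Finite O ↥(integralClosure O K)) : (piBar O K n).FG := by
  haveI := hfin
  have : piBar O K n = LinearMap.range (LinearMap.pi fun i : Fin n =>
      (Subalgebra.toSubmodule (integralClosure O K)).subtype ∘ₗ
        (LinearMap.proj i : (Fin n → ↥(Subalgebra.toSubmodule (integralClosure O K))) →ₗ[O] _)) := by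
    ext v
    refine ⟨fun hv => ⟨fun i => ⟨v i, hv i (Set.mem_univ i)⟩, rfl⟩, ?_⟩
    rintro ⟨c, rfl⟩ i -
    exact (c i).2
  rw [this, LinearMap.range_eq_map]
  haveI : Module.Finite O ↥(Subalgebra.toSubmodule (integralClosure O K)) := hfin
  exact Module.Finite.fg_top.map _

variable [IsLocalRing O] [Ring.KrullDimLE 1 O]

theorem isLat_of_le (hfin : Module.Finite O ↥(integralClosure O K)) {L : Submodule O (Fin n → K)}
    (h1 : piOne O K n ≤ L) (h2 : L ≤ piBar O K n) : IsLat O K L := by
  refine isLat_pi_one.mono h1 ?_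
  haveI : IsNoetherian O ↥(piBar O K n) := isNoetherian_of_fg_of_noetherian _ (piBar_fg hfin)
  exact isNoetherian_submodule.1 inferInstance L h2

omit [IsNoetherianRing O] [IsLocalRing O] [Ring.KrullDimLE 1 O] in
theorem finrank_tensor_lattice {L : Submodule O (Fin n → K)} (hL : IsLat O K L) :
    Module.finrank K (K ⊗[O] L) = n := by
  haveI : IsLocalizedModule (nonZeroDivisors O) L.subtype :=
    { map_units := fun s => by
        refine (Module.End.isUnit_iff _).2 ⟨fun v w h => ?_, fun v => ⟨(algebraMap O K s)⁻¹ • v, ?_⟩⟩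
        · refine funext fun i => ?_
          have hi := congrFun h i
          simp only [Module.algebraMap_end_apply, Pi.smul_apply, Algebra.smul_def] at hi
          exact mul_left_cancel₀ (fun h => nonZeroDivisors.coe_ne_zero s (IsFractionRing.to_map_eq_zero_iff.1 h)) hi
        · rw [Module.algebraMap_end_apply, ← algebraMap_smul K (s : O), smul_smul, mul_inv_cancel₀, one_smul]
          exact fun h => nonZeroDivisors.coe_ne_zero s (IsFractionRing.to_map_eq_zero_iff.1 h)
      surj := fun v => by
        obtain ⟨a, ha, hav⟩ := hL.exists_smul_mem v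
        exact ⟨(⟨a • v, hav⟩, ⟨a, mem_nonZeroDivisors_of_ne_zero ha⟩), rfl⟩
      exists_of_eq := fun h => ⟨1, by rw [Subtype.ext h]⟩ }
  have hbc : IsBaseChange K L.subtype := IsLocalizedModule.isBaseChange (nonZeroDivisors O) K L.subtype
  rw [hbc.equiv.finrank_eq, Module.finrank_fin_fun]

omit [IsNoetherianRing O] [IsLocalRing O] [Ring.KrullDimLE 1 O] [IsDomain O] [IsFractionRing O K] in
theorem dual_one_piBar : dual O K (1 : Submodule O K) (piBar O K n) = piCond O K n := by
  classical
  ext v
  refine ⟨fun hv i _ => mem_condK.2 fun b hb => ?_, fun hv y hy => ?_⟩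
  · have h := hv (Pi.single i b) fun j _ => by
      rcases eq_or_ne j i with rfl | hj
      · simpa using hb
      · simp [Pi.single_eq_of_ne hj]
    rwa [dotProduct_single] at h
  · exact Submodule.sum_mem _ fun i _ => mem_condK.1 (hv i (Set.mem_univ i)) _ (hy i (Set.mem_univ i))

omit [IsNoetherianRing O] [IsLocalRing O] [Ring.KrullDimLE 1 O] [IsDomain O] [IsFractionRing O K] in
theorem dual_one_piOne : dual O K (1 : Submodule O K) (piOne O K n) = piOne O K n := by
  classical
  ext v
  refine ⟨fun hv i _ => ?_, fun hv y hy => ?_⟩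
  · have h := hv (Pi.single i 1) fun j _ => by
      rcases eq_or_ne j i with rfl | hj
      · simpa using Submodule.mem_one.2 ⟨1, map_one _⟩
      · simp [Pi.single_eq_of_ne hj]
    rwa [dotProduct_single, mul_one] at h
  · refine Submodule.sum_mem _ fun i _ => ?_
    obtain ⟨a, ha⟩ := Submodule.mem_one.1 (hv i (Set.mem_univ i))
    obtain ⟨b, hb⟩ := Submodule.mem_one.1 (hy i (Set.mem_univ i))
    exact Submodule.mem_one.2 ⟨a * b, by rw [map_mul, ha, hb]⟩

omit [IsNoetherianRing O] [IsLocalRing O] [Ring.KrullDimLE 1 O] in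
theorem one_fg : (1 : Submodule O K).FG := by
  rw [Submodule.one_eq_span]
  exact Submodule.fg_span_singleton _

omit [IsNoetherianRing O] [IsLocalRing O] [Ring.KrullDimLE 1 O] [IsDomain O] [IsFractionRing O K] in
theorem one_ne_bot : (1 : Submodule O K) ≠ ⊥ := fun h =>
  one_ne_zero ((Submodule.mem_bot O).1 (h ▸ (Submodule.mem_one.2 ⟨1, map_one _⟩ : (1 : K) ∈ (1 : Submodule O K))))

theorem not_isField_of_dim (hdim : ringKrullDim O = 1) : ¬ IsField O := fun h =>
  absurd ((ringKrullDim_eq_zero_of_isField h).symm.trans hdim) (by decide)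

theorem gorenstein_injDim [LocCoh.IsGorensteinLocalRing O] (hdim : ringKrullDim O = 1) :
    HasInjectiveDimensionLT (ModuleCat.of O ↥(1 : Submodule O K)) 2 := by
  obtain ⟨d, hd, -, hv⟩ := LC.gorenstein_basic (R := O)
  obtain rfl : d = 1 := by rw [hdim] at hd; exact_mod_cast hd.symm
  haveI : HasInjectiveDimensionLT (ModuleCat.of O O) 2 :=
    LC.hasInjectiveDimensionLE_of_residue (R := O) O 1 fun j hj => hv _ j hj
  let e : O ≃ₗ[O] ↥(1 : Submodule O K) :=
    (LinearEquiv.ofInjective (Algebra.linearMap O K) (IsFractionRing.injective O K)).trans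
      (LinearEquiv.ofEq _ _ (by rw [Submodule.one_eq_range]))
  exact hasInjectiveDimensionLT_of_iso e.toModuleIso 2

end Groth.Agent.TFCurvLib.Lattice
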