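import Groth.Agent.TFCurvLib.Lattice
import Mathlib.Algebra.Algebra.Operations

/-!
# Duality of rank-one lattices
-/

set_option linter.style.haveILetI false

universe u

open CategoryTheory
open scoped Matrix

namespace Groth.Agent.TFCurvLib.Lattice

variable {O : Type u} [CommRing O] [IsDomain O] [IsNoetherianRing O] [IsLocalRing O] [Ring.KrullDimLE 1 O]
  {K : Type u} [Field K] [Algebra O K] [IsFractionRing O K]

/-- `K ≅ K^1`. -/
noncomputable def toVec : K ≃ₗ[O] (Fin 1 → K) := (LinearEquiv.funUnique (Fin 1) O K).symm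

omit [IsDomain O] [IsNoetherianRing O] [IsLocalRing O] [Ring.KrullDimLE 1 O] [IsFractionRing O K] in
theorem mem_map_toVec {N : Submodule O K} {v : Fin 1 → K} :
    v ∈ N.map (toVec (O := O) (K := K)).toLinearMap ↔ v 0 ∈ N := by
  constructor
  · rintro ⟨x, hx, rfl⟩
    simpa [toVec] using hx
  · intro hv
    exact ⟨v 0, hv, funext fun i => by simp [toVec, Fin.fin_one_eq_zero i]⟩

omit [IsDomain O] [IsNoetherianRing O] [IsLocalRing O] [Ring.KrullDimLE 1 O] [IsFractionRing O K] in
theorem dual_map_toVec (ω N : Submodule O K) :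
    dual O K ω (N.map (toVec (O := O) (K := K)).toLinearMap) = (ω / N).map (toVec (O := O) (K := K)).toLinearMap := by
  ext v
  rw [mem_map_toVec, Submodule.mem_div_iff_forall_mul_mem]
  constructor
  · intro hv y hy
    have h := hv (fun _ => y) (mem_map_toVec.2 hy)
    simpa [dotProduct] using h
  · intro hv y hy
    have h := hv (y 0) (mem_map_toVec.1 hy)
    simpa [dotProduct] using h

omit [IsDomain O] [IsNoetherianRing O] [IsLocalRing O] [Ring.KrullDimLE 1 O] [IsFractionRing O K] in
theorem isLat_map_toVec {N : Submodule O K} (hfg : N.FG) (h0 : N ≠ ⊥) :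
    IsLat O K (N.map (toVec (O := O) (K := K)).toLinearMap) := by
  refine ⟨hfg.map _, eq_top_iff.2 fun v _ => ?_⟩
  obtain ⟨w, hw, hw0⟩ := Submodule.exists_mem_ne_zero_of_ne_bot h0
  rw [show v = (v 0 / w) • (fun _ : Fin 1 => w) from funext fun i => by
    rw [Fin.fin_one_eq_zero i, Pi.smul_apply, smul_eq_mul, div_mul_cancel₀ _ hw0]]
  exact Submodule.smul_mem _ _ (Submodule.subset_span (mem_map_toVec.2 hw))

variable (ω : Submodule O K) (hfg : ω.FG) (h0 : ω ≠ ⊥) (hinj : HasInjectiveDimensionLT (ModuleCat.of O ↥ω) 2)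
  (hnf : ¬ IsField O)

include hfg h0 hinj hnf in
theorem dlen_div {N L : Submodule O K} (hN : N.FG) (hN0 : N ≠ ⊥) (hL : L.FG) (h : N ≤ L) :
    dlen (ω / L) (ω / N) = dlen N L := by
  have hL0 : L ≠ ⊥ := fun hb => hN0 (le_bot_iff.1 (hb ▸ h))
  have := dlen_dual ω hfg h0 hinj hnf (isLat_map_toVec hN hN0) (isLat_map_toVec hL hL0) (Submodule.map_mono h)
  rw [dual_map_toVec, dual_map_toVec, dlen_map, dlen_map] at this
  exact this

include hfg h0 hinj hnf in
theorem div_div {L : Submodule O K} (hL : L.FG) (hL0 : L ≠ ⊥) : ω / (ω / L) = L := by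
  have h := dual_dual ω hfg h0 hinj hnf (isLat_map_toVec hL hL0)
  rw [dual_map_toVec, dual_map_toVec] at h
  exact Submodule.map_injective_of_injective (toVec (O := O) (K := K)).injective h

omit [IsNoetherianRing O] [IsLocalRing O] [Ring.KrullDimLE 1 O] in
theorem one_submodule_fg : (1 : Submodule O K).FG := by
  rw [Submodule.one_eq_span]
  exact Submodule.fg_span_singleton _

omit [IsNoetherianRing O] [IsLocalRing O] [Ring.KrullDimLE 1 O] [IsDomain O] [IsFractionRing O K] in
theorem one_submodule_ne_bot : (1 : Submodule O K) ≠ ⊥ := fun h =>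
  one_ne_zero ((Submodule.mem_bot O).1 (h ▸ (Submodule.mem_one.2 ⟨1, map_one _⟩ : (1 : K) ∈ (1 : Submodule O K))))

omit [IsNoetherianRing O] [IsLocalRing O] [Ring.KrullDimLE 1 O] [IsDomain O] [IsFractionRing O K] in
theorem div_one' : ω / (1 : Submodule O K) = ω := by
  ext x
  rw [Submodule.mem_div_iff_forall_mul_mem]
  constructor
  · intro h
    simpa using h 1 (Submodule.mem_one.2 ⟨1, map_one _⟩)
  · intro h y hy
    obtain ⟨c, rfl⟩ := Submodule.mem_one.1 hy
    rw [mul_comm, ← Algebra.smul_def]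
    exact ω.smul_mem c h

end Groth.Agent.TFCurvLib.Lattice
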