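import Mathlib.RingTheory.Length
import Mathlib.Data.ENat.BigOperators
import Mathlib.RingTheory.OrderOfVanishing.Basic
import Mathlib.RingTheory.Noetherian.Basic

/-!
# Lengths modulo a regular element over a one-dimensional ring
-/

universe u v w

namespace TFCurvLib

variable {O : Type u} [CommRing O] {M : Type v} [AddCommGroup M] [Module O M]
  {N : Type w} [AddCommGroup N] [Module O N] (x : O)

/-- The submodule `x M`. -/
abbrev xSub (M : Type v) [AddCommGroup M] [Module O M] : Submodule O M :=
  LinearMap.range (LinearMap.lsmul O M x)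

/-- `length(M/xM) = length(N/xN)` if `N ⊆ M` has finite colength and `x` is regular. -/
theorem length_quot_eq (f : N →ₗ[O] M) (hf : Function.Injective f) (hx : IsSMulRegular M x)
    (hC : Module.length O (M ⧸ LinearMap.range f) ≠ ⊤) :
    Module.length O (M ⧸ xSub x M) = Module.length O (N ⧸ xSub x N) := by
  set P := LinearMap.range f
  set xP := P.map (LinearMap.lsmul O M x) with hxP
  have hxPP : xP ≤ P := by
    rintro _ ⟨p, hp, rfl⟩
    exact P.smul_mem x hp
  have hxPM : xP ≤ xSub x M := LinearMap.map_le_range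
  let a : (N ⧸ xSub x N) →ₗ[O] (M ⧸ xP) := Submodule.mapQ _ _ f (by
    rintro _ ⟨v, rfl⟩
    exact ⟨f v, LinearMap.mem_range_self f v, by simp⟩)
  have ha : Function.Injective a := by
    rw [injective_iff_map_eq_zero]
    intro v hv
    obtain ⟨v, rfl⟩ := Submodule.Quotient.mk_surjective _ v
    obtain ⟨_, ⟨w, rfl⟩, hw⟩ := (Submodule.Quotient.mk_eq_zero _).mp hv
    refine (Submodule.Quotient.mk_eq_zero _).mpr ⟨w, hf ?_⟩
    rw [← hw]; simp
  have hexact : Function.Exact a (Submodule.factor hxPP) := by
    rw [LinearMap.exact_iff]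
    refine le_antisymm (fun v hv => ?_) ?_
    · obtain ⟨v, rfl⟩ := Submodule.Quotient.mk_surjective _ v
      obtain ⟨w, rfl⟩ := (Submodule.Quotient.mk_eq_zero _).mp (LinearMap.mem_ker.mp hv)
      exact ⟨Submodule.Quotient.mk w, rfl⟩
    · rintro _ ⟨w, rfl⟩
      obtain ⟨w, rfl⟩ := Submodule.Quotient.mk_surjective _ w
      exact (Submodule.Quotient.mk_eq_zero _).mpr (LinearMap.mem_range_self f w)
  have e1 := Module.length_eq_add_of_exact a _ ha (Submodule.factor_surjective hxPP) hexact
  let b : (M ⧸ P) →ₗ[O] (M ⧸ xP) := Submodule.mapQ _ _ (LinearMap.lsmul O M x) (by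
    intro p hp; exact ⟨p, hp, rfl⟩)
  have hb : Function.Injective b := by
    rw [injective_iff_map_eq_zero]
    intro v hv
    obtain ⟨v, rfl⟩ := Submodule.Quotient.mk_surjective _ v
    obtain ⟨p, hp, hpv⟩ := (Submodule.Quotient.mk_eq_zero _).mp hv
    exact (Submodule.Quotient.mk_eq_zero _).mpr ((hx hpv : p = v) ▸ hp)
  have hexact' : Function.Exact b (Submodule.factor hxPM) := by
    rw [LinearMap.exact_iff]
    refine le_antisymm (fun v hv => ?_) ?_
    · obtain ⟨v, rfl⟩ := Submodule.Quotient.mk_surjective _ v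
      obtain ⟨w, rfl⟩ := (Submodule.Quotient.mk_eq_zero _).mp (LinearMap.mem_ker.mp hv)
      exact ⟨Submodule.Quotient.mk w, rfl⟩
    · rintro _ ⟨w, rfl⟩
      obtain ⟨w, rfl⟩ := Submodule.Quotient.mk_surjective _ w
      exact (Submodule.Quotient.mk_eq_zero _).mpr (LinearMap.mem_range_self _ w)
  have e2 := Module.length_eq_add_of_exact b _ hb (Submodule.factor_surjective hxPM) hexact'
  rw [e1, add_comm] at e2
  exact (WithTop.add_left_cancel hC e2).symm

theorem length_quot_pi (n : ℕ) :
    Module.length O ((Fin n → O) ⧸ xSub x (Fin n → O)) = n * Ring.ord O x := by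
  let π : (Fin n → O) →ₗ[O] (Fin n → O ⧸ Ideal.span {x}) :=
    LinearMap.pi fun i => (Ideal.span {x}).mkQ ∘ₗ LinearMap.proj i
  have hsurj : Function.Surjective π := fun y => by
    choose a ha using fun i => Submodule.mkQ_surjective (Ideal.span {x}) (y i)
    exact ⟨a, funext ha⟩
  have hker : LinearMap.ker π = xSub x (Fin n → O) := by
    ext v
    constructor
    · intro hv
      have h : ∀ i, x ∣ v i := fun i => Ideal.mem_span_singleton.mp
        ((Submodule.Quotient.mk_eq_zero _).mp (congrFun (LinearMap.mem_ker.mp hv) i))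
      choose w hw using h
      exact ⟨w, funext fun i => (hw i).symm⟩
    · rintro ⟨w, rfl⟩
      exact LinearMap.mem_ker.mpr (funext fun i =>
        (Submodule.Quotient.mk_eq_zero _).mpr (Ideal.mem_span_singleton.mpr (dvd_mul_right _ _)))
  rw [((Submodule.quotEquivOfEq _ _ hker).symm.trans (π.quotKerEquivOfSurjective hsurj)).length_eq,
    Module.length_pi_of_fintype]
  simp [Ring.ord]

/-- Finitely generated torsion modules over a one-dimensional noetherian domain have finite length. -/
theorem length_ne_top_of_torsion [IsDomain O] [IsNoetherianRing O] [Ring.KrullDimLE 1 O]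
    [Module.Finite O M] (ht : ∀ v : M, ∃ s : O, s ≠ 0 ∧ s • v = 0) : Module.length O M ≠ ⊤ := by
  obtain ⟨g, v, hv⟩ := Module.Finite.exists_fin (R := O) (M := M)
  choose s hs hsv using fun i => ht (v i)
  let π : (∀ i : Fin g, O ⧸ Ideal.span {s i}) →ₗ[O] M :=
    ∑ i, (Submodule.liftQ _ (LinearMap.toSpanSingleton O M (v i)) (by
      rw [Ideal.span, Submodule.span_le, Set.singleton_subset_iff]
      exact hsv i)) ∘ₗ LinearMap.proj i
  have hπ : Function.Surjective π := by
    intro y
    obtain ⟨c, rfl⟩ := (Submodule.mem_span_range_iff_exists_fun O).mp (hv ▸ Submodule.mem_top (x := y))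
    refine ⟨fun i => Submodule.Quotient.mk (c i), ?_⟩
    simp only [π, LinearMap.sum_apply, LinearMap.comp_apply, LinearMap.proj_apply]
    exact Finset.sum_congr rfl fun i _ => rfl
  refine ne_top_of_le_ne_top ?_ (Module.length_le_of_surjective π hπ)
  rw [Module.length_pi_of_fintype]
  exact ENat.sum_ne_top.mpr fun i _ => Ring.ord_ne_top (mem_nonZeroDivisors_of_ne_zero (hs i))

end TFCurvLib
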