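import Groth.Agent.TFCurvLib.Conductor
import Mathlib.RingTheory.IntegralClosure.IsIntegralClosure.Basic

/-!
# Lattices of prescribed colength over the conductor
-/

set_option linter.style.haveILetI false

universe u

open scoped TensorProduct

namespace Groth.Agent.TFCurvLib.Lattice

variable {O : Type u} [CommRing O] [IsDomain O] [IsNoetherianRing O] [IsLocalRing O] [Ring.KrullDimLE 1 O]
  {K : Type u} [Field K] [Algebra O K] [IsFractionRing O K] {n : ℕ}

local notation "B" => integralClosure O K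

theorem mulBar {a b : K} (ha : a ∈ B) (hb : b ∈ B) : a * b ∈ Subalgebra.toSubmodule B :=
  (Subalgebra.mem_toSubmodule _).2 (mul_mem ha hb)

theorem exists_residue_lift [IsAlgClosed (IsLocalRing.ResidueField O)] (hfin : Module.Finite O ↥B) (I : Ideal ↥B)
    [I.IsMaximal] (b : ↥B) : ∃ o : O, b - algebraMap O ↥B o ∈ I := by
  haveI := hfin
  let m := IsLocalRing.maximalIdeal O
  letI : Field (O ⧸ m) := Ideal.Quotient.field m
  haveI : IsAlgClosed (O ⧸ m) := ‹IsAlgClosed (IsLocalRing.ResidueField O)›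
  letI : Field (↥B ⧸ I) := Ideal.Quotient.field I
  haveI : (I.comap (algebraMap O ↥B)).IsMaximal := Ideal.isMaximal_comap_of_isIntegral_of_isMaximal I
  have hle : m ≤ I.comap (algebraMap O ↥B) :=
    (IsLocalRing.eq_maximalIdeal ‹(I.comap (algebraMap O ↥B)).IsMaximal›).ge
  letI : Algebra (O ⧸ m) (↥B ⧸ I) :=
    (Ideal.Quotient.lift m (algebraMap O (↥B ⧸ I)) fun a ha => Ideal.Quotient.eq_zero_iff_mem.2 (hle ha)).toAlgebra
  haveI : IsScalarTower O (O ⧸ m) (↥B ⧸ I) := IsScalarTower.of_algebraMap_eq fun _ => rfl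
  haveI : Algebra.IsIntegral O (↥B ⧸ I) := inferInstance
  haveI : Algebra.IsIntegral (O ⧸ m) (↥B ⧸ I) := ⟨fun x => (Algebra.IsIntegral.isIntegral (R := O) x).tower_top⟩
  obtain ⟨q, hq⟩ := (IsAlgClosed.algebraMap_bijective_of_isIntegral (k := O ⧸ m) (K := ↥B ⧸ I)).2
    (Ideal.Quotient.mk I b)
  obtain ⟨o, rfl⟩ := Ideal.Quotient.mk_surjective q
  exact ⟨o, (Ideal.Quotient.eq).1 hq.symm⟩

/-- A `B`-stable submodule seen over `O`. -/
abbrev rs (P : Submodule ↥B (Fin n → K)) : Submodule O (Fin n → K) := P.restrictScalars O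

theorem exists_step [IsAlgClosed (IsLocalRing.ResidueField O)] (hfin : Module.Finite O ↥B)
    {P P₁ : Submodule ↥B (Fin n → K)} (hlt : P < P₁) :
    ∃ P', P ≤ P' ∧ P' ≤ P₁ ∧ dlen (rs P) (rs P') = 1 ∨ dlen (rs P) (rs P₁) = ⊤ := by
  classical
  by_cases htop : dlen (rs P) (rs P₁) = ⊤
  · exact ⟨P, Or.inr htop⟩
  let S : Set (Submodule ↥B (Fin n → K)) := {Q | P < Q ∧ Q ≤ P₁}
  obtain ⟨_, ⟨Q, ⟨hPQ, hQP⟩, rfl⟩, hmin'⟩ := wellFounded_lt.has_min ((fun Q => dlen (rs P) (rs Q)) '' S)
    ⟨_, Set.mem_image_of_mem _ (show P₁ ∈ S from ⟨hlt, le_rfl⟩)⟩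
  have hmin : ∀ Q' ∈ S, dlen (rs P) (rs Q) ≤ dlen (rs P) (rs Q') := fun Q' hQ' =>
    not_lt.1 (hmin' _ (Set.mem_image_of_mem _ hQ'))
  obtain ⟨v, hvQ, hvP⟩ := SetLike.exists_of_lt hPQ
  have hspan : ∀ w ∈ Q, w ∉ P → P ⊔ Submodule.span ↥B {w} = Q := by
    intro w hw hwP
    have hlt' : P < P ⊔ Submodule.span ↥B {w} := lt_of_le_of_ne le_sup_left fun h =>
      hwP (h ▸ Submodule.mem_sup_right (Submodule.mem_span_singleton_self w))
    have hle : P ⊔ Submodule.span ↥B {w} ≤ Q :=
      sup_le hPQ.le ((Submodule.span_singleton_le_iff_mem _ _).2 hw)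
    have h1 : dlen (rs P) (rs (P ⊔ Submodule.span ↥B {w})) + dlen (rs (P ⊔ Submodule.span ↥B {w})) (rs Q) =
        dlen (rs P) (rs Q) := (dlen_add (show rs P ≤ _ from hlt'.le) (show _ ≤ rs Q from hle)).symm
    have h2 := hmin _ ⟨hlt', hle.trans hQP⟩
    have hfinQ : dlen (rs P) (rs Q) ≠ ⊤ := by
      refine ne_top_of_le_ne_top htop ?_
      rw [dlen_add (show rs P ≤ rs Q from hPQ.le) (show rs Q ≤ rs P₁ from hQP)]
      exact self_le_add_right _ _
    have h3 : dlen (rs (P ⊔ Submodule.span ↥B {w})) (rs Q) = 0 := by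
      have hA : dlen (rs P) (rs (P ⊔ Submodule.span ↥B {w})) ≠ ⊤ :=
        ne_top_of_le_ne_top hfinQ (h1 ▸ self_le_add_right _ _)
      have h4 : dlen (rs P) (rs (P ⊔ Submodule.span ↥B {w})) + dlen (rs (P ⊔ Submodule.span ↥B {w})) (rs Q) ≤
          dlen (rs P) (rs (P ⊔ Submodule.span ↥B {w})) + 0 := by
        rw [h1, add_zero]; exact h2
      exact le_antisymm ((WithTop.add_le_add_iff_left hA).1 h4) zero_le
    exact Submodule.restrictScalars_injective O _ _ (eq_of_dlen_eq_zero (show _ ≤ rs Q from hle) h3)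
  let I : Ideal ↥B := P.comap (LinearMap.toSpanSingleton ↥B _ v)
  have hI : ∀ b : ↥B, b ∈ I ↔ b • v ∈ P := fun b => Iff.rfl
  haveI : I.IsMaximal := by
    refine Ideal.isMaximal_iff.2 ⟨fun h => hvP (by simpa [hI] using h), fun J b hIJ hb hbJ => ?_⟩
    have h := hspan (b • v) (Q.smul_mem b hvQ) fun h => hb ((hI b).2 h)
    obtain ⟨p, hp, w, hw, hpw⟩ := Submodule.mem_sup.1 (h.symm ▸ hvQ)
    obtain ⟨c, rfl⟩ := Submodule.mem_span_singleton.1 hw
    have h1 : 1 - c * b ∈ I := by
      rw [hI, sub_smul, one_smul, mul_smul]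
      nth_rw 1 [← hpw]
      rwa [add_sub_cancel_right]
    simpa using J.add_mem (hIJ h1) (J.mul_mem_left c hbJ)
  refine ⟨Q, Or.inl ⟨hPQ.le, hQP, ?_⟩⟩
  let f : O →ₗ[O] (↥(rs Q) ⧸ (rs P).comap (rs Q).subtype) :=
    Submodule.mkQ _ ∘ₗ LinearMap.toSpanSingleton O ↥(rs Q) ⟨v, hvQ⟩
  have hsurj : Function.Surjective f := by
    intro y
    obtain ⟨y, rfl⟩ := Submodule.Quotient.mk_surjective _ y
    have hy : y.1 ∈ P ⊔ Submodule.span ↥B {v} := (hspan v hvQ hvP).symm ▸ y.2
    obtain ⟨p, hp, w, hw, hpw⟩ := Submodule.mem_sup.1 hy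
    obtain ⟨c, rfl⟩ := Submodule.mem_span_singleton.1 hw
    obtain ⟨o, ho⟩ := exists_residue_lift hfin I c
    refine ⟨o, (Submodule.Quotient.eq _).2 ?_⟩
    show o • v - y.1 ∈ P
    rw [← hpw, ← algebraMap_smul ↥B o v]
    have : algebraMap O ↥B o • v - (p + c • v) = -p - (c - algebraMap O ↥B o) • v := by
      rw [sub_smul]; abel
    rw [this]
    exact P.sub_mem (P.neg_mem hp) ((hI _).1 ho)
  have hker : LinearMap.ker f = IsLocalRing.maximalIdeal O := by
    refine ((IsLocalRing.isMaximal_iff O).1 (?_ : Ideal.IsMaximal (LinearMap.ker f)))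
    have : (LinearMap.ker f : Ideal O) = I.comap (algebraMap O ↥B) := by
      ext o
      rw [LinearMap.mem_ker, Ideal.mem_comap, hI, algebraMap_smul]
      exact Submodule.Quotient.mk_eq_zero _
    rw [this]
    exact Ideal.isMaximal_comap_of_isIntegral_of_isMaximal I
  rw [dlen, ← (f.quotKerEquivOfSurjective hsurj).length_eq, hker, Module.length_eq_one_iff]
  exact isSimpleModule_iff_quot_maximal.2 ⟨_, inferInstance, ⟨LinearEquiv.refl _ _⟩⟩

theorem exists_intermediate [IsAlgClosed (IsLocalRing.ResidueField O)] (hfin : Module.Finite O ↥B)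
    {P₀ P₁ : Submodule ↥B (Fin n → K)} (h : P₀ ≤ P₁) (htop : dlen (rs P₀) (rs P₁) ≠ ⊤) (d : ℕ)
    (hd : (d : ℕ∞) ≤ dlen (rs P₀) (rs P₁)) : ∃ P, P₀ ≤ P ∧ P ≤ P₁ ∧ dlen (rs P₀) (rs P) = d := by
  induction d with
  | zero => exact ⟨P₀, le_rfl, h, by rw [dlen_self]; rfl⟩
  | succ d ih =>
    obtain ⟨P, h1, h2, h3⟩ := ih (le_trans (by exact_mod_cast Nat.le_succ d) hd)
    have hne : P ≠ P₁ := by
      rintro rfl
      rw [h3, Nat.cast_le] at hd
      omega
    have hadd := dlen_add (show rs P₀ ≤ rs P from h1) (show rs P ≤ rs P₁ from h2)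
    obtain ⟨P', ⟨h4, h5, h6⟩ | h'⟩ := exists_step hfin (lt_of_le_of_ne h2 hne)
    · refine ⟨P', h1.trans h4, h5, ?_⟩
      rw [dlen_add (show rs P₀ ≤ rs P from h1) (show rs P ≤ rs P' from h4), h3, h6]
      push_cast
      rfl
    · exact absurd (by rw [hadd, h']; exact add_top _) htop

/-- Two `B`-lattices are isomorphic. -/
theorem nonempty_bLattice_equiv (hfin : Module.Finite O ↥B) (P : Submodule ↥B (Fin n → K)) (hP : IsLat O K (rs P))
    [IsPrincipalIdealRing ↥B] [IsFractionRing ↥B K] : Nonempty (P ≃ₗ[↥B] (Fin n → ↥B)) := by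
  classical
  haveI : Module.Finite O ↥(rs P) := Module.Finite.iff_fg.2 hP.fg
  haveI : Module.Finite O ↥P := ‹Module.Finite O ↥(rs P)›
  haveI : Module.Finite ↥B P := Module.Finite.of_restrictScalars_finite O ↥B P
  let bP := Module.Free.chooseBasis ↥B P
  have hli : LinearIndependent K fun a => ((bP a : P) : Fin n → K) :=
    (LinearIndependent.iff_fractionRing ↥B K).1 (bP.linearIndependent.map' P.subtype (Submodule.ker_subtype _))
  have hsp : Submodule.span K (Set.range fun a => ((bP a : P) : Fin n → K)) = ⊤ := by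
    refine eq_top_iff.2 (hP.span_top ▸ Submodule.span_le.2 fun x hx => ?_)
    have h := congrArg (Submodule.map P.subtype) bP.span_eq
    rw [Submodule.map_span, Submodule.map_top, Submodule.range_subtype, ← Set.range_comp] at h
    exact Submodule.span_le_restrictScalars ↥B K _ (h.symm ▸ (show x ∈ P from hx))
  have hcard : Fintype.card (Module.Free.ChooseBasisIndex ↥B P) = n := by
    rw [← Module.finrank_eq_card_basis (Module.Basis.mk hli (le_of_eq hsp.symm)), Module.finrank_fin_fun]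
  exact ⟨(bP.reindex (Fintype.equivFinOfCardEq hcard)).equivFun⟩

theorem exists_colength [IsAlgClosed (IsLocalRing.ResidueField O)] (hfin : Module.Finite O ↥B)
    [IsPrincipalIdealRing ↥B] [IsFractionRing ↥B K] {L L'' : Submodule O (Fin n → K)}
    (h1 : piOne O K n ≤ L) (h2 : L ≤ piBar O K n) (h1' : piCond O K n ≤ L'') (h2' : L'' ≤ piOne O K n)
    (hC : IsLat O K (piCond O K n)) (e : L ≃ₗ[O] L'') :
    ∃ M' : Submodule O (Fin n → K), piCond O K n ≤ M' ∧ M' ≤ piBar O K n ∧ Nonempty (L ≃ₗ[O] M') ∧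
      dlen (piCond O K n) M' = dlen (piCond O K n) (piOne O K n) := by
  classical
  have hL : IsLat O K L := isLat_of_le hfin h1 h2
  have hL'' : IsLat O K L'' := hC.mono h1' (by
    haveI : IsNoetherian O ↥(piBar O K n) := isNoetherian_of_fg_of_noetherian _ (piBar_fg hfin)
    exact isNoetherian_submodule.1 inferInstance _ (h2'.trans piOne_le_piBar))
  obtain ⟨h, hh⟩ := exists_equiv_map hL hL'' e
  let hO : (Fin n → K) ≃ₗ[O] (Fin n → K) := h.restrictScalars O
  let P₀ : Submodule ↥B (Fin n → K) :=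
    { (piCond O K n) with
      smul_mem' := fun b v hv i hi => mem_condK.2 fun c hc => by
        show ((b : K) * v i) * c ∈ _
        rw [mul_assoc, mul_left_comm]
        exact mem_condK.1 (hv i hi) _ (mul_mem b.2 hc) }
  have hP₀ : rs P₀ = piCond O K n := rfl
  let Bbar : Submodule ↥B (Fin n → K) :=
    { (piBar O K n) with smul_mem' := fun b v hv i hi => mulBar b.2 (hv i hi) }
  let P₁ : Submodule ↥B (Fin n → K) := P₀.comap (h.toLinearMap.restrictScalars ↥B)
  have hbar : ∀ v ∈ piBar O K n, h v ∈ piBar O K n := by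
    intro v hv
    rw [← Finset.univ_sum_single v, map_sum]
    refine Submodule.sum_mem _ fun i _ => ?_
    rw [show (Pi.single i (v i) : Fin n → K) = v i • Pi.single i 1 by rw [← Pi.single_smul', smul_eq_mul, mul_one],
      map_smul]
    have hone : (Pi.single i (1 : K) : Fin n → K) ∈ piOne O K n := fun j _ => by
      rcases eq_or_ne j i with rfl | hj
      · simpa using Submodule.mem_one.2 ⟨1, map_one _⟩
      · simp [Pi.single_eq_of_ne hj]
    have hm : h (Pi.single i 1) ∈ piBar O K n :=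
      piOne_le_piBar (h2' (hh ▸ Submodule.mem_map_of_mem (h1 hone)))
    exact fun j hj => mulBar (hv i (Set.mem_univ i)) (hm j hj)
  have hcond : ∀ v ∈ piCond O K n, h v ∈ piCond O K n := by
    intro v hv
    rw [← dual_one_piBar] at hv ⊢
    intro y hy
    -- expand in coordinates
    rw [← Finset.univ_sum_single v, map_sum, sum_dotProduct]
    refine Submodule.sum_mem _ fun i _ => ?_
    rw [show (Pi.single i (v i) : Fin n → K) = v i • Pi.single i 1 by rw [← Pi.single_smul', smul_eq_mul, mul_one],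
      map_smul, smul_dotProduct, smul_eq_mul]
    rw [dual_one_piBar] at hv
    refine mem_condK.1 (hv i (Set.mem_univ i)) _ ((integralClosure O K).sum_mem fun j _ => ?_)
    refine mul_mem (hbar _ (fun l _ => ?_) j (Set.mem_univ j)) (hy j (Set.mem_univ j))
    rcases eq_or_ne l i with rfl | hl
    · simp [(integralClosure O K).one_mem]
    · simp [Pi.single_eq_of_ne hl]
  have hP01 : P₀ ≤ P₁ := fun v hv => hcond v hv
  have hP1L : rs P₁ ≤ L := fun v hv => by
    obtain ⟨y, hy, hyv⟩ := (hh.symm ▸ h1' hv : h v ∈ L.map (h.toLinearMap.restrictScalars O))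
    exact h.injective hyv ▸ hy
  have hmap1 : (rs P₁).map hO.toLinearMap = piCond O K n :=
    le_antisymm (Submodule.map_le_iff_le_comap.2 fun v hv => hv) fun v hv =>
      ⟨h.symm v, show h (h.symm v) ∈ piCond O K n by rwa [h.apply_symm_apply], h.apply_symm_apply v⟩
  have hP1fg : (rs P₁).FG := by
    haveI : IsNoetherian O ↥L := isNoetherian_of_fg_of_noetherian _ hL.fg
    exact isNoetherian_submodule.1 inferInstance _ hP1L
  have hP1lat : IsLat O K (rs P₁) := hC.mono (hP₀ ▸ hP01) hP1fg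
  have hCL : piCond O K n ≤ L := piCond_le_piOne.trans h1
  obtain ⟨d, hd⟩ := ENat.ne_top_iff_exists.1 (dlen_ne_top O K isLat_pi_one hL)
  have hA := dlen_add piCond_le_piOne h1
  have hBd := dlen_add (show piCond O K n ≤ rs P₁ from hP01) hP1L
  have hle : dlen (rs P₁) L ≤ dlen (piCond O K n) (piOne O K n) := by
    rw [← dlen_map hO, hmap1, show L.map hO.toLinearMap = L'' from hh, dlen_add h1' h2']
    exact self_le_add_right _ _
  have hd1 : (d : ℕ∞) ≤ dlen (rs P₀) (rs P₁) := by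
    obtain ⟨a, ha⟩ := ENat.ne_top_iff_exists.1 (dlen_ne_top O K hC (isLat_pi_one (n := n)))
    obtain ⟨b, hb⟩ := ENat.ne_top_iff_exists.1 (dlen_ne_top O K hP1lat hL)
    obtain ⟨c, hc⟩ := ENat.ne_top_iff_exists.1 (dlen_ne_top O K hC hP1lat)
    rw [hA, ← hd, ← ha, ← hb, ← hc] at hBd
    rw [← ha, ← hb] at hle
    rw [hP₀, ← hc]
    norm_cast at hBd hle ⊢
    omega
  obtain ⟨P, hP0P, hPP1, hPd⟩ := exists_intermediate hfin hP01 (hP₀ ▸ dlen_ne_top O K hC hP1lat) d hd1
  have hPL : rs P ≤ L := le_trans (show rs P ≤ rs P₁ from hPP1) hP1L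
  have hPlat : IsLat O K (rs P) := by
    refine hC.mono (show piCond O K n ≤ rs P from hP0P) ?_
    haveI : IsNoetherian O ↥L := isNoetherian_of_fg_of_noetherian _ hL.fg
    exact isNoetherian_submodule.1 inferInstance _ hPL
  obtain ⟨a⟩ := nonempty_bLattice_equiv hfin P hPlat
  obtain ⟨b⟩ := nonempty_bLattice_equiv hfin P₀ hC
  obtain ⟨g, hg⟩ := exists_equiv_map hPlat hC ((a.trans b.symm).restrictScalars O)
  let gO : (Fin n → K) ≃ₗ[O] (Fin n → K) := g.restrictScalars O
  have hgC : ∀ v ∈ piCond O K n, g v ∈ piCond O K n := fun v hv => hg ▸ Submodule.mem_map_of_mem (hP0P hv)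
  have hCfg : (condK O K).FG ∧ ∀ i : Fin n, condK O K ≠ ⊥ := by
    refine ⟨?_, fun i hbot => ?_⟩
    · haveI : IsNoetherian O ↥(1 : Submodule O K) := isNoetherian_of_fg_of_noetherian _ one_fg
      exact isNoetherian_submodule.1 inferInstance _ fun z hz => by
        have h := mem_condK.1 hz 1 (one_mem _)
        rwa [mul_one] at h
    · obtain ⟨s, hs, hsv⟩ := hC.exists_smul_mem (Pi.single i (1 : K))
      have h0 : (s • (Pi.single i (1 : K) : Fin n → K)) i ∈ condK O K := hsv i (Set.mem_univ i)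
      rw [hbot, Submodule.mem_bot, Pi.smul_apply, Pi.single_eq_same, Algebra.smul_def, mul_one] at h0
      exact hs (IsFractionRing.to_map_eq_zero_iff.1 h0)
  have hgbar : ∀ v ∈ piBar O K n, g v ∈ piBar O K n := by
    intro v hv
    rw [← Finset.univ_sum_single v, map_sum]
    refine Submodule.sum_mem _ fun i _ => ?_
    rw [show (Pi.single i (v i) : Fin n → K) = v i • Pi.single i 1 by rw [← Pi.single_smul', smul_eq_mul, mul_one],
      map_smul]
    refine fun j hj => mulBar (hv i (Set.mem_univ i)) ?_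
    refine isIntegral_of_smul_mem_submodule (condK O K) (hCfg.2 i) hCfg.1 _ fun z hz => ?_
    have hsing : (Pi.single i z : Fin n → K) ∈ piCond O K n := fun l _ => by
      rcases eq_or_ne l i with rfl | hl
      · simpa using hz
      · simp [Pi.single_eq_of_ne hl]
    have := hgC _ hsing j hj
    rw [show (Pi.single i z : Fin n → K) = z • Pi.single i 1 by rw [← Pi.single_smul', smul_eq_mul, mul_one],
      map_smul] at this
    rw [smul_eq_mul, mul_comm]
    exact this
  refine ⟨L.map gO.toLinearMap, ?_, ?_, ⟨gO.submoduleMap L⟩, ?_⟩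
  · rw [show piCond O K n = (rs P).map gO.toLinearMap from hg.symm]
    exact Submodule.map_mono hPL
  · rintro _ ⟨v, hv, rfl⟩
    exact hgbar v (h2 hv)
  · have hfinal := dlen_add (show piCond O K n ≤ rs P from hP0P) hPL
    rw [show piCond O K n = (rs P).map gO.toLinearMap from hg.symm, dlen_map]
    rw [hA, ← hd] at hfinal
    rw [show dlen (piCond O K n) (rs P) = d from hPd, add_comm] at hfinal
    rw [← (show piCond O K n = (rs P).map gO.toLinearMap from hg.symm)]
    exact (WithTop.add_left_cancel (ENat.coe_ne_top d) hfinal).symm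

end Groth.Agent.TFCurvLib.Lattice
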