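import Groth.Agent.TFCurvLib.LatticeOne
import Groth.Agent.TFCurvLib.ExtOne
import Groth.Agent.TFCurvLib.Conductor
import Groth.Agent.CAlgMisc.TorsionFree

/-! Duality into a canonical module preserves `Ext`. -/

noncomputable section

namespace Groth.Agent.TFCurvLib.Duality

universe u

open CategoryTheory Abelian TFCurvLib

variable {O : Type u} [CommRing O] [IsDomain O] [IsNoetherianRing O] [IsLocalRing O] [Ring.KrullDimLE 1 O]
  {K : Type u} [Field K] [Algebra O K] [IsFractionRing O K] (ω : Submodule O K) (hfg : ω.FG) (h0 : ω ≠ ⊥)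
  (hinj : HasInjectiveDimensionLT (ModuleCat.of O ↥ω) 2) (hnf : ¬ IsField O)

/-- A short exact complex of modules. -/
abbrev mkC {A B C : Type u} [AddCommGroup A] [Module O A] [AddCommGroup B] [Module O B] [AddCommGroup C] [Module O C]
    (f : A →ₗ[O] B) (g : B →ₗ[O] C) (h : Function.Exact f g) : ShortComplex (ModuleCat.{u} O) :=
  ShortComplex.mk (ModuleCat.ofHom f) (ModuleCat.ofHom g)
    (ModuleCat.hom_ext (LinearMap.ext fun k => (h (f k)).2 ⟨k, rfl⟩))

omit [IsDomain O] [IsNoetherianRing O] [IsLocalRing O] [Ring.KrullDimLE 1 O] in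
theorem mkC_shortExact {A B C : Type u} [AddCommGroup A] [Module O A] [AddCommGroup B] [Module O B] [AddCommGroup C] [Module O C]
    {f : A →ₗ[O] B} {g : B →ₗ[O] C} (hf : Function.Injective f) (hg : Function.Surjective g) (h : Function.Exact f g) :
    (mkC f g h).ShortExact :=
  { exact := (ShortComplex.ShortExact.moduleCat_exact_iff_function_exact _).2 h
    mono_f := (ModuleCat.mono_iff_injective _).2 hf
    epi_g := (ModuleCat.epi_iff_surjective _).2 hg }

/-- The dual. -/
abbrev Dual (M : Type u) [AddCommGroup M] [Module O M] : Type u := M →ₗ[O] ↥ω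

include hfg in
theorem dual_finite (M : Type u) [AddCommGroup M] [Module O M] [Module.Finite O M] : Module.Finite O (Dual ω M) := by
  haveI : Module.Finite O ↥ω := (Submodule.fg_top _).1 ((Submodule.fg_top ω).2 hfg) |> Module.Finite.iff_fg.2
  exact inferInstance

omit [IsLocalRing O] [Ring.KrullDimLE 1 O] in
include hinj in
theorem ext_eq_zero (M : Type u) [AddCommGroup M] [Module O M] [Module.Finite O M] [Module.IsTorsionFree O M] {i : ℕ}
    (hi : 1 ≤ i) (x : Ext (ModuleCat.of O M) (ModuleCat.of O ↥ω) i) : x = 0 := by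
  obtain ⟨m, f, hf⟩ := CAlgMisc.exists_injective_free O M
  have hS := presentation_shortExact f (LinearMap.range f).mkQ hf
    (Submodule.mkQ_surjective _) (LinearMap.exact_map_mkQ_range f)
  obtain ⟨j, rfl⟩ : ∃ j, i = j + 1 := ⟨i - 1, by omega⟩
  haveI : Projective (ModuleCat.of O (Fin m → O)) :=
    (IsProjective.iff_projective (R := O) (Fin m → O)).1 inferInstance
  have h2 : ∀ e : Ext (ModuleCat.of O ((Fin m → O) ⧸ LinearMap.range f)) (ModuleCat.of O ↥ω) (j + 2),
      e = 0 := fun e => e.eq_zero_of_hasInjectiveDimensionLT 2 (by omega)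
  obtain ⟨y, rfl⟩ := Ext.contravariant_sequence_exact₁ hS (ModuleCat.of O ↥ω) x
    (show 1 + (j + 1) = j + 2 by omega) (h2 _)
  rw [y.eq_zero_of_projective, Ext.comp_zero]

omit [IsLocalRing O] [Ring.KrullDimLE 1 O] in
include hinj in
/-- Restriction to the kernel of a presentation is surjective on duals. -/
theorem lcomp_surjective {N F M : Type u} [AddCommGroup N] [Module O N] [AddCommGroup F] [Module O F] [Module.Projective O F]
    [AddCommGroup M] [Module O M] [Module.Finite O M] [Module.IsTorsionFree O M]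
    (f : N →ₗ[O] F) (g : F →ₗ[O] M) (hf : Function.Injective f) (hg : Function.Surjective g) (h : Function.Exact f g) :
    Function.Surjective (LinearMap.lcomp O ↥ω f) := by
  intro φ
  have : φ ∈ LinearMap.ker (extDelta f g hf hg h ↥ω) := ext_eq_zero ω hinj M le_rfl _
  rwa [extDelta_ker] at this

include hfg h0 hinj hnf in
/-- The endomorphisms of the canonical module are the scalars. -/
theorem end_eq_smul (f : ↥ω →ₗ[O] ↥ω) : ∃ r : O, ∀ w, f w = r • w := by
  obtain ⟨w0, hw0, hne⟩ := (Submodule.ne_bot_iff ω).1 h0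
  set c : K := (f ⟨w0, hw0⟩ : K) / w0 with hc
  have hcw : ∀ w : ↥ω, (f w : K) = c * w := fun w => by
    obtain ⟨a, ha, b, hab⟩ : ∃ a : O, a ≠ 0 ∧ ∃ b : O, algebraMap O K a * w = algebraMap O K b * w0 := by
      obtain ⟨b, a, ha, hba⟩ := IsFractionRing.div_surjective O ((w : K) / w0)
      have ha0 : algebraMap O K a ≠ 0 := fun h => nonZeroDivisors.ne_zero ha (IsFractionRing.to_map_eq_zero_iff.1 h)
      refine ⟨a, nonZeroDivisors.ne_zero ha, b, ?_⟩
      field_simp at hba
      linear_combination -hba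
    have h1 : a • w = b • (⟨w0, hw0⟩ : ↥ω) := Subtype.ext (by simpa [Algebra.smul_def] using hab)
    have h2 := congrArg (fun v => ((f v : ↥ω) : K)) h1
    simp only [map_smul, Submodule.coe_smul, Algebra.smul_def] at h2
    refine mul_left_cancel₀ (a := algebraMap O K a) (fun h => ha (IsFractionRing.to_map_eq_zero_iff.1 h)) ?_
    rw [h2, hc, mul_left_comm, hab]
    field_simp
  have hmem : c ∈ ω / ω := Submodule.mem_div_iff_forall_mul_mem.2 fun y hy => hcw ⟨y, hy⟩ ▸ (f ⟨y, hy⟩).2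
  have h1 := Lattice.div_div ω hfg h0 hinj hnf (L := (1 : Submodule O K)) Lattice.one_submodule_fg Lattice.one_submodule_ne_bot
  rw [Lattice.div_one'] at h1
  rw [h1] at hmem
  obtain ⟨r, hr⟩ := Submodule.mem_one.1 hmem
  exact ⟨r, fun w => Subtype.ext (by rw [hcw, ← hr, Submodule.coe_smul, Algebra.smul_def])⟩

include hfg h0 hinj hnf in
/-- Biduality. -/
theorem eval_bijective (M : Type u) [AddCommGroup M] [Module O M] [Module.Finite O M] [Module.IsTorsionFree O M] :
    Function.Bijective (LinearMap.applyₗ (R := O) : M → (Dual ω M →ₗ[O] ↥ω)) := by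
  classical
  obtain ⟨w0, hw0, hne⟩ := (Submodule.ne_bot_iff ω).1 h0
  refine ⟨(injective_iff_map_eq_zero _).2 fun x hx => ?_, fun ξ => ?_⟩
  · obtain ⟨m, j, hj⟩ := CAlgMisc.exists_injective_free O M
    refine hj (funext fun i => ?_)
    have h := congrArg Subtype.val (LinearMap.congr_fun hx (((LinearMap.toSpanSingleton O ↥ω ⟨w0, hw0⟩).comp (LinearMap.proj i)).comp j))
    rw [map_zero]
    simpa [LinearMap.toSpanSingleton_apply, Algebra.smul_def, hne] using h
  · obtain ⟨n, p, hp⟩ := Module.Finite.exists_fin' O M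
    haveI : Module.Finite O ↥(LinearMap.ker p) := Module.Finite.iff_fg.2 (IsNoetherian.noetherian _)
    have hE : Function.Exact (LinearMap.ker p).subtype p := LinearMap.exact_subtype_ker_map p
    have hres := lcomp_surjective ω hinj (LinearMap.ker p).subtype p (Submodule.injective_subtype _) hp hE
    haveI := dual_finite ω hfg M
    haveI := dual_finite ω hfg (Fin n → O)
    haveI := dual_finite ω hfg ↥(LinearMap.ker p)
    have hE' : Function.Exact (LinearMap.lcomp O ↥ω p) (LinearMap.lcomp O ↥ω (LinearMap.ker p).subtype) :=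
      LinearMap.exact_lcomp_of_exact_of_surjective _ hE hp
    -- extend `ξ` along `p^*`
    obtain ⟨η, hη⟩ : ∃ η : Dual ω (Fin n → O) →ₗ[O] ↥ω, η.comp (LinearMap.lcomp O ↥ω p) = ξ := by
      have hS' := mkC_shortExact (A := Dual ω M) (B := Dual ω (Fin n → O)) (C := Dual ω ↥(LinearMap.ker p))
        (f := LinearMap.lcomp O ↥ω p) (g := LinearMap.lcomp O ↥ω (LinearMap.ker p).subtype)
        (LinearMap.lcomp_injective_of_surjective p hp) hres hE'
      obtain ⟨y, hy⟩ := Ext.contravariant_sequence_exact₁ hS' _ (Ext.mk₀ (ModuleCat.ofHom ξ)) (add_zero 1)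
        (ext_eq_zero ω hinj (Dual ω ↥(LinearMap.ker p)) le_rfl _)
      obtain ⟨η, rfl⟩ := (Ext.mk₀_bijective _ _).2 y
      rw [Ext.mk₀_comp_mk₀] at hy
      exact ⟨η.hom, congrArg ModuleCat.Hom.hom ((Ext.mk₀_bijective _ _).1 hy)⟩
    choose r hr using fun i : Fin n => end_eq_smul ω hfg h0 hinj hnf
      (η.comp (LinearMap.lcomp O ↥ω (LinearMap.proj i) ∘ₗ (LinearMap.ringLmapEquivSelf O O ↥ω).symm.toLinearMap))
    refine ⟨p r, LinearMap.ext fun ψ => ?_⟩
    rw [← hη]
    change ψ (p r) = η (ψ.comp p)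
    generalize hv : ψ.comp p = v
    rw [show ψ (p r) = v r by rw [← hv]; rfl]
    have hdec : v = ∑ i, (LinearMap.lcomp O ↥ω (LinearMap.proj i))
        ((LinearMap.ringLmapEquivSelf O O ↥ω).symm (v (Pi.single i 1))) := LinearMap.ext fun x => by
      conv_lhs => rw [pi_eq_sum_univ' x]
      simp [LinearMap.coe_sum, Finset.sum_apply]
    conv_rhs => rw [hdec, map_sum]
    rw [pi_eq_sum_univ' r, map_sum]
    refine Finset.sum_congr rfl fun i _ => ?_
    rw [map_smul]
    exact (hr i (v (Pi.single i 1))).symm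

variable (n : ℕ)

omit [IsLocalRing O] [Ring.KrullDimLE 1 O] in
include hinj in
/-- `Ext` into the dual of a free module vanishes. -/
theorem ext_dual_free_eq_zero (M : Type u) [AddCommGroup M] [Module O M] [Module.Finite O M] [Module.IsTorsionFree O M] {i : ℕ}
    (hi : 1 ≤ i) (x : Ext (ModuleCat.of O M) (ModuleCat.of O (Dual ω (Fin n → O))) i) : x = 0 := by
  classical
  let π : Fin n → (ModuleCat.of O (Dual ω (Fin n → O)) ⟶ ModuleCat.of O ↥ω) := fun l =>
    ModuleCat.ofHom (LinearMap.applyₗ (R := O) (Pi.single l 1))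
  let ι : Fin n → (ModuleCat.of O ↥ω ⟶ ModuleCat.of O (Dual ω (Fin n → O))) := fun l =>
    ModuleCat.ofHom (LinearMap.lcomp O ↥ω (LinearMap.proj l) ∘ₗ (LinearMap.ringLmapEquivSelf O O ↥ω).symm.toLinearMap)
  have hid : 𝟙 (ModuleCat.of O (Dual ω (Fin n → O))) = ∑ l, π l ≫ ι l := by
    refine ModuleCat.hom_ext (LinearMap.ext fun v => ?_)
    rw [ModuleCat.hom_sum, LinearMap.coe_sum, Finset.sum_apply]
    refine LinearMap.ext fun w => ?_
    rw [LinearMap.coe_sum, Finset.sum_apply]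
    conv_lhs => rw [pi_eq_sum_univ' w]
    simp [π, ι]
  rw [← Ext.comp_mk₀_id x, hid, Ext.mk₀_sum, Ext.comp_sum]
  refine Finset.sum_eq_zero fun l _ => ?_
  rw [← Ext.mk₀_comp_mk₀, ← Ext.comp_assoc_of_second_deg_zero, ext_eq_zero ω hinj M hi (x.comp (Ext.mk₀ (π l)) (add_zero i)), Ext.zero_comp]

/-- Transposition. -/
def dmap (M N : Type u) [AddCommGroup M] [Module O M] [AddCommGroup N] [Module O N] :
    (M →ₗ[O] N) →ₗ[O] (Dual ω N →ₗ[O] Dual ω M) where
  toFun g := LinearMap.lcomp O ↥ω g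
  map_add' a b := LinearMap.ext fun χ => LinearMap.ext fun x => map_add χ _ _
  map_smul' r a := LinearMap.ext fun χ => LinearMap.ext fun x => map_smul χ _ _

include hfg h0 hinj hnf in
/-- `Hom(M, N) ≅ Hom(N^*, M^*)`. -/
theorem homDual_bijective (M N : Type u) [AddCommGroup M] [Module O M]
    [AddCommGroup N] [Module O N] [Module.Finite O N] [Module.IsTorsionFree O N] :
    Function.Bijective (dmap ω M N) := by
  have hN := eval_bijective ω hfg h0 hinj hnf N
  refine ⟨(injective_iff_map_eq_zero _).2 fun g hg => LinearMap.ext fun x => hN.1 (LinearMap.ext fun ψ => ?_), fun D => ?_⟩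
  · simpa [dmap] using LinearMap.congr_fun (LinearMap.congr_fun hg ψ) x
  · let e := LinearEquiv.ofBijective (LinearMap.applyₗ (R := O) : N →ₗ[O] (Dual ω N →ₗ[O] ↥ω)) hN
    refine ⟨e.symm.toLinearMap ∘ₗ (LinearMap.lcomp O ↥ω D) ∘ₗ (LinearMap.applyₗ (R := O)), LinearMap.ext fun ψ => LinearMap.ext fun x => ?_⟩
    exact LinearMap.congr_fun (e.apply_symm_apply ((LinearMap.applyₗ (R := O) x : Dual ω M →ₗ[O] ↥ω).comp D)) ψ

section Generic

variable {C : Type*} [Category C] [Abelian C] [HasExt.{u} C] {S S' : ShortComplex C} (hS : S.ShortExact)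
  (hS' : S'.ShortExact) (N N' : C)

include hS in
theorem precomp_bijective {i : ℕ} (h : ∀ x : Ext S.X₂ N i, x = 0) (h' : ∀ x : Ext S.X₂ N (i + 1), x = 0) :
    Function.Bijective (hS.extClass.precomp N (show 1 + i = i + 1 by omega)) := by
  refine ⟨(injective_iff_map_eq_zero _).2 fun x hx => ?_, fun x => ?_⟩
  · obtain ⟨y, rfl⟩ := Ext.contravariant_sequence_exact₁ hS _ x (show 1 + i = i + 1 by omega) hx
    rw [h y, Ext.comp_zero]
  · obtain ⟨y, hy⟩ := Ext.contravariant_sequence_exact₃ hS _ x (h' _) (show 1 + i = i + 1 by omega)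
    exact ⟨y, hy⟩

include hS' in
theorem postcomp_bijective {i : ℕ} (h : ∀ x : Ext N' S'.X₂ i, x = 0) (h' : ∀ x : Ext N' S'.X₂ (i + 1), x = 0) :
    Function.Bijective (hS'.extClass.postcomp N' (show i + 1 = i + 1 from rfl)) := by
  refine ⟨(injective_iff_map_eq_zero _).2 fun x hx => ?_, fun x => ?_⟩
  · obtain ⟨y, rfl⟩ := Ext.covariant_sequence_exact₃ _ hS' x rfl hx
    rw [h y, Ext.zero_comp]
  · obtain ⟨y, hy⟩ := Ext.covariant_sequence_exact₁ _ hS' x (h' _) rfl
    exact ⟨y, hy⟩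

include hS hS' in
/-- `Ext¹` as cokernels of restrictions. -/
theorem ext_one_addEquiv (h : ∀ x : Ext S.X₂ N 1, x = 0) (h' : ∀ x : Ext N' S'.X₂ 1, x = 0)
    (d : (S.X₁ ⟶ N) ≃+ (N' ⟶ S'.X₃)) (hd : ∀ φ, (∃ ψ, S.f ≫ ψ = φ) ↔ ∃ D, D ≫ S'.g = d φ) :
    Nonempty (Ext S.X₃ N 1 ≃+ Ext N' S'.X₁ 1) := by
  let F : (S.X₁ ⟶ N) →+ Ext S.X₃ N 1 :=
    (hS.extClass.precomp N (show 1 + 0 = 1 from rfl)).comp Ext.addEquiv₀.symm.toAddMonoidHom
  let G : (S.X₁ ⟶ N) →+ Ext N' S'.X₁ 1 :=
    (hS'.extClass.postcomp N' (show 0 + 1 = 1 from rfl)).comp (Ext.addEquiv₀.symm.toAddMonoidHom.comp d.toAddMonoidHom)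
  have hF : Function.Surjective F := fun x => by
    obtain ⟨y, hy⟩ := Ext.contravariant_sequence_exact₃ hS _ x (h _) (show 1 + 0 = 1 from rfl)
    obtain ⟨φ, rfl⟩ := (Ext.mk₀_bijective _ _).2 y
    exact ⟨φ, hy⟩
  have hG : Function.Surjective G := fun x => by
    obtain ⟨y, hy⟩ := Ext.covariant_sequence_exact₁ _ hS' x (h' _) (show 0 + 1 = 1 from rfl)
    obtain ⟨φ, rfl⟩ := (Ext.mk₀_bijective _ _).2 y
    exact ⟨d.symm φ, by simpa [G] using hy⟩
  have hk : F.ker = G.ker := by
    ext φ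
    constructor
    · intro hφ
      obtain ⟨y, hy⟩ := Ext.contravariant_sequence_exact₁ hS _ (Ext.mk₀ φ) (show 1 + 0 = 1 from rfl) hφ
      obtain ⟨ψ, rfl⟩ := (Ext.mk₀_bijective _ _).2 y
      rw [Ext.mk₀_comp_mk₀] at hy
      obtain ⟨D, hD⟩ := (hd φ).1 ⟨ψ, (Ext.mk₀_bijective _ _).1 hy⟩
      change (Ext.mk₀ (d φ)).comp hS'.extClass (zero_add 1) = 0
      rw [← hD, ← Ext.mk₀_comp_mk₀, Ext.comp_assoc (a₁₂ := 0) (a₂₃ := 1) _ _ _ (zero_add 0) (zero_add 1) (zero_add 1), hS'.comp_extClass, Ext.comp_zero]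
    · intro hφ
      obtain ⟨y, hy⟩ := Ext.covariant_sequence_exact₃ _ hS' (Ext.mk₀ (d φ)) (show 0 + 1 = 1 from rfl) hφ
      obtain ⟨D, rfl⟩ := (Ext.mk₀_bijective _ _).2 y
      rw [Ext.mk₀_comp_mk₀] at hy
      obtain ⟨ψ, hψ⟩ := (hd φ).2 ⟨D, (Ext.mk₀_bijective _ _).1 hy⟩
      change hS.extClass.comp (Ext.mk₀ φ) (add_zero 1) = 0
      rw [← hψ, ← Ext.mk₀_comp_mk₀, ShortComplex.ShortExact.extClass_comp_assoc]
  exact ⟨((QuotientAddGroup.quotientKerEquivOfSurjective F hF).symm.trans (QuotientAddGroup.quotientAddEquivOfEq hk)).trans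
    (QuotientAddGroup.quotientKerEquivOfSurjective G hG)⟩

end Generic

include hfg h0 hinj hnf in
/-- **Duality**: `Ext^i(M, N) ≅ Ext^i(N^*, M^*)`. -/
theorem nonempty_ext_addEquiv : ∀ (i : ℕ) (M N : Type u) [AddCommGroup M] [Module O M] [Module.Finite O M]
    [Module.IsTorsionFree O M] [AddCommGroup N] [Module O N] [Module.Finite O N] [Module.IsTorsionFree O N],
    Nonempty (Ext (ModuleCat.of O M) (ModuleCat.of O N) i ≃+
      Ext (ModuleCat.of O (Dual ω N)) (ModuleCat.of O (Dual ω M)) i) := by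
  intro i
  induction i with
  | zero =>
    intro M N _ _ _ _ _ _ _ _
    exact ⟨(Ext.addEquiv₀.trans ModuleCat.homAddEquiv).trans
      ((LinearEquiv.ofBijective _ (homDual_bijective ω hfg h0 hinj hnf M N)).toAddEquiv.trans
      ((ModuleCat.homAddEquiv (R := O) (M := ModuleCat.of O (Dual ω N)) (N := ModuleCat.of O (Dual ω M))).symm.trans Ext.addEquiv₀.symm))⟩
  | succ i ih =>
    intro M N _ _ _ _ _ _ _ _
    obtain ⟨n, p, hp⟩ := Module.Finite.exists_fin' O M
    haveI : Module.Finite O ↥(LinearMap.ker p) := Module.Finite.iff_fg.2 (IsNoetherian.noetherian _)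
    haveI := dual_finite ω hfg N
    have hE : Function.Exact (LinearMap.ker p).subtype p := LinearMap.exact_subtype_ker_map p
    have hres := lcomp_surjective ω hinj (LinearMap.ker p).subtype p (Submodule.injective_subtype _) hp hE
    have hE' : Function.Exact (LinearMap.lcomp O ↥ω p) (LinearMap.lcomp O ↥ω (LinearMap.ker p).subtype) :=
      LinearMap.exact_lcomp_of_exact_of_surjective _ hE hp
    have hS := mkC_shortExact (Submodule.injective_subtype _) hp hE
    have hS' := mkC_shortExact (A := Dual ω M) (B := Dual ω (Fin n → O)) (C := Dual ω ↥(LinearMap.ker p))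
        (f := LinearMap.lcomp O ↥ω p) (g := LinearMap.lcomp O ↥ω (LinearMap.ker p).subtype)
        (LinearMap.lcomp_injective_of_surjective p hp) hres hE'
    haveI : Projective (ModuleCat.of O (Fin n → O)) :=
      (IsProjective.iff_projective (R := O) (Fin n → O)).1 inferInstance
    have hz : ∀ j, ∀ x : Ext (ModuleCat.of O (Fin n → O)) (ModuleCat.of O N) (j + 1), x = 0 :=
      fun j x => x.eq_zero_of_projective
    have hz' : ∀ j, ∀ x : Ext (ModuleCat.of O (Dual ω N)) (ModuleCat.of O (Dual ω (Fin n → O))) (j + 1), x = 0 :=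
      fun j x => ext_dual_free_eq_zero ω hinj n (Dual ω N) (Nat.le_add_left 1 j) x
    rcases i with _ | i
    · refine ext_one_addEquiv hS hS' _ _ (hz 0) (hz' 0)
        ((ModuleCat.homAddEquiv (R := O)).trans
          ((LinearEquiv.ofBijective _ (homDual_bijective ω hfg h0 hinj hnf ↥(LinearMap.ker p) N)).toAddEquiv.trans
            (ModuleCat.homAddEquiv (R := O) (M := ModuleCat.of O (Dual ω N)) (N := ModuleCat.of O (Dual ω ↥(LinearMap.ker p)))).symm))
        fun φ => ⟨?_, ?_⟩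
      · rintro ⟨ψ, rfl⟩
        exact ⟨ModuleCat.ofHom (LinearMap.lcomp O ↥ω ψ.hom), rfl⟩
      · rintro ⟨D, hD⟩
        obtain ⟨ψ, hψ⟩ := (homDual_bijective ω hfg h0 hinj hnf (Fin n → O) N).2 D.hom
        refine ⟨ModuleCat.ofHom ψ, ModuleCat.hom_ext ((homDual_bijective ω hfg h0 hinj hnf ↥(LinearMap.ker p) N).1 ?_)⟩
        refine Eq.trans ?_ (congrArg ModuleCat.Hom.hom hD)
        exact LinearMap.ext fun χ => congrArg (fun l => LinearMap.comp l (LinearMap.ker p).subtype) (LinearMap.congr_fun hψ χ)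
    · obtain ⟨e⟩ := ih ↥(LinearMap.ker p) N
      exact ⟨((AddEquiv.ofBijective _ (precomp_bijective hS _ (hz i) (hz (i + 1)))).symm.trans e).trans
        (AddEquiv.ofBijective _ (postcomp_bijective hS' _ (hz' i) (hz' (i + 1))))⟩

end Groth.Agent.TFCurvLib.Duality
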