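import Groth.Agent.TFCurvLib.ExtOne

/-!
# Monomial subspaces of `k[[t]]` over monomial subalgebras
-/

universe u

namespace Groth.Agent.TFCurvLib

open PowerSeries

variable {k : Type u} [Field k]

/-- The series supported on `S`. -/
def supp (S : Set ℕ) : Submodule k k⟦X⟧ where
  carrier := {f | ∀ m, coeff m f ≠ 0 → m ∈ S}
  zero_mem' m hm := absurd (map_zero _) hm
  add_mem' {a b} ha hb m hm := by
    by_contra h
    exact hm (by rw [map_add, not_not.1 fun h' => h (ha m h'), not_not.1 fun h' => h (hb m h'), add_zero])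
  smul_mem' c f hf m hm := hf m fun h => hm (by rw [map_smul, h, smul_zero])

theorem mem_supp {S : Set ℕ} {f : k⟦X⟧} : f ∈ supp S ↔ ∀ m, coeff m f ≠ 0 → m ∈ S := Iff.rfl

theorem coeff_eq_zero {S : Set ℕ} {f : k⟦X⟧} (hf : f ∈ supp S) {m : ℕ} (hm : m ∉ S) :
    coeff m f = 0 := by
  by_contra h; exact hm (hf m h)

open Classical in
/-- The part of `f` supported on `S`. -/
noncomputable def restr (S : Set ℕ) : k⟦X⟧ →ₗ[k] k⟦X⟧ where
  toFun f := mk fun m => if m ∈ S then coeff m f else 0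
  map_add' a b := by ext m; simp only [coeff_mk, map_add]; split <;> simp
  map_smul' r a := by ext m; simp only [coeff_mk, RingHom.id_apply, coeff_smul]; split <;> simp

theorem coeff_restr_of_mem {S : Set ℕ} {m : ℕ} (hm : m ∈ S) (f : k⟦X⟧) :
    coeff m (restr S f) = coeff m f := by simp [restr, hm]

theorem coeff_restr_of_not_mem {S : Set ℕ} {m : ℕ} (hm : m ∉ S) (f : k⟦X⟧) :
    coeff m (restr S f) = 0 := by simp [restr, hm]

theorem restr_mem (S : Set ℕ) (f : k⟦X⟧) : restr S f ∈ supp S := fun m hm => by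
  by_contra h; exact hm (coeff_restr_of_not_mem h f)

/-- Shift down by `s`. -/
noncomputable def down (s : ℕ) : k⟦X⟧ →ₗ[k] k⟦X⟧ where
  toFun f := mk fun m => coeff (m + s) f
  map_add' a b := by ext m; simp
  map_smul' r a := by ext m; simp [coeff_smul]

@[simp] theorem coeff_down (s m : ℕ) (f : k⟦X⟧) : coeff m (down s f) = coeff (m + s) f := by
  simp [down]

theorem coeff_X_pow_mul_eq (s m : ℕ) (f : k⟦X⟧) :
    coeff m (X ^ s * f) = if s ≤ m then coeff (m - s) f else 0 := coeff_X_pow_mul' f s m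

theorem X_pow_mul_down {s : ℕ} {f : k⟦X⟧} (hf : f ∈ supp (Set.Ici s)) : X ^ s * down s f = f := by
  ext m
  rw [coeff_X_pow_mul_eq]
  split
  · rw [coeff_down, Nat.sub_add_cancel ‹_›]
  · exact (coeff_eq_zero hf (show ¬ s ≤ m from ‹_›)).symm

theorem down_X_pow_mul (s : ℕ) (f : k⟦X⟧) : down s (X ^ s * f) = f := by
  ext m
  rw [coeff_down, coeff_X_pow_mul_eq, if_pos (by omega), Nat.add_sub_cancel]

theorem X_pow_mul_mem {S T : Set ℕ} {s : ℕ} (h : ∀ m ∈ S, m + s ∈ T) {f : k⟦X⟧} (hf : f ∈ supp S) :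
    X ^ s * f ∈ supp T := fun m hm => by
  rw [coeff_X_pow_mul_eq] at hm
  split at hm
  · have := h _ (hf _ hm)
    rwa [Nat.sub_add_cancel ‹_›] at this
  · exact absurd rfl hm

theorem X_pow_mul_mem_Ici (s : ℕ) (f : k⟦X⟧) : X ^ s * f ∈ supp (Set.Ici s) :=
  X_pow_mul_mem (S := Set.univ) (fun m _ => by simp) fun m _ => trivial

theorem supp_mono {S T : Set ℕ} (h : S ⊆ T) {f : k⟦X⟧} (hf : f ∈ supp S) : f ∈ supp T :=
  fun m hm => h (hf m hm)

theorem X_pow_mem {S : Set ℕ} {s : ℕ} (h : s ∈ S) : (X : k⟦X⟧) ^ s ∈ supp S := fun m hm => by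
  rw [coeff_X_pow] at hm
  split at hm
  · subst m; exact h
  · exact absurd rfl hm

theorem one_mem_supp {S : Set ℕ} (h : 0 ∈ S) : (1 : k⟦X⟧) ∈ supp S := by
  simpa using X_pow_mem (k := k) h

theorem mul_mem_supp {S T U : Set ℕ} (h : ∀ a ∈ S, ∀ b ∈ T, a + b ∈ U) {f g : k⟦X⟧}
    (hf : f ∈ supp S) (hg : g ∈ supp T) : f * g ∈ supp U := fun m hm => by
  by_contra hU
  refine hm ?_
  rw [coeff_mul]
  refine Finset.sum_eq_zero fun p hp => ?_
  have hp : p.1 + p.2 = m := Finset.HasAntidiagonal.mem_antidiagonal.mp hp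
  by_cases h1 : coeff p.1 f = 0
  · rw [h1, zero_mul]
  by_cases h2 : coeff p.2 g = 0
  · rw [h2, mul_zero]
  exact absurd (hp ▸ h _ (hf _ h1) _ (hg _ h2)) hU

/-- `supp S + X^s · supp S = supp (S ∪ (s + S))`. -/
theorem exists_add_shift {S T : Set ℕ} {s : ℕ} (h : ∀ m ∈ T, m ∈ S ∨ (s ≤ m ∧ m - s ∈ S))
    {f : k⟦X⟧} (hf : f ∈ supp T) : ∃ a ∈ supp S, ∃ b ∈ supp S, a + X ^ s * b = f := by
  refine ⟨restr S f, restr_mem S f, restr S (down s (f - restr S f)), restr_mem _ _, ?_⟩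
  ext m
  rw [map_add, coeff_X_pow_mul_eq]
  by_cases hm : m ∈ S
  · rw [coeff_restr_of_mem hm]
    split
    · by_cases hms : m - s ∈ S
      · rw [coeff_restr_of_mem hms, coeff_down, Nat.sub_add_cancel ‹_›, map_sub,
          coeff_restr_of_mem hm, sub_self, add_zero]
      · rw [coeff_restr_of_not_mem hms, add_zero]
    · rw [add_zero]
  · rw [coeff_restr_of_not_mem hm, zero_add]
    by_cases h0 : coeff m f = 0
    · rw [h0]
      split
      · by_cases hms : m - s ∈ S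
        · rw [coeff_restr_of_mem hms, coeff_down, Nat.sub_add_cancel ‹_›, map_sub, h0,
            coeff_restr_of_not_mem hm, sub_zero]
        · rw [coeff_restr_of_not_mem hms]
      · rfl
    · obtain ⟨hsm, hms⟩ := (h m (hf m h0)).resolve_left hm
      rw [if_pos hsm, coeff_restr_of_mem hms, coeff_down, Nat.sub_add_cancel hsm, map_sub,
        coeff_restr_of_not_mem hm, sub_zero]

section Alg

variable (A : Subalgebra k k⟦X⟧)

/-- The residue map of a monomial subalgebra. -/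
noncomputable def chi : ↥A →ₐ[k] k where
  toRingHom := (constantCoeff : k⟦X⟧ →+* k).comp A.val.toRingHom
  commutes' r := by
    change constantCoeff (algebraMap k k⟦X⟧ r) = r
    simp [PowerSeries.algebraMap_apply]

theorem chi_apply (a : A) : chi A a = constantCoeff (a : k⟦X⟧) := rfl

variable {A}

/-- Subalgebras containing all series of high order are local. -/
theorem isUnit_of_high {c : ℕ} (hc : ∀ f ∈ supp (k := k) (Set.Ici c), f ∈ A) (a : A)
    (ha : chi A a ≠ 0) : IsUnit a := by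
  have ha' : constantCoeff (a : k⟦X⟧) ≠ 0 := ha
  let r := constantCoeff (a : k⟦X⟧)
  let x : A := 1 - algebraMap k A r⁻¹ * a
  let s : A := algebraMap k A r⁻¹ * ∑ j ∈ Finset.range c, x ^ j
  have hgeom : (a : k⟦X⟧) * s = 1 - (x : k⟦X⟧) ^ c := by
    have h : a * s = 1 - x ^ c := by
      rw [← mul_neg_geom_sum x c]
      simp only [s, x]; ring
    simpa using congrArg Subtype.val h
  have hx : constantCoeff (x : k⟦X⟧) = 0 := by
    simp [x, r, ha', PowerSeries.algebraMap_apply]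
  have hxc : (x : k⟦X⟧) ^ c ∈ supp (Set.Ici c) := by
    obtain ⟨y, hy⟩ := X_dvd_iff.2 hx
    rw [hy, mul_pow]; exact X_pow_mul_mem_Ici c _
  have hinv : (a : k⟦X⟧) * (a : k⟦X⟧)⁻¹ = 1 := PowerSeries.mul_inv_cancel _ ha'
  have heq : (a : k⟦X⟧)⁻¹ = s + (a : k⟦X⟧)⁻¹ * (x : k⟦X⟧) ^ c := by
    linear_combination (norm := ring_nf) (-(a : k⟦X⟧)⁻¹) * hgeom + (s : k⟦X⟧) * hinv
  have hmem : (a : k⟦X⟧)⁻¹ ∈ A := by
    rw [heq]
    exact A.add_mem s.2 (hc _ (mul_mem_supp (S := Set.univ) (fun p _ q hq => le_trans hq (Nat.le_add_left q p))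
      (fun _ _ => trivial) hxc))
  exact IsUnit.of_mul_eq_one (⟨_, hmem⟩ : A) (Subtype.ext hinv)

end Alg

end Groth.Agent.TFCurvLib
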