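import Groth.Agent.TFCurvLib.Mono

/-!
# `Ext¹` over the double points with two branches
-/

universe u

namespace Groth.Agent.TFCurvLib

open PowerSeries CategoryTheory Abelian

variable {k : Type u} [Field k] {O : Subalgebra k (k⟦X⟧ × k⟦X⟧)} {δ : ℕ}

theorem supp_Ici_mono {a b : ℕ} (h : a ≤ b) {f : k⟦X⟧} (hf : f ∈ supp (Set.Ici b)) : f ∈ supp (Set.Ici a) :=
  supp_mono (Set.Ici_subset_Ici.2 h) hf

theorem mem_Ici_iff {c : ℕ} {f : k⟦X⟧} : f ∈ supp (Set.Ici c) ↔ (c : ℕ∞) ≤ f.order :=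
  ⟨fun h => nat_le_order _ _ fun _ hm => coeff_eq_zero h (not_le.2 hm),
    fun h _ hm => not_lt.1 fun hlt => hm (coeff_of_lt_order _ (lt_of_lt_of_le (Nat.cast_lt.2 hlt) h))⟩

theorem X_pow_mul_Ici {a b c : ℕ} (h : c ≤ a + b) {f : k⟦X⟧} (hf : f ∈ supp (Set.Ici b)) :
    X ^ a * f ∈ supp (Set.Ici c) :=
  X_pow_mul_mem (fun _ hm => le_trans h (by simp only [Set.mem_Ici] at hm; omega)) hf

theorem down_Ici {a b c : ℕ} (h : c + a ≤ b) {f : k⟦X⟧} (hf : f ∈ supp (Set.Ici b)) :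
    down a f ∈ supp (Set.Ici c) := fun m hm => by
  rw [coeff_down] at hm
  have := hf _ hm
  simp only [Set.mem_Ici] at this ⊢
  omega

theorem mul_Ici {c : ℕ} (x : k⟦X⟧) {v : k⟦X⟧} (hv : v ∈ supp (Set.Ici c)) : x * v ∈ supp (Set.Ici c) :=
  mul_mem_supp (S := Set.univ) (fun _ _ q hq => le_trans hq (Nat.le_add_left _ _)) (fun _ _ => trivial) hv

variable (hO : ∀ f, f ∈ O ↔ f.1 - f.2 ∈ supp (k := k) (Set.Ici δ))

/-- Pairs in `O`-stable position: second entry of order `≥ j`, difference of order `≥ a`. -/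
def pairSub (j a : ℕ) (hj : a ≤ δ + j) : Submodule O (k⟦X⟧ × k⟦X⟧) where
  carrier := {p | p.2 ∈ supp (k := k) (Set.Ici j) ∧ p.1 - p.2 ∈ supp (k := k) (Set.Ici a)}
  zero_mem' := ⟨zero_mem _, by simp⟩
  add_mem' {p q} hp hq := ⟨add_mem hp.1 hq.1, by
    rw [show (p + q).1 - (p + q).2 = (p.1 - p.2) + (q.1 - q.2) by simp; ring]
    exact add_mem hp.2 hq.2⟩
  smul_mem' r p hp := ⟨mul_Ici _ hp.1, by
    change (r : k⟦X⟧ × k⟦X⟧).1 * p.1 - (r : k⟦X⟧ × k⟦X⟧).2 * p.2 ∈ _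
    rw [show (r : k⟦X⟧ × k⟦X⟧).1 * p.1 - (r : k⟦X⟧ × k⟦X⟧).2 * p.2 =
      (r : k⟦X⟧ × k⟦X⟧).1 * (p.1 - p.2) + ((r : k⟦X⟧ × k⟦X⟧).1 - (r : k⟦X⟧ × k⟦X⟧).2) * p.2 by ring]
    exact add_mem (mul_Ici _ hp.2) (mul_mem_supp
      (fun x hx y hy => by simp only [Set.mem_Ici] at hx hy ⊢; omega) ((hO _).1 r.2) hp.1)⟩

include hO in
theorem mem_pair_span {i : ℕ} (hi : i ≤ δ) (p : k⟦X⟧ × k⟦X⟧) :
    p ∈ Submodule.span O ({(X ^ i, X ^ i), (X ^ δ, 0)} : Set (k⟦X⟧ × k⟦X⟧)) ↔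
      p.2 ∈ supp (Set.Ici i) ∧ p.1 - p.2 ∈ supp (Set.Ici δ) := by
  constructor
  · intro hp
    have : Submodule.span O ({(X ^ i, X ^ i), (X ^ δ, 0)} : Set (k⟦X⟧ × k⟦X⟧)) ≤
        pairSub hO i δ (Nat.le_add_right _ _) := by
      rw [Submodule.span_le]
      rintro q (rfl | rfl)
      · exact ⟨X_pow_mem (Set.mem_Ici.2 le_rfl), by simp⟩
      · exact ⟨zero_mem _, by
          change (X : k⟦X⟧) ^ δ - 0 ∈ _
          rw [sub_zero]; exact X_pow_mem (Set.mem_Ici.2 le_rfl)⟩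
    exact this hp
  · rintro ⟨h2, h12⟩
    refine Submodule.mem_span_pair.2 ⟨⟨(down i p.2, down i p.2), (hO _).2 (by simp)⟩,
      ⟨(down δ (p.1 - p.2), down δ (p.1 - p.2)), (hO _).2 (by simp)⟩, Prod.ext ?_ ?_⟩
    · change down i p.2 * X ^ i + down δ (p.1 - p.2) * X ^ δ = p.1
      rw [mul_comm, X_pow_mul_down h2, mul_comm, X_pow_mul_down h12]; ring
    · change down i p.2 * X ^ i + down δ (p.1 - p.2) * 0 = p.2
      rw [mul_comm, X_pow_mul_down h2]; ring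

/-- The residue map. -/
noncomputable def chiPair (O : Subalgebra k (k⟦X⟧ × k⟦X⟧)) : ↥O →ₐ[k] k where
  toRingHom := ((constantCoeff : k⟦X⟧ →+* k).comp (RingHom.fst k⟦X⟧ k⟦X⟧)).comp O.val.toRingHom
  commutes' r := by
    change constantCoeff (algebraMap k k⟦X⟧ r) = r
    simp [PowerSeries.algebraMap_apply]

include hO in
theorem isUnit_pair (hδ : 1 ≤ δ) (a : O) (ha : chiPair O a ≠ 0) : IsUnit a := by
  have h1 : constantCoeff (a : k⟦X⟧ × k⟦X⟧).1 ≠ 0 := ha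
  have h2 : constantCoeff (a : k⟦X⟧ × k⟦X⟧).2 ≠ 0 := by
    have := coeff_eq_zero ((hO _).1 a.2) (m := 0) (by simp only [Set.mem_Ici]; omega)
    rw [coeff_zero_eq_constantCoeff_apply, map_sub, sub_eq_zero] at this
    rwa [← this]
  let g : k⟦X⟧ × k⟦X⟧ := ((a : k⟦X⟧ × k⟦X⟧).1⁻¹, (a : k⟦X⟧ × k⟦X⟧).2⁻¹)
  have e1 := PowerSeries.mul_inv_cancel _ h1
  have e2 := PowerSeries.mul_inv_cancel _ h2
  have hg : g ∈ O := (hO _).2 (by
    rw [show g.1 - g.2 = (-(g.1 * g.2)) * ((a : k⟦X⟧ × k⟦X⟧).1 - (a : k⟦X⟧ × k⟦X⟧).2) by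
      simp only [g]; linear_combination (a : k⟦X⟧ × k⟦X⟧).2⁻¹ * e1 - (a : k⟦X⟧ × k⟦X⟧).1⁻¹ * e2]
    exact mul_Ici _ ((hO _).1 a.2))
  exact IsUnit.of_mul_eq_one (⟨g, hg⟩ : O) (Subtype.ext (Prod.ext e1 e2))

include hO in
theorem length_ext_pair (hδ : 1 ≤ δ) {i j : ℕ} (hi : i ≤ δ) (hj : j ≤ δ)
    (M N : Type u) [AddCommGroup M] [Module O M] [AddCommGroup N] [Module O N] [Module k N]
    [IsScalarTower k O N]
    (jM : M →ₗ[O] k⟦X⟧ × k⟦X⟧) (hjM : Function.Injective jM)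
    (hM : ∀ p, (∃ y, jM y = p) ↔ p.2 ∈ supp (Set.Ici i) ∧ p.1 - p.2 ∈ supp (Set.Ici δ))
    (jN : N →ₗ[O] k⟦X⟧ × k⟦X⟧) (hjN : Function.Injective jN)
    (hN : ∀ p, (∃ y, jN y = p) ↔ p.2 ∈ supp (Set.Ici j) ∧ p.1 - p.2 ∈ supp (Set.Ici δ)) :
    Module.length O (Ext (ModuleCat.of O M) (ModuleCat.of O N) 1) = ((2 * min i j : ℕ) : ℕ∞) := by
  let K := pairSub hO 0 (δ - i) (by omega)
  let μ := min i j
  let m0 := max i j
  -- presentation
  let G : ↥O × ↥O → k⟦X⟧ × k⟦X⟧ := fun a =>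
    (a.1 : k⟦X⟧ × k⟦X⟧) * (X ^ i, X ^ i) + (a.2 : k⟦X⟧ × k⟦X⟧) * (X ^ δ, 0)
  have hGmem : ∀ a, (G a).2 ∈ supp (Set.Ici i) ∧ (G a).1 - (G a).2 ∈ supp (Set.Ici δ) := fun a =>
    (mem_pair_span hO hi _).1 (Submodule.mem_span_pair.2 ⟨a.1, a.2, rfl⟩)
  choose g hg using fun a => (hM _).2 (hGmem a)
  let g' : ↥O × ↥O →ₗ[O] M :=
    { toFun := g
      map_add' := fun x y => hjM (by
        simp only [hg, map_add, G, Prod.fst_add, Prod.snd_add, AddMemClass.coe_add]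
        ring)
      map_smul' := fun r x => hjM (by
        simp only [hg, map_smul, G, Prod.smul_fst, Prod.smul_snd, smul_eq_mul, MulMemClass.coe_mul,
          RingHom.id_apply]
        change _ = (r : k⟦X⟧ × k⟦X⟧) * _
        ring) }
  have hgsurj : Function.Surjective g' := fun y => by
    obtain ⟨a, b, hab⟩ := Submodule.mem_span_pair.1 ((mem_pair_span hO hi _).2 ((hM _).1 ⟨y, rfl⟩))
    exact ⟨(a, b), hjM ((hg _).trans hab)⟩
  have hf1 : ∀ x : K, ((-(X ^ δ * (x : k⟦X⟧ × k⟦X⟧).1), 0) : k⟦X⟧ × k⟦X⟧) ∈ O := fun x => (hO _).2 (by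
    change -(X ^ δ * _) - 0 ∈ _
    rw [sub_zero]; exact neg_mem (X_pow_mul_mem_Ici δ _))
  have hf2 : ∀ x : K, (X ^ i, X ^ i) * (x : k⟦X⟧ × k⟦X⟧) ∈ O := fun x => (hO _).2 (by
    change X ^ i * _ - X ^ i * _ ∈ _
    rw [← mul_sub]; exact X_pow_mul_Ici (by omega) x.2.2)
  let f : K →ₗ[O] ↥O × ↥O :=
    { toFun := fun x => (⟨_, hf1 x⟩, ⟨_, hf2 x⟩)
      map_add' := fun x y => Prod.ext (Subtype.ext (Prod.ext (by simp; ring) (by simp)))
        (Subtype.ext (mul_add _ _ _))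
      map_smul' := fun r x => Prod.ext (Subtype.ext (Prod.ext (by
          change -(X ^ δ * ((r : k⟦X⟧ × k⟦X⟧).1 * (x : k⟦X⟧ × k⟦X⟧).1)) =
            (r : k⟦X⟧ × k⟦X⟧).1 * -(X ^ δ * (x : k⟦X⟧ × k⟦X⟧).1)
          ring) (by
          change (0 : k⟦X⟧) = (r : k⟦X⟧ × k⟦X⟧).2 * 0
          ring)))
        (Subtype.ext (mul_left_comm _ _ _)) }
  have hfinj : Function.Injective f := fun x y h => by
    have h' : ((X ^ i, X ^ i) : k⟦X⟧ × k⟦X⟧) * (x : k⟦X⟧ × k⟦X⟧) = (X ^ i, X ^ i) * (y : k⟦X⟧ × k⟦X⟧) :=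
      congrArg (fun z : ↥O × ↥O => ((Prod.snd z : ↥O) : k⟦X⟧ × k⟦X⟧)) h
    exact Subtype.ext (Prod.ext (mul_left_cancel₀ (pow_ne_zero i X_ne_zero) (congrArg Prod.fst h'))
      (mul_left_cancel₀ (pow_ne_zero i X_ne_zero) (congrArg Prod.snd h')))
  have hexact : Function.Exact f g' := fun a => by
    constructor
    · intro ha
      have h : G a = 0 := by rw [← hg a]; exact (congrArg jM ha).trans (map_zero _)
      set a1 := (a.1 : k⟦X⟧ × k⟦X⟧) with ha1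
      set a2 := (a.2 : k⟦X⟧ × k⟦X⟧) with ha2
      have e1 : a1.1 * X ^ i + a2.1 * X ^ δ = 0 := congrArg Prod.fst h
      have e2 : a1.2 * X ^ i + a2.2 * 0 = 0 := congrArg Prod.snd h
      have z : a1.2 = 0 := by
        rw [mul_zero, add_zero] at e2
        exact (mul_eq_zero.1 e2).resolve_right (pow_ne_zero i X_ne_zero)
      have hA1 : a1.1 ∈ supp (Set.Ici δ) := by
        have h' : a1.1 - a1.2 ∈ supp (Set.Ici δ) := (hO _).1 a.1.2
        rwa [z, sub_zero] at h'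
      let x1 := -down δ a1.1
      have hx1 : X ^ δ * x1 = -a1.1 := by rw [mul_neg, X_pow_mul_down hA1]
      have hb1 : a2.1 = X ^ i * x1 := mul_right_cancel₀ (pow_ne_zero δ X_ne_zero)
        (by linear_combination e1 - X ^ i * hx1)
      have hd := (hO _).1 a.2.2
      have hb2 : a2.2 ∈ supp (Set.Ici i) := by
        rw [show a2.2 = a2.1 - (a2.1 - a2.2) by ring]
        exact sub_mem (hb1 ▸ X_pow_mul_mem_Ici i x1) (supp_Ici_mono hi hd)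
      refine ⟨⟨(x1, down i a2.2), supp_mono (Set.subset_univ _ |>.trans (fun m _ => Nat.zero_le m))
          (fun m _ => Set.mem_univ m : down i a2.2 ∈ supp Set.univ), ?_⟩, ?_⟩
      · change x1 - down i a2.2 ∈ supp (Set.Ici (δ - i))
        rw [← down_X_pow_mul i x1, ← hb1, ← map_sub]
        exact down_Ici (by omega) hd
      · refine Prod.ext (Subtype.ext (Prod.ext ?_ z.symm)) (Subtype.ext (Prod.ext hb1.symm (X_pow_mul_down hb2)))
        change -(X ^ δ * x1) = a1.1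
        rw [hx1, neg_neg]
    · rintro ⟨x, rfl⟩
      refine hjM ((hg _).trans ?_)
      rw [map_zero]
      refine Prod.ext ?_ ?_
      · change -(X ^ δ * (x : k⟦X⟧ × k⟦X⟧).1) * X ^ i + X ^ i * (x : k⟦X⟧ × k⟦X⟧).1 * X ^ δ = 0
        ring
      · change (0 : k⟦X⟧) * X ^ i + X ^ i * (x : k⟦X⟧ × k⟦X⟧).2 * 0 = 0
        ring
  -- coordinates on `Hom`
  let o : K := ⟨(1, 1), (fun m _ => Nat.zero_le m), by simp⟩
  let Ψ : (K →ₗ[O] N) →ₗ[k] k⟦X⟧ × k⟦X⟧ :=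
    { toFun := fun φ => jN (φ o)
      map_add' := fun _ _ => map_add _ _ _
      map_smul' := fun r φ => LinearMap.map_smul_of_tower jN r _ }
  have happ : ∀ φ (x : K), jN (φ x) = x * Ψ φ := fun φ x => by
    let T : O := ⟨(X ^ δ, X ^ δ), (hO _).2 (by simp)⟩
    let Tx : O := ⟨(X ^ δ, X ^ δ) * (x : k⟦X⟧ × k⟦X⟧), (hO _).2 (by
      change X ^ δ * _ - X ^ δ * _ ∈ _
      rw [← mul_sub]; exact X_pow_mul_mem_Ici δ _)⟩
    have h1 := congrArg (fun z => jN (φ z))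
      (show T • x = Tx • o from Subtype.ext (mul_one ((Tx : O) : k⟦X⟧ × k⟦X⟧)).symm)
    simp only [map_smul] at h1
    have h2 : ((X ^ δ, X ^ δ) : k⟦X⟧ × k⟦X⟧) * jN (φ x) = (X ^ δ, X ^ δ) * ((x : k⟦X⟧ × k⟦X⟧) * Ψ φ) :=
      h1.trans (mul_assoc _ _ _)
    exact Prod.ext (mul_left_cancel₀ (pow_ne_zero δ X_ne_zero) (congrArg Prod.fst h2))
      (mul_left_cancel₀ (pow_ne_zero δ X_ne_zero) (congrArg Prod.snd h2))
  have hext : ∀ φ φ', Ψ φ = Ψ φ' → φ = φ' := fun φ φ' h => LinearMap.ext fun x => hjN (by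
    rw [happ φ, happ φ', h])
  have hC : ∀ φ, (Ψ φ).2 ∈ supp (Set.Ici m0) ∧ (Ψ φ).1 - (Ψ φ).2 ∈ supp (Set.Ici δ) := fun φ => by
    have h0 := (hN _).1 ⟨φ o, rfl⟩
    have h1 : (Ψ φ).2 ∈ supp (Set.Ici j) ∧ (Ψ φ).1 - (Ψ φ).2 ∈ supp (Set.Ici δ) := h0
    let e : K := ⟨(X ^ (δ - i), 0), zero_mem _, by
      change (X : k⟦X⟧) ^ (δ - i) - 0 ∈ _
      rw [sub_zero]; exact X_pow_mem (Set.mem_Ici.2 le_rfl)⟩
    have h2 := ((hN _).1 ⟨φ e, rfl⟩).2
    rw [happ φ] at h2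
    replace h2 : X ^ (δ - i) * (Ψ φ).1 - 0 * (Ψ φ).2 ∈ supp (Set.Ici δ) := h2
    rw [zero_mul, sub_zero] at h2
    have h3 : (Ψ φ).1 ∈ supp (Set.Ici i) := by
      rw [← down_X_pow_mul (δ - i) (Ψ φ).1]; exact down_Ici (by omega) h2
    refine ⟨?_, h1.2⟩
    rcases le_total i j with h | h
    · rw [show m0 = j by simp only [m0]; omega]; exact h1.1
    · rw [show m0 = i by simp only [m0]; omega,
        show (Ψ φ).2 = (Ψ φ).1 - ((Ψ φ).1 - (Ψ φ).2) by ring]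
      exact sub_mem h3 (supp_Ici_mono hi h1.2)
  let Φ : (K →ₗ[O] N) →ₗ[k] (Fin μ ⊕ Fin μ → k) := LinearMap.pi (Sum.elim
    (fun a => coeff (m0 + a) ∘ₗ LinearMap.snd k _ _ ∘ₗ Ψ)
    (fun a => coeff (δ + a) ∘ₗ (LinearMap.fst k _ _ - LinearMap.snd k _ _) ∘ₗ Ψ))
  rw [length_ext_one_eq_card (K := ↥K) (F := ↥O × ↥O) (M := M) (chiPair O)
    (fun a => isUnit_pair hO hδ a) f g' hfinj hgsurj hexact N Φ (fun y => ?_) (fun φ => ?_)]
  · simp [two_mul, μ]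
  · let c2 := ∑ a : Fin μ, y (Sum.inl a) • (X : k⟦X⟧) ^ (m0 + (a : ℕ))
    let c := ∑ a : Fin μ, y (Sum.inr a) • (X : k⟦X⟧) ^ (δ + (a : ℕ))
    have hc2 : c2 ∈ supp (Set.Ici m0) := Submodule.sum_mem _ fun a _ =>
      Submodule.smul_mem _ _ (X_pow_mem (Set.mem_Ici.2 (Nat.le_add_right _ _)))
    have hc : c ∈ supp (Set.Ici δ) := Submodule.sum_mem _ fun a _ =>
      Submodule.smul_mem _ _ (X_pow_mem (Set.mem_Ici.2 (Nat.le_add_right _ _)))
    choose w hw using fun x : K => (hN ((x : k⟦X⟧ × k⟦X⟧) * (c2 + c, c2))).2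
      ⟨mul_Ici _ (supp_Ici_mono (le_max_right i j) hc2), by
        change (x : k⟦X⟧ × k⟦X⟧).1 * (c2 + c) - (x : k⟦X⟧ × k⟦X⟧).2 * c2 ∈ _
        rw [show (x : k⟦X⟧ × k⟦X⟧).1 * (c2 + c) - (x : k⟦X⟧ × k⟦X⟧).2 * c2 =
          ((x : k⟦X⟧ × k⟦X⟧).1 - (x : k⟦X⟧ × k⟦X⟧).2) * c2 + (x : k⟦X⟧ × k⟦X⟧).1 * c by ring]
        exact add_mem (mul_mem_supp (fun p hp q hq => by
          simp only [Set.mem_Ici, m0] at hp hq ⊢; omega) x.2.2 hc2) (mul_Ici _ hc)⟩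
    let φ : K →ₗ[O] N :=
      { toFun := w
        map_add' := fun x z => hjN (by rw [hw, map_add, hw, hw]; exact add_mul _ _ _)
        map_smul' := fun r x => hjN (by rw [hw, map_smul, hw]; exact mul_assoc _ _ _) }
    refine ⟨φ, funext fun a => ?_⟩
    have e : Ψ φ = (c2 + c, c2) := (hw o).trans (one_mul _)
    have key : ∀ (b : ℕ) (z : Fin μ → k) (a : Fin μ),
        coeff (b + (a : ℕ)) (∑ a : Fin μ, z a • (X : k⟦X⟧) ^ (b + (a : ℕ))) = z a := fun b z a => by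
      rw [map_sum, Finset.sum_eq_single a (fun a' _ h => by
        rw [coeff_smul, coeff_X_pow, if_neg (fun h' => h (Fin.ext (by omega)))]; simp) (by simp)]
      simp [coeff_smul, coeff_X_pow]
    rcases a with a | a
    · change coeff (m0 + (a : ℕ)) (Ψ φ).2 = _
      rw [e]; exact key m0 (fun a => y (Sum.inl a)) a
    · change coeff (δ + (a : ℕ)) ((Ψ φ).1 - (Ψ φ).2) = _
      rw [e, add_sub_cancel_left]; exact key δ (fun a => y (Sum.inr a)) a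
  · have hψ : ∀ ψ : ↥O × ↥O →ₗ[O] N, Ψ (ψ ∘ₗ f) =
        (-(X ^ δ), 0) * jN (ψ (1, 0)) + (X ^ i, X ^ i) * jN (ψ (0, 1)) := fun ψ => by
      have h1 : f o = (f o).1 • ((1, 0) : ↥O × ↥O) + (f o).2 • ((0, 1) : ↥O × ↥O) := by
        ext <;> simp
      change jN (ψ (f o)) = _
      rw [h1]
      simp only [map_add, map_smul]
      change ((-(X ^ δ * 1), 0) : k⟦X⟧ × k⟦X⟧) * _ + ((X ^ i, X ^ i) * (1, 1)) * _ = _
      rw [mul_one, show ((1, 1) : k⟦X⟧ × k⟦X⟧) = 1 from rfl, mul_one]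
    constructor
    · intro hφ
      obtain ⟨hc2, hc⟩ := hC φ
      have h2 : (Ψ φ).2 ∈ supp (Set.Ici (i + j)) := fun m hm => by
        by_contra hlt
        simp only [Set.mem_Ici, not_le] at hlt
        have hm0 := hc2 m hm
        simp only [Set.mem_Ici] at hm0
        have := congrFun hφ (Sum.inl ⟨m - m0, by simp only [μ, m0] at *; omega⟩)
        change coeff (m0 + (m - m0)) (Ψ φ).2 = 0 at this
        exact hm (by rwa [show m0 + (m - m0) = m by omega] at this)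
      have hd : (Ψ φ).1 - (Ψ φ).2 ∈ supp (Set.Ici (δ + μ)) := fun m hm => by
        by_contra hlt
        simp only [Set.mem_Ici, not_le] at hlt
        have hm0 := hc m hm
        simp only [Set.mem_Ici] at hm0
        have := congrFun hφ (Sum.inr ⟨m - δ, by omega⟩)
        change coeff (δ + (m - δ)) ((Ψ φ).1 - (Ψ φ).2) = 0 at this
        exact hm (by rwa [show δ + (m - δ) = m by omega] at this)
      have hc2' := X_pow_mul_down (supp_Ici_mono (Nat.le_add_right i j) h2)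
      -- the preimage, as two pairs
      obtain ⟨p0, p1, hp0, hp1, heq⟩ : ∃ p0 p1 : k⟦X⟧ × k⟦X⟧,
          (p0.2 ∈ supp (Set.Ici j) ∧ p0.1 - p0.2 ∈ supp (Set.Ici δ)) ∧
          (p1.2 ∈ supp (Set.Ici j) ∧ p1.1 - p1.2 ∈ supp (Set.Ici δ)) ∧
          (-(X ^ δ), 0) * p0 + (X ^ i, X ^ i) * p1 = Ψ φ := by
        have hs : down i (Ψ φ).2 ∈ supp (Set.Ici j) := down_Ici (by omega) h2
        rcases le_total i j with h | h
        · refine ⟨0, (down i (Ψ φ).2 + down i ((Ψ φ).1 - (Ψ φ).2), down i (Ψ φ).2),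
            ⟨zero_mem _, by simp⟩, ⟨hs, ?_⟩, ?_⟩
          · change down i (Ψ φ).2 + down i ((Ψ φ).1 - (Ψ φ).2) - down i (Ψ φ).2 ∈ _
            rw [add_sub_cancel_left]; exact down_Ici (by simp only [μ]; omega) hd
          · refine Prod.ext ?_ ?_
            · change -(X ^ δ) * 0 + X ^ i * (down i (Ψ φ).2 + down i ((Ψ φ).1 - (Ψ φ).2)) = _
              rw [mul_add, hc2', X_pow_mul_down (supp_Ici_mono (by omega) hd)]; ring
            · change 0 * (0 : k⟦X⟧) + X ^ i * down i (Ψ φ).2 = _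
              rw [hc2']; ring
        · refine ⟨(-down δ ((Ψ φ).1 - (Ψ φ).2), -down δ ((Ψ φ).1 - (Ψ φ).2)),
            (down i (Ψ φ).2, down i (Ψ φ).2), ⟨neg_mem (down_Ici (by simp only [μ]; omega) hd), by simp⟩,
            ⟨hs, by simp⟩, ?_⟩
          refine Prod.ext ?_ ?_
          · change -(X ^ δ) * -down δ ((Ψ φ).1 - (Ψ φ).2) + X ^ i * down i (Ψ φ).2 = _
            rw [hc2', neg_mul_neg, X_pow_mul_down (supp_Ici_mono (by omega) hd)]; ring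
          · change 0 * -down δ ((Ψ φ).1 - (Ψ φ).2) + X ^ i * down i (Ψ φ).2 = _
            rw [hc2']; ring
      obtain ⟨u0, hu0⟩ := (hN p0).2 hp0
      obtain ⟨u1, hu1⟩ := (hN p1).2 hp1
      let ψ : ↥O × ↥O →ₗ[O] N :=
        (LinearMap.toSpanSingleton O N u0).coprod (LinearMap.toSpanSingleton O N u1)
      refine ⟨ψ, hext _ _ ?_⟩
      have e0 : ψ (1, 0) = u0 := by simp [ψ]
      have e1 : ψ (0, 1) = u1 := by simp [ψ]
      rw [hψ, e0, e1, hu0, hu1, heq]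
    · rintro ⟨ψ, rfl⟩
      obtain ⟨a1, a2⟩ := (hN _).1 ⟨ψ (1, 0), rfl⟩
      obtain ⟨b1, b2⟩ := (hN _).1 ⟨ψ (0, 1), rfl⟩
      funext a
      rcases a with a | a
      · change coeff (m0 + (a : ℕ)) (Ψ (ψ ∘ₗ f)).2 = 0
        rw [hψ]
        change coeff (m0 + (a : ℕ)) (0 * (jN (ψ (1, 0))).2 + X ^ i * (jN (ψ (0, 1))).2) = 0
        rw [zero_mul, zero_add]
        exact coeff_eq_zero (X_pow_mul_Ici (c := i + j) le_rfl b1)
          (by have := a.2; simp only [Set.mem_Ici, μ, m0] at *; omega)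
      · change coeff (δ + (a : ℕ)) ((Ψ (ψ ∘ₗ f)).1 - (Ψ (ψ ∘ₗ f)).2) = 0
        rw [hψ]
        change coeff (δ + (a : ℕ)) (-(X ^ δ) * (jN (ψ (1, 0))).1 + X ^ i * (jN (ψ (0, 1))).1 -
          (0 * (jN (ψ (1, 0))).2 + X ^ i * (jN (ψ (0, 1))).2)) = 0
        refine coeff_eq_zero (S := Set.Ici (δ + μ)) ?_ (by have := a.2; simp only [Set.mem_Ici]; omega)
        rw [show ∀ P Q R S : k⟦X⟧, -P * Q + X ^ i * R - (0 * ((jN (ψ (1, 0))).2) + X ^ i * S) =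
          -(P * Q) + X ^ i * (R - S) from fun _ _ _ _ => by ring]
        refine add_mem (neg_mem (X_pow_mul_Ici (b := j) (by simp only [μ]; omega) ?_))
          (X_pow_mul_Ici (b := δ) (by simp only [μ]; omega) b2)
        rw [show (jN (ψ (1, 0))).1 = ((jN (ψ (1, 0))).1 - (jN (ψ (1, 0))).2) + (jN (ψ (1, 0))).2 by ring]
        exact add_mem (supp_Ici_mono hj a2) a1

end Groth.Agent.TFCurvLib
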