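import Groth.Agent.TFCurvLib.LatticeOne
import Groth.Agent.TFCurvLib.ExtOne
import Groth.Agent.TFCurvLib.Mono
import Groth.Agent.TFCurvLib.Tacnode
import Groth.Agent.TFCurvSG.Value
import Mathlib.RingTheory.Finiteness.Finsupp
import Mathlib.RingTheory.LaurentSeries

/-!
# Value sets of dual modules over a unibranch curve singularity
-/

set_option linter.style.haveILetI false

universe u

open CategoryTheory
open PowerSeries (X coeff order constantCoeff)

namespace Groth.Agent.TFCurvLib.ValueDual

variable {k : Type u} [Field k] {A : Subalgebra k (PowerSeries k)}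

local notation "P" => PowerSeries k

theorem exists_eq_X_pow_mul {j : ℕ} {f : P} (h : f ∈ TFCurvSG.high j) : ∃ g, f = X ^ j * g :=
  PowerSeries.X_pow_dvd_iff.2 fun i hi => PowerSeries.coeff_of_lt_order i (lt_of_lt_of_le (Nat.cast_lt.2 hi) h)

theorem X_pow_mul_mem_high (j : ℕ) (g : P) : X ^ j * g ∈ TFCurvSG.high j :=
  PowerSeries.nat_le_order _ _ fun i hi => PowerSeries.X_pow_dvd_iff.1 (dvd_mul_right _ _) i hi

theorem high_antitone {i j : ℕ} (h : i ≤ j) : (TFCurvSG.high j : Submodule k P) ≤ TFCurvSG.high i :=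
  fun f hf => show (i : ℕ∞) ≤ order f from (Nat.cast_le.2 h).trans hf

variable (A) in
/-- Series of order at least `j`, over `A`. -/
def highA (j : ℕ) : Submodule ↥A P where
  carrier := TFCurvSG.high (k := k) j
  zero_mem' := Submodule.zero_mem _
  add_mem' := Submodule.add_mem _
  smul_mem' a f hf := le_trans hf (le_trans le_add_self (PowerSeries.le_order_mul (a : P) f))

theorem mem_highA {j : ℕ} {f : P} : f ∈ highA A j ↔ f ∈ TFCurvSG.high j := Iff.rfl

theorem highA_fg (hA : Module.Finite ↥A P) (j : ℕ) : (highA A j).FG := by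
  let f : P →ₗ[↥A] P :=
    { toFun := fun g => X ^ j * g
      map_add' := fun x y => mul_add _ _ _
      map_smul' := fun a x => mul_left_comm _ _ _ }
  have : highA A j = LinearMap.range f := Submodule.ext fun g =>
    ⟨fun hg => (exists_eq_X_pow_mul hg).imp fun _ h => h.symm,
      fun ⟨h, hh⟩ => hh ▸ X_pow_mul_mem_high j h⟩
  rw [this, LinearMap.range_eq_map]
  exact Module.Finite.fg_top.map f

section

variable {c : ℕ} (hbig : TFCurvSG.high c ≤ Subalgebra.toSubmodule A)

include hbig

theorem isUnit_iff_constantCoeff (a : A) : IsUnit a ↔ constantCoeff (a : P) ≠ 0 :=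
  ⟨fun h => IsUnit.ne_zero (h.map (chi A)), fun h =>
    isUnit_of_high (fun _ hf => hbig (mem_Ici_iff.1 hf)) a h⟩

theorem isLocalRing : IsLocalRing ↥A :=
  IsLocalRing.of_nonunits_add fun a b ha hb => by
    simp only [mem_nonunits_iff, isUnit_iff_constantCoeff hbig, not_not] at ha hb ⊢
    rw [Subalgebra.coe_add, map_add, ha, hb, add_zero]

/-- A nonzero element times the conductor contains all series of high order. -/
theorem exists_mul_high (a : A) {r : ℕ} (hr : order (a : P) = r) {g : P} (hg : g ∈ TFCurvSG.high (c + r)) :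
    ∃ b : A, (b : P) ∈ TFCurvSG.high c ∧ g = (a : P) * b := by
  have ha : (a : P) ≠ 0 := fun h => by
    rw [h, PowerSeries.order_zero] at hr
    exact ENat.top_ne_natCast r hr
  obtain ⟨g', rfl⟩ := exists_eq_X_pow_mul hg
  obtain ⟨v, hv⟩ := (PowerSeries.isUnit_iff_constantCoeff (φ := (a : P).divXPowOrder)).2
    (isUnit_iff_ne_zero.2 (by rwa [Ne, PowerSeries.constantCoeff_divXPowOrder_eq_zero_iff]))
  have hee : (a : P) = X ^ r * (v : P) := by
    conv_lhs => rw [← PowerSeries.X_pow_order_mul_divXPowOrder (f := (a : P)), ← hv, hr, ENat.toNat_natCast]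
  refine ⟨⟨_, hbig (X_pow_mul_mem_high c (((v⁻¹ : Pˣ) : P) * g'))⟩, X_pow_mul_mem_high _ _, ?_⟩
  show X ^ (c + r) * g' = (a : P) * (X ^ c * (((v⁻¹ : Pˣ) : P) * g'))
  rw [hee, show X ^ r * (v : P) * (X ^ c * (((v⁻¹ : Pˣ) : P) * g')) = X ^ c * X ^ r * ((v : P) * ((v⁻¹ : Pˣ) : P) * g') by ring,
    Units.mul_inv, one_mul, pow_add]

theorem krullDimLE_one : Ring.KrullDimLE 1 ↥A := by
  haveI := isLocalRing hbig
  refine Ring.krullDimLE_one_iff_of_noZeroDivisors.2 fun p hp0 hp => ?_
  obtain ⟨a, ha, ha0⟩ := Submodule.exists_mem_ne_zero_of_ne_bot hp0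
  have hr : order (a : P) = ((a : P).order.toNat : ℕ) :=
    (PowerSeries.coe_toNat_order fun h => ha0 (Subtype.ext h)).symm
  suffices IsLocalRing.maximalIdeal ↥A ≤ p by
    rw [← le_antisymm this (IsLocalRing.le_maximalIdeal hp.ne_top)]
    infer_instance
  intro e he
  rw [IsLocalRing.mem_maximalIdeal, mem_nonunits_iff, isUnit_iff_constantCoeff hbig, not_not] at he
  refine hp.mem_of_pow_mem (c + (a : P).order.toNat) ?_
  obtain ⟨g, hg⟩ := PowerSeries.X_dvd_iff.2 he
  obtain ⟨b, -, hb⟩ := exists_mul_high hbig a hr (g := ((e ^ (c + (a : P).order.toNat) : A) : P)) (by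
    rw [Subalgebra.coe_pow, hg, mul_pow]
    exact X_pow_mul_mem_high _ _)
  rw [show e ^ (c + (a : P).order.toNat) = a * b from Subtype.ext hb]
  exact p.mul_mem_right _ ha

theorem not_isField (hc : c ≠ 0) : ¬ IsField ↥A := by
  intro h
  letI := h.toField
  have hu : IsUnit (⟨X ^ c, hbig (by simpa using X_pow_mul_mem_high c (1 : P))⟩ : A) :=
    isUnit_iff_ne_zero.2 fun h0 => by
      have := congrArg Subtype.val h0
      exact pow_ne_zero c PowerSeries.X_ne_zero this
  rw [isUnit_iff_constantCoeff hbig] at hu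
  simp [zero_pow hc] at hu

theorem isNoetherianRing (hA : Module.Finite ↥A P) : IsNoetherianRing ↥A := by
  refine ⟨fun J => ?_⟩
  by_cases hJ : J = ⊥
  · exact hJ ▸ Submodule.fg_bot
  obtain ⟨a, ha, ha0⟩ := Submodule.exists_mem_ne_zero_of_ne_bot hJ
  have hr : order (a : P) = ((a : P).order.toNat : ℕ) :=
    (PowerSeries.coe_toNat_order fun h => ha0 (Subtype.ext h)).symm
  set N := c + (a : P).order.toNat with hN
  let ι : ↥A →ₗ[↥A] P := Algebra.linearMap ↥A P
  have hι : Function.Injective ι := Subtype.val_injective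
  let H : Submodule ↥A ↥A := (highA A N).comap ι
  have hHle : H ≤ J := fun x hx => by
    obtain ⟨b, -, hb⟩ := exists_mul_high hbig a hr hx
    rw [show x = a * b from Subtype.ext hb]
    exact Ideal.mul_mem_right _ J ha
  have hHfg : H.FG := Submodule.fg_of_fg_map_injective ι hι (by
    rw [Submodule.map_comap_eq_of_le]
    · exact highA_fg hA N
    · exact fun g hg => ⟨⟨g, hbig (high_antitone (Nat.le_add_right c _) hg)⟩, rfl⟩)
  let Φ : ↥A →ₗ[k] (Fin N → k) := LinearMap.pi fun i => (coeff (i : ℕ)).comp A.val.toLinearMap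
  have hker : LinearMap.ker Φ = H.restrictScalars k := by
    ext x
    refine ⟨fun hx => PowerSeries.nat_le_order _ _ fun i hi => congrFun hx ⟨i, hi⟩, fun hx => funext fun i => ?_⟩
    exact PowerSeries.coeff_of_lt_order _ (lt_of_lt_of_le (Nat.cast_lt.2 i.2) hx)
  haveI : Module.Finite k (↥A ⧸ H) := by
    haveI : Module.Finite k (↥A ⧸ LinearMap.ker Φ) :=
      Module.Finite.of_injective _ (LinearMap.ker_eq_bot.1 (Submodule.ker_liftQ_eq_bot _ Φ le_rfl le_rfl))
    exact Module.Finite.equiv ((Submodule.quotEquivOfEq _ _ hker).trans (Submodule.Quotient.restrictScalarsEquiv k H))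
  haveI : IsNoetherian ↥A (↥A ⧸ H) := isNoetherian_of_tower k inferInstance
  refine Submodule.fg_of_fg_map_of_fg_inf_ker H.mkQ (IsNoetherian.noetherian _) ?_
  rwa [Submodule.ker_mkQ, inf_eq_right.2 hHle]

theorem isFractionRing : IsFractionRing ↥A (FractionRing P) := by
  have hinj : Function.Injective (algebraMap ↥A (FractionRing P)) := by
    rw [IsScalarTower.algebraMap_eq ↥A P (FractionRing P)]
    exact (IsFractionRing.injective P (FractionRing P)).comp Subtype.val_injective
  have hmul : ∀ f : P, X ^ c * f ∈ A := fun f => hbig (X_pow_mul_mem_high c f)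
  have halg : ∀ a : A, algebraMap ↥A (FractionRing P) a = algebraMap P (FractionRing P) (a : P) := fun _ => rfl
  refine { map_units := fun y => ?_, surj := fun z => ?_, exists_of_eq := fun h => ⟨1, by rw [hinj h]⟩ }
  · exact isUnit_iff_ne_zero.2 fun h => nonZeroDivisors.coe_ne_zero y (hinj (h.trans (map_zero _).symm))
  · obtain ⟨p, q, hq, rfl⟩ := IsFractionRing.div_surjective (A := P) z
    have hq0 : q ≠ 0 := nonZeroDivisors.ne_zero hq
    refine ⟨(⟨X ^ c * p, hmul p⟩, ⟨⟨X ^ c * q, hmul q⟩, mem_nonZeroDivisors_of_ne_zero fun h => ?_⟩), ?_⟩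
    · exact mul_ne_zero (pow_ne_zero c PowerSeries.X_ne_zero) hq0 (congrArg Subtype.val h)
    · simp only [halg, map_mul]
      have : algebraMap P (FractionRing P) q ≠ 0 := fun h => hq0 (IsFractionRing.to_map_eq_zero_iff.1 h)
      field_simp

/-- Number of values below `c`. -/
theorem length_quot_high (N : Submodule ↥A P) (hN : highA A c ≤ N) (V : Finset ℕ)
    (hV : ∀ n, n ∈ V ↔ n < c ∧ ∃ f ∈ N, order f = n) :
    Lattice.dlen (highA A c) N = V.card := by
  classical
  haveI := isLocalRing hbig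
  choose w hw hwo using fun n : V => ((hV n).1 n.2).2
  let Φ : ↥N →ₗ[k] (↥V → k) :=
    LinearMap.pi fun n => (coeff (n : ℕ)).comp (N.subtype.restrictScalars k)
  have hker : ∀ x : N, Φ x = 0 ↔ x ∈ (highA A c).comap N.subtype := by
    intro x
    refine ⟨fun hx => ?_, fun hx => funext fun n => ?_⟩
    · by_contra hne
      have hx0 : (x : P) ≠ 0 := fun h => hne (show (x : P) ∈ highA A c from h ▸ Submodule.zero_mem _)
      have ho := (PowerSeries.coe_toNat_order hx0).symm
      have hlt : (x : P).order.toNat < c := by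
        by_contra hh
        refine hne (show (c : ℕ∞) ≤ (x : P).order from ?_)
        rw [ho]
        exact Nat.cast_le.2 (not_lt.1 hh)
      exact PowerSeries.coeff_order hx0 (congrFun hx ⟨_, (hV _).2 ⟨hlt, x, x.2, ho⟩⟩)
    · exact PowerSeries.coeff_of_lt_order _ (lt_of_lt_of_le (Nat.cast_lt.2 ((hV _).1 n.2).1) hx)
  let L : (↥V → k) →ₗ[k] ↥N := Fintype.linearCombination k fun n => (⟨w n, hw n⟩ : N)
  have hinj : Function.Injective (Φ ∘ₗ L) := by
    rw [injective_iff_map_eq_zero]
    intro v hv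
    by_contra hne
    obtain ⟨n, hn, hmin⟩ := (Finset.univ.filter fun n : V => v n ≠ 0).exists_min_image (fun n => (n : ℕ)) (by
      obtain ⟨n, hn⟩ := Function.ne_iff.1 hne
      exact ⟨n, Finset.mem_filter.2 ⟨Finset.mem_univ _, hn⟩⟩)
    have h0 := congrFun hv n
    simp only [L, Φ, LinearMap.comp_apply, Fintype.linearCombination_apply, LinearMap.pi_apply, map_sum, map_smul,
      Pi.zero_apply, LinearMap.coe_restrictScalars, Submodule.subtype_apply, smul_eq_mul] at h0
    rw [Finset.sum_eq_single n] at h0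
    · rcases mul_eq_zero.1 h0 with h | h
      · exact (Finset.mem_filter.1 hn).2 h
      · exact (PowerSeries.order_eq_nat.1 (hwo n)).1 h
    · intro m _ hmn
      by_cases hm : v m = 0
      · rw [hm, zero_mul]
      have hle := hmin m (Finset.mem_filter.2 ⟨Finset.mem_univ _, hm⟩)
      have hlt : (n : ℕ) < (m : ℕ) := lt_of_le_of_ne hle fun h => hmn (Subtype.ext h.symm)
      rw [(PowerSeries.order_eq_nat.1 (hwo m)).2 n hlt, mul_zero]
    · simp
  have hsurj : Function.Surjective Φ := fun y => by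
    obtain ⟨v, hv⟩ := LinearMap.injective_iff_surjective.1 hinj y
    exact ⟨L v, hv⟩
  exact (length_quot_eq_card (chi A) (fun a ha => (isUnit_iff_constantCoeff hbig a).2 ha) _ Φ hsurj hker).trans
    (by rw [Fintype.card_coe])

end

variable (A) in
/-- The embedding of `k[[t]]` in its fraction field, over `A`. -/
noncomputable def emb : P →ₗ[↥A] FractionRing P := (IsScalarTower.toAlgHom ↥A P (FractionRing P)).toLinearMap

theorem emb_apply (f : P) : emb A f = algebraMap P (FractionRing P) f := rfl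

theorem emb_injective : Function.Injective (emb A) := IsFractionRing.injective P (FractionRing P)

theorem dlen_map_injective {O V V' : Type*} [CommRing O] [AddCommGroup V] [Module O V] [AddCommGroup V'] [Module O V']
    (f : V →ₗ[O] V') (hf : Function.Injective f) (N L : Submodule O V) :
    Lattice.dlen (N.map f) (L.map f) = Lattice.dlen N L := by
  refine LinearEquiv.length_eq ((Submodule.Quotient.equiv _ _ (Submodule.equivMapOfInjective f hf L) ?_).symm)
  ext y
  constructor
  · rintro ⟨x, hx, rfl⟩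
    exact ⟨x, hx, rfl⟩
  · intro hy
    obtain ⟨x, hx, hxy⟩ := Submodule.mem_map.1 hy
    obtain ⟨x', hx', hxy'⟩ := Submodule.mem_map.1 y.2
    refine ⟨⟨x', hx'⟩, ?_, Subtype.ext hxy'⟩
    show x' ∈ N
    rwa [hf (hxy'.trans hxy.symm)]

theorem injDim_map {O : Type u} [CommRing O] {V V' : Type u} [AddCommGroup V] [Module O V] [AddCommGroup V']
    [Module O V'] (f : V →ₗ[O] V') (hf : Function.Injective f) (N : Submodule O V) {n : ℕ}
    (h : HasInjectiveDimensionLT (ModuleCat.of O ↥N) n) : HasInjectiveDimensionLT (ModuleCat.of O ↥(N.map f)) n := by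
  haveI := h
  exact hasInjectiveDimensionLT_of_iso (Submodule.equivMapOfInjective f hf N).toModuleIso n

/-- The multipliers from `M` into `ω`. -/
def mult (ω M : Submodule ↥A P) : Submodule ↥A P where
  carrier := {u | ∀ m ∈ M, u * m ∈ ω}
  zero_mem' m _ := by rw [zero_mul]; exact ω.zero_mem
  add_mem' hu hv m hm := by rw [add_mul]; exact ω.add_mem (hu m hm) (hv m hm)
  smul_mem' a u hu m hm := by
    rw [show a • u * m = a • (u * m) from mul_assoc _ _ _]
    exact ω.smul_mem a (hu m hm)

theorem emb_div {ω M : Submodule ↥A P} (hM1 : (1 : P) ∈ M) :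
    ω.map (emb A) / M.map (emb A) = (mult ω M).map (emb A) := by
  ext x
  rw [Submodule.mem_div_iff_forall_mul_mem]
  constructor
  · intro h
    obtain ⟨u, hu, hux⟩ := h _ (Submodule.mem_map_of_mem hM1)
    rw [emb_apply, emb_apply, map_one, mul_one] at hux
    refine ⟨u, fun m hm => ?_, hux⟩
    obtain ⟨w, hw, hwe⟩ := h _ (Submodule.mem_map_of_mem hm)
    rw [emb_apply, emb_apply, ← hux, ← map_mul] at hwe
    exact IsFractionRing.injective P (FractionRing P) hwe ▸ hw
  · rintro ⟨u, hu, rfl⟩ _ ⟨m, hm, rfl⟩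
    exact ⟨u * m, hu m hm, by rw [emb_apply, emb_apply, emb_apply, map_mul]⟩

theorem mult_one_span (ω : Submodule ↥A P) : mult ω (Submodule.span ↥A {(1 : P)}) = ω := by
  ext u
  refine ⟨fun h => ?_, fun h m hm => ?_⟩
  · simpa using h 1 (Submodule.mem_span_singleton_self _)
  · obtain ⟨a, rfl⟩ := Submodule.mem_span_singleton.1 hm
    rw [mul_smul_comm, mul_one]
    exact ω.smul_mem a h

theorem value_mult_iff (hA : Module.Finite ↥A P)
    (hcl : ∀ f : P, (∀ n : ℕ, ∃ g ∈ A, (n : ℕ∞) ≤ order (f - g)) → f ∈ A)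
    (c : ℕ) (hc : ∀ n, c ≤ n → ∃ f ∈ A, order f = n) (hc0 : c ≠ 0) (hc1 : ¬ ∃ f ∈ A, order f = ((c - 1 : ℕ) : ℕ∞))
    (ω : Submodule ↥A P) (hω1 : (1 : P) ∈ ω) (hωfg : ω.FG)
    (hωinj : HasInjectiveDimensionLT (ModuleCat.of ↥A ↥ω) 2)
    (M : Submodule ↥A P) (hMfg : M.FG) (hM1 : (1 : P) ∈ M) (n : ℕ) :
    (∃ u : P, order u = n ∧ ∀ m ∈ M, u * m ∈ ω) ↔
      (c ≤ n ∨ ¬ ∃ m ∈ M, order m = ((c - 1 - n : ℕ) : ℕ∞)) := by
  classical
  have hbig : TFCurvSG.high c ≤ Subalgebra.toSubmodule A :=
    TFCurvSG.high_le_of_closed (W := Subalgebra.toSubmodule A) hcl hc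
  haveI := isLocalRing hbig
  haveI := isNoetherianRing hbig hA
  haveI := krullDimLE_one hbig
  haveI := isFractionRing hbig
  have hnf := not_isField hbig hc0
  let K := FractionRing P
  let e := emb A
  let Ω : Submodule ↥A K := ω.map e
  have hΩ0 : Ω ≠ ⊥ := fun h => by
    have h1 : e (1 : P) ∈ Ω := Submodule.mem_map_of_mem hω1
    rw [h, Submodule.mem_bot] at h1
    exact one_ne_zero ((map_eq_zero_iff e emb_injective).1 h1)
  have hΩinj : HasInjectiveDimensionLT (ModuleCat.of ↥A ↥Ω) 2 :=
    injDim_map e emb_injective ω hωinj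
  have hsub : ∀ N : Submodule ↥A P, (1 : P) ∈ N → ∀ a ∈ A, a ∈ N := fun N h1 a ha => by
    simpa [Subalgebra.smul_def] using N.smul_mem ⟨a, ha⟩ h1
  have hHA : ∀ N : Submodule ↥A P, (1 : P) ∈ N → highA A c ≤ N := fun N h1 f hf => hsub N h1 f (hbig hf)
  have hcore : ∀ u : P, (∀ p, u * p ∈ ω) → (c : ℕ∞) ≤ order u := by
    -- multipliers of `k[[t]]` into `ω` lie in the conductor
    have hone : mult ω ω = Submodule.span ↥A {(1 : P)} := by
      have h := Lattice.div_div Ω (hωfg.map e) hΩ0 hΩinj hnf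
        (L := (Submodule.span ↥A {(1 : P)}).map e) ((Submodule.fg_span_singleton _).map e) (fun h => by
          have h1 : e (1 : P) ∈ (Submodule.span ↥A {(1 : P)}).map e :=
            Submodule.mem_map_of_mem (Submodule.mem_span_singleton_self _)
          rw [h, Submodule.mem_bot] at h1
          exact one_ne_zero ((map_eq_zero_iff e emb_injective).1 h1))
      rw [emb_div (Submodule.mem_span_singleton_self _), mult_one_span, emb_div hω1] at h
      exact Submodule.map_injective_of_injective emb_injective h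
    intro u hu
    refine PowerSeries.nat_le_order _ _ fun i hi => ?_
    by_contra hne
    have hu0 : u ≠ 0 := fun h => hne (by simp [h])
    have hlt : u.order.toNat ≤ i := by
      by_contra hh
      exact hne (PowerSeries.coeff_of_lt_order_toNat i (by omega))
    have hmem : u * X ^ (c - 1 - u.order.toNat) ∈ mult ω ω := fun w hw => by
      rw [mul_assoc]; exact hu _
    rw [hone] at hmem
    obtain ⟨a, ha⟩ := Submodule.mem_span_singleton.1 hmem
    refine hc1 ⟨u * X ^ (c - 1 - u.order.toNat), ?_, ?_⟩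
    · rw [← ha, Subalgebra.smul_def, smul_eq_mul, mul_one]
      exact a.2
    · rw [PowerSeries.order_mul, PowerSeries.order_X_pow, ← PowerSeries.coe_toNat_order hu0, ← Nat.cast_add,
        ENat.toNat_natCast]
      congr 1
      omega
  have hmultTop : mult ω ⊤ = highA A c := by
    refine le_antisymm (fun u hu => hcore u fun p => hu p trivial) fun f hf m _ => ?_
    exact hHA ω hω1 (le_trans hf (le_trans le_self_add (PowerSeries.le_order_mul f m)))
  let W := mult ω M
  have hHW : highA A c ≤ W := fun f hf m _ =>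
    hHA ω hω1 (le_trans hf (le_trans le_self_add (PowerSeries.le_order_mul f m)))
  have hlen : Lattice.dlen (highA A c) W = Lattice.dlen M ⊤ := by
    have hM0 : M.map e ≠ ⊥ := fun h => by
      have h1 : e (1 : P) ∈ M.map e := Submodule.mem_map_of_mem hM1
      rw [h, Submodule.mem_bot] at h1
      exact one_ne_zero ((map_eq_zero_iff e emb_injective).1 h1)
    have h := Lattice.dlen_div Ω (hωfg.map e) hΩ0 hΩinj hnf (hMfg.map e) hM0
      (Module.Finite.fg_top.map e) (Submodule.map_mono (le_top : M ≤ ⊤))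
    rw [emb_div hM1, emb_div (Submodule.mem_top), hmultTop, dlen_map_injective e emb_injective,
      dlen_map_injective e emb_injective] at h
    exact h
  let VM := (Finset.range c).filter fun m : ℕ => ∃ f ∈ M, order f = (m : ℕ∞)
  let VW := (Finset.range c).filter fun m : ℕ => ∃ f ∈ W, order f = (m : ℕ∞)
  let T := (Finset.range c).filter fun m => c - 1 - m ∉ VM
  have h1 := length_quot_high hbig M (hHA M hM1) VM fun m => by simp [VM]
  have h2 := length_quot_high hbig W hHW VW fun m => by simp [VW]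
  have h3 := length_quot_high hbig (⊤ : Submodule ↥A P) le_top (Finset.range c) fun m =>
    ⟨fun hm => ⟨Finset.mem_range.1 hm, X ^ m, trivial, PowerSeries.order_X_pow m⟩, fun h => Finset.mem_range.2 h.1⟩
  rw [Lattice.dlen_add (hHA M hM1) le_top, h1, ← hlen, h2, Finset.card_range] at h3
  have hcard : VM.card + VW.card = c := by exact_mod_cast h3
  have hsubset : VW ⊆ T := by
    intro a ha
    obtain ⟨hac, u, hu, huo⟩ : a < c ∧ ∃ f ∈ W, order f = a := by simpa [VW] using ha
    refine Finset.mem_filter.2 ⟨Finset.mem_range.2 hac, fun hm => ?_⟩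
    obtain ⟨-, m, hm, hmo⟩ : c - 1 - a < c ∧ ∃ f ∈ M, order f = ((c - 1 - a : ℕ) : ℕ∞) := by simpa [VM] using hm
    have ho : order (u * m) = ((c - 1 : ℕ) : ℕ∞) := by
      rw [PowerSeries.order_mul, huo, hmo, ← Nat.cast_add]
      congr 1
      omega
    have hle : TFCurvSG.high (c - 1) ≤ ω.restrictScalars k :=
      TFCurvSG.descent (W := ω.restrictScalars k) (c := c) (fun f hf => hHA ω hω1 hf)
        fun j hj hjc => ⟨u * m, hu m hm, by rw [ho]; congr 1; omega⟩
    have := hcore (X ^ (c - 1)) fun p => hle (X_pow_mul_mem_high _ p)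
    rw [PowerSeries.order_X_pow, Nat.cast_le] at this
    omega
  have hTcard : T.card + VM.card = c := by
    have himg : ((Finset.range c).filter fun m => c - 1 - m ∈ VM).card = VM.card := by
      refine Finset.card_nbij' (fun m => c - 1 - m) (fun m => c - 1 - m) ?_ ?_ ?_ ?_ <;> intro m hm <;>
        simp [VM, -ENat.natCast_sub, -Nat.cast_sub] at hm ⊢
      · exact hm.2
      · obtain ⟨h, hh⟩ := hm
        refine ⟨by omega, by omega, ?_⟩
        rwa [show c - 1 - (c - 1 - m) = m by omega]
      · omega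
      · omega
    have := Finset.card_filter_add_card_filter_not (s := Finset.range c) (fun m => c - 1 - m ∈ VM)
    rw [himg, Finset.card_range] at this
    rw [add_comm, ← this]
  have heq : VW = T := Finset.eq_of_subset_of_card_le hsubset (by omega)
  by_cases hn : c ≤ n
  · refine iff_of_true ⟨X ^ n, PowerSeries.order_X_pow n, hHW ?_⟩ (Or.inl hn)
    show (c : ℕ∞) ≤ order (X ^ n : P)
    rw [PowerSeries.order_X_pow]
    exact Nat.cast_le.2 hn
  · have hmem := Finset.ext_iff.1 heq n
    simp only [VW, T, VM, Finset.mem_filter, Finset.mem_range, show n < c by omega, true_and,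
      show c - 1 - n < c by omega] at hmem
    rw [or_iff_right hn, ← hmem]
    exact ⟨fun ⟨u, h1, h2⟩ => ⟨u, h2, h1⟩, fun ⟨u, h1, h2⟩ => ⟨u, h2, h1⟩⟩

end Groth.Agent.TFCurvLib.ValueDual
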