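import Groth.Agent.TorBridge.KerNat
import Groth.Agent.CAlgOdd.TorSymm.Main
import Mathlib

/-! `Tor₁` and torsion in tensor products. -/

noncomputable section

namespace Groth.Agent.TFCurvLib.TorTorsion

universe u

open CategoryTheory TensorProduct

variable {R : Type u} [CommRing R]

theorem comm {U V A B : Type u} [AddCommGroup U] [Module R U] [AddCommGroup V] [Module R V] [AddCommGroup A] [Module R A]
    [AddCommGroup B] [Module R B] (ι : U →ₗ[R] V) (a : A →ₗ[R] B) (z : U ⊗[R] A) :
    ι.rTensor B (a.lTensor U z) = a.lTensor V (ι.rTensor A z) := by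
  induction z using TensorProduct.induction_on with
  | zero => simp
  | tmul x y => simp
  | add x y hx hy => simp [hx, hy]

/-- `Tor₁(X, Y)` is the kernel of `K ⊗ Y → F ⊗ Y` for a flat presentation of `X`. -/
theorem nonempty_tor_equiv_ker {F : Type u} [AddCommGroup F] [Module R F] [Module.Flat R F] {K : Type u} [AddCommGroup K]
    [Module R K] {X : Type u} [AddCommGroup X] [Module R X] (ι : K →ₗ[R] F) (q : F →ₗ[R] X) (hι : Function.Injective ι)
    (hq : Function.Surjective q) (h : Function.Exact ι q) (Y : Type u) [AddCommGroup Y] [Module R Y] :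
    Nonempty ((((Tor (ModuleCat.{u} R) 1).obj (ModuleCat.of R X)).obj (ModuleCat.of R Y) : ModuleCat.{u} R) ≃ₗ[R]
      ↥(LinearMap.ker (ι.rTensor Y))) := by
  let S : ShortComplex (ModuleCat.{u} R) := ShortComplex.mk (ModuleCat.ofHom ι) (ModuleCat.ofHom q)
    (ModuleCat.hom_ext (LinearMap.ext fun k => (h (ι k)).2 ⟨k, rfl⟩))
  have hS : S.ShortExact :=
    { exact := (ShortComplex.ShortExact.moduleCat_exact_iff_function_exact _).2 h
      mono_f := (ModuleCat.mono_iff_injective _).2 hι
      epi_g := (ModuleCat.epi_iff_surjective _).2 hq }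
  haveI : Module.Flat R S.X₂ := ‹Module.Flat R F›
  exact ⟨(LinearEquiv.ofInjective _ (TorBridge.KerNat.θ_injective hS (ModuleCat.of R Y))).trans
    (LinearEquiv.ofEq _ _ (TorBridge.KerNat.θ_range hS (ModuleCat.of R Y)).linearMap_ker_eq.symm)⟩

/-- The diagram chase behind the long exact sequence. -/
theorem nonempty_ker_equiv {K F X : Type u} [AddCommGroup K] [Module R K] [AddCommGroup F] [Module R F] [Module.Flat R F]
    [AddCommGroup X] [Module R X] (ι : K →ₗ[R] F) (q : F →ₗ[R] X) (hι : Function.Injective ι) (hq : Function.Surjective q)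
    (hE : Function.Exact ι q) {P M T : Type u} [AddCommGroup P] [Module R P]
    [Module.Flat R P] [AddCommGroup M] [Module R M] [AddCommGroup T] [Module R T] (f : P →ₗ[R] M) (g : M →ₗ[R] T)
    (hf : Function.Injective f) (hg : Function.Surjective g) (hfg : Function.Exact f g) (hX : Function.Injective (f.lTensor X)) :
    Nonempty (↥(LinearMap.ker (ι.rTensor M)) ≃ₗ[R] ↥(LinearMap.ker (ι.rTensor T))) := by
  have hιP : Function.Injective (ι.rTensor P) := Module.Flat.rTensor_preserves_injective_linearMap (M := P) ι hι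
  have hfinj : Function.Injective (f.lTensor F) := Module.Flat.lTensor_preserves_injective_linearMap f hf
  let φ : LinearMap.ker (ι.rTensor M) →ₗ[R] LinearMap.ker (ι.rTensor T) :=
    (g.lTensor K).restrict fun z hz => by
      rw [LinearMap.mem_ker] at hz ⊢
      rw [comm, hz, map_zero]
  refine ⟨LinearEquiv.ofBijective φ ⟨?_, ?_⟩⟩
  · refine (injective_iff_map_eq_zero _).2 fun z hz => Subtype.ext ?_
    obtain ⟨w, hw⟩ := (lTensor_exact K hfg hg _).1 (congrArg Subtype.val hz)
    simp only [Submodule.subtype_apply] at hw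
    have h0 : ι.rTensor P w = 0 := hfinj (by rw [← comm, hw, z.2, map_zero])
    rw [← hw, hιP (h0.trans (map_zero _).symm), map_zero]
    rfl
  · rintro ⟨t, ht⟩
    obtain ⟨z, rfl⟩ := LinearMap.lTensor_surjective K hg t
    rw [LinearMap.mem_ker, comm] at ht
    obtain ⟨v, hv⟩ := (lTensor_exact F hfg hg _).1 ht
    have hv0 : q.rTensor P v = 0 := hX (by
      rw [← comm, hv, map_zero]
      exact (rTensor_exact M hE hq).apply_apply_eq_zero z)
    obtain ⟨w, rfl⟩ := (rTensor_exact P hE hq _).1 hv0
    refine ⟨⟨z - f.lTensor _ w, ?_⟩, Subtype.ext ?_⟩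
    · rw [LinearMap.mem_ker, map_sub, comm, hv, sub_self]
    · change g.lTensor _ (z - f.lTensor _ w) = _
      rw [map_sub, ← LinearMap.lTensor_comp_apply, hfg.linearMap_comp_eq_zero, LinearMap.lTensor_zero,
        LinearMap.zero_apply, sub_zero]

/-- `Tor₁(X, M) ≅ Tor₁(X, T)` for `0 → P → M → T → 0` with `P` flat and `X ⊗ P → X ⊗ M` injective. -/
theorem nonempty_tor_iso_of_flat (X : Type u) [AddCommGroup X] [Module R X] {P M T : Type u} [AddCommGroup P] [Module R P]
    [Module.Flat R P] [AddCommGroup M] [Module R M] [AddCommGroup T] [Module R T] (f : P →ₗ[R] M) (g : M →ₗ[R] T)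
    (hf : Function.Injective f) (hg : Function.Surjective g) (hfg : Function.Exact f g) (hX : Function.Injective (f.lTensor X)) :
    Nonempty (((Tor (ModuleCat.{u} R) 1).obj (ModuleCat.of R X)).obj (ModuleCat.of R M) ≅
      ((Tor (ModuleCat.{u} R) 1).obj (ModuleCat.of R X)).obj (ModuleCat.of R T)) := by
  let q : (X →₀ R) →ₗ[R] X := Finsupp.linearCombination R id
  have hq : Function.Surjective q := fun m => ⟨Finsupp.single m 1, by simp [q]⟩
  have hι : Function.Injective (LinearMap.ker q).subtype := (LinearMap.ker q).injective_subtype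
  have hE : Function.Exact (LinearMap.ker q).subtype q := LinearMap.exact_subtype_ker_map q
  obtain ⟨eM⟩ := nonempty_tor_equiv_ker (F := X →₀ R) (K := ↥(LinearMap.ker q)) (X := X) (LinearMap.ker q).subtype q hι hq hE M
  obtain ⟨eT⟩ := nonempty_tor_equiv_ker (F := X →₀ R) (K := ↥(LinearMap.ker q)) (X := X) (LinearMap.ker q).subtype q hι hq hE T
  obtain ⟨e⟩ := nonempty_ker_equiv (F := X →₀ R) (K := ↥(LinearMap.ker q)) (X := X) (LinearMap.ker q).subtype q hι hq hE f g hf hg hfg hX
  exact ⟨(eM.trans (e.trans eT.symm)).toModuleIso⟩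

section Domain

variable {O : Type u} [CommRing O] [IsDomain O]

/-- A finite length cokernel is killed by a nonzero scalar. -/
theorem exists_smul_eq_zero (hnf : ¬ IsField O) (T : Type u) [AddCommGroup T] [Module O T] (hT : IsFiniteLength O T) :
    ∃ a : O, a ≠ 0 ∧ ∀ t : T, a • t = 0 := by
  classical
  obtain ⟨hN, hA⟩ := isFiniteLength_iff_isNoetherian_isArtinian.1 hT
  have htor : ∀ t : T, ∃ a : O, a ≠ 0 ∧ a • t = 0 := fun t => by
    by_contra! h
    have hinj : Function.Injective (LinearMap.toSpanSingleton O T t) := (injective_iff_map_eq_zero _).2 fun a ha => by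
      by_contra hne
      exact h a hne ha
    haveI : IsArtinian O O := isArtinian_of_injective _ hinj
    exact hnf (IsArtinianRing.isField_of_isDomain O)
  choose a ha hat using htor
  obtain ⟨s, hs⟩ := hN.noetherian ⊤
  refine ⟨∏ t ∈ s, a t, Finset.prod_ne_zero_iff.2 fun t _ => ha t, fun t => ?_⟩
  have ht : t ∈ Submodule.span O (s : Set T) := hs ▸ trivial
  induction ht using Submodule.span_induction with
  | mem t ht => rw [← Finset.prod_erase_mul _ _ ht, mul_smul, hat, smul_zero]
  | zero => rw [smul_zero]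
  | add x y _ _ hx hy => rw [smul_add, hx, hy, add_zero]
  | smul r x _ hx => rw [smul_comm, hx, smul_zero]

/-- A map with finite length cokernel has torsion kernel after tensoring. -/
theorem exists_smul_eq_zero_of_lTensor {P M : Type u} [AddCommGroup P] [Module O P] [AddCommGroup M] [Module O M]
    (f : P →ₗ[O] M) (hf : Function.Injective f) (hnf : ¬ IsField O) (hT : IsFiniteLength O (M ⧸ LinearMap.range f))
    (X : Type u) [AddCommGroup X] [Module O X] :
    ∃ a : O, a ≠ 0 ∧ ∀ z : X ⊗[O] P, f.lTensor X z = 0 → a • z = 0 := by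
  obtain ⟨a, ha, hat⟩ := exists_smul_eq_zero hnf _ hT
  have hmem : ∀ m, (a • LinearMap.id : M →ₗ[O] M) m ∈ LinearMap.range f := fun m => by
    rw [LinearMap.smul_apply, LinearMap.id_apply, ← Submodule.Quotient.mk_eq_zero, Submodule.Quotient.mk_smul, hat]
  let h : M →ₗ[O] P := (LinearEquiv.ofInjective f hf).symm.toLinearMap.comp ((a • LinearMap.id : M →ₗ[O] M).codRestrict _ hmem)
  have hh : h.comp f = a • LinearMap.id := LinearMap.ext fun x => hf (by
    change f ((LinearEquiv.ofInjective f hf).symm ⟨a • f x, hmem _⟩) = f (a • x)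
    rw [← LinearEquiv.ofInjective_apply (h := hf) f, LinearEquiv.apply_symm_apply, map_smul])
  refine ⟨a, ha, fun z hz => ?_⟩
  have h2 : h.lTensor X (f.lTensor X z) = (a • LinearMap.id : P →ₗ[O] P).lTensor X z := by
    rw [← LinearMap.lTensor_comp_apply, hh]
  rw [hz, map_zero, LinearMap.lTensor_smul, LinearMap.lTensor_id] at h2
  exact h2.symm

/-- `X ⊗ O^n` is torsion-free for torsion-free `X`. -/
theorem smul_eq_zero_tensor_pi {X : Type u} [AddCommGroup X] [Module O X] [Module.IsTorsionFree O X] {n : ℕ} {a : O}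
    (ha : a ≠ 0) {z : X ⊗[O] (Fin n → O)} (h : a • z = 0) : z = 0 := by
  refine (TensorProduct.piScalarRight O O X (Fin n)).injective ?_
  rw [map_zero]
  have h2 := congrArg (TensorProduct.piScalarRight O O X (Fin n)) h
  rw [map_smul, map_zero] at h2
  exact (smul_eq_zero.1 h2).resolve_left ha

end Domain

end Groth.Agent.TFCurvLib.TorTorsion
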