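import Groth.Agent.TFCurvLib.Mono

/-!
# `Ext¹` of two-generated monomial modules over monomial curve singularities
-/

universe u

namespace Groth.Agent.TFCurvLib

open PowerSeries CategoryTheory Abelian

variable {k : Type u} [Field k] {A : Subalgebra k k⟦X⟧} {Γ : Set ℕ}

/-- A monomial `A`-submodule. -/
def suppSub (hA : ∀ f, f ∈ A ↔ f ∈ supp (k := k) Γ) (S : Set ℕ) (h : ∀ g ∈ Γ, ∀ m ∈ S, g + m ∈ S) :
    Submodule A k⟦X⟧ where
  carrier := supp (k := k) S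
  zero_mem' := zero_mem _
  add_mem' ha hb := add_mem ha hb
  smul_mem' a _ hf := mul_mem_supp h ((hA _).1 a.2) hf

theorem mem_span_pair_iff (hA : ∀ f, f ∈ A ↔ f ∈ supp (k := k) Γ) (s : ℕ) (SM : Set ℕ)
    (hSM : ∀ m, m ∈ SM ↔ m ∈ Γ ∨ (s ≤ m ∧ m - s ∈ Γ)) (x : k⟦X⟧) :
    (∃ y : Submodule.span A ({1, X ^ s} : Set k⟦X⟧), (Submodule.subtype _) y = x) ↔ x ∈ supp SM := by
  constructor
  · rintro ⟨⟨y, hy⟩, rfl⟩
    obtain ⟨a, b, rfl⟩ := Submodule.mem_span_pair.1 hy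
    change (a : k⟦X⟧) * 1 + (b : k⟦X⟧) * X ^ s ∈ supp SM
    rw [mul_one, mul_comm]
    exact add_mem (supp_mono (fun m hm => (hSM m).2 (Or.inl hm)) ((hA _).1 a.2))
      (X_pow_mul_mem (fun m hm => (hSM _).2 (Or.inr ⟨Nat.le_add_left _ _, by rwa [Nat.add_sub_cancel]⟩))
        ((hA _).1 b.2))
  · intro hx
    obtain ⟨a, ha, b, hb, rfl⟩ := exists_add_shift (S := Γ) (s := s) (fun m hm => (hSM m).1 hm) hx
    refine ⟨⟨_, Submodule.mem_span_pair.2 ⟨⟨a, (hA a).2 ha⟩, ⟨b, (hA b).2 hb⟩, rfl⟩⟩, ?_⟩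
    change a * 1 + b * X ^ s = _
    ring

variable (hA : ∀ f, f ∈ A ↔ f ∈ supp (k := k) Γ) {s b : ℕ} {SK : Set ℕ}
  (hSK : ∀ g ∈ Γ, ∀ m ∈ SK, g + m ∈ SK) (hK1 : ∀ m ∈ SK, b + m ∈ Γ ∧ b + s + m ∈ Γ)

/-- `K → A²`. -/
noncomputable def twoF : suppSub hA SK hSK →ₗ[A] ↥A × ↥A where
  toFun x := (⟨X ^ (b + s) * -(x : k⟦X⟧), (hA _).2 (X_pow_mul_mem (S := SK)
      (fun m hm => by rw [add_comm]; exact (hK1 m hm).2) (neg_mem x.2))⟩,
    ⟨X ^ b * (x : k⟦X⟧), (hA _).2 (X_pow_mul_mem (S := SK)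
      (fun m hm => by rw [add_comm]; exact (hK1 m hm).1) x.2)⟩)
  map_add' x y := Prod.ext (Subtype.ext (by simp [mul_add]; ring)) (Subtype.ext (by simp [mul_add]))
  map_smul' c x := Prod.ext (Subtype.ext (by
      change X ^ (b + s) * -((c : k⟦X⟧) * (x : k⟦X⟧)) = (c : k⟦X⟧) * _; ring))
    (Subtype.ext (mul_left_comm _ _ _))

include hA hSK hK1 in
/-- `length Ext¹(M, N)` for `M = A + t^s A`, whose relation module is `t^b · supp SK`. -/
theorem length_ext_two {c : ℕ} (hc : Set.Ici c ⊆ Γ) (h0 : 0 ∈ SK)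
    (hK2 : ∀ m ∈ Γ, m + s ∈ Γ → b ≤ m ∧ m - b ∈ SK)
    (M N : Type u) [AddCommGroup M] [Module A M] [AddCommGroup N] [Module A N] [Module k N]
    [IsScalarTower k A N]
    (jM : M →ₗ[A] k⟦X⟧) (hjM : Function.Injective jM) (SM : Set ℕ)
    (hSM : ∀ m, m ∈ SM ↔ m ∈ Γ ∨ (s ≤ m ∧ m - s ∈ Γ))
    (hM : ∀ x, (∃ y, jM y = x) ↔ x ∈ supp SM)
    (jN : N →ₗ[A] k⟦X⟧) (hjN : Function.Injective jN) (SN : Set ℕ)
    (hN : ∀ x, (∃ y, jN y = x) ↔ x ∈ supp SN)
    {ι : Type*} [Fintype ι] (d : ι → ℕ) (hd : Function.Injective d)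
    (hd1 : ∀ a, ∀ q ∈ SK, d a + q ∈ SN)
    (hd2 : ∀ a, ¬(b ≤ d a ∧ d a - b ∈ SN) ∧ ¬(b + s ≤ d a ∧ d a - (b + s) ∈ SN))
    (hd3 : ∀ m, (∀ q ∈ SK, m + q ∈ SN) → ¬(b ≤ m ∧ m - b ∈ SN) →
      ¬(b + s ≤ m ∧ m - (b + s) ∈ SN) → ∃ a, d a = m) :
    Module.length A (Ext (ModuleCat.of A M) (ModuleCat.of A N) 1) = Fintype.card ι := by
  have hhigh : ∀ f ∈ supp (k := k) (Set.Ici c), f ∈ A := fun f hf => (hA f).2 (supp_mono hc hf)
  -- the projection
  have hGmem : ∀ a : ↥A × ↥A, (a.1 : k⟦X⟧) + X ^ s * (a.2 : k⟦X⟧) ∈ supp SM := fun a =>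
    add_mem (supp_mono (fun m hm => (hSM m).2 (Or.inl hm)) ((hA _).1 a.1.2))
      (X_pow_mul_mem (fun m hm => (hSM _).2 (Or.inr ⟨Nat.le_add_left _ _, by rwa [Nat.add_sub_cancel]⟩))
        ((hA _).1 a.2.2))
  choose g hg using fun a : ↥A × ↥A => (hM _).2 (hGmem a)
  let g' : ↥A × ↥A →ₗ[A] M :=
    { toFun := g
      map_add' := fun x y => hjM (by simp [hg]; ring)
      map_smul' := fun r x => hjM (by
        simp only [map_smul, hg, RingHom.id_apply, Prod.smul_fst, Prod.smul_snd, smul_eq_mul,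
          MulMemClass.coe_mul]
        change _ = (r : k⟦X⟧) * _
        ring) }
  have hgsurj : Function.Surjective g' := fun y => by
    obtain ⟨p, hp, q, hq, hpq⟩ := exists_add_shift (S := Γ) (s := s) (fun m hm => (hSM m).1 hm)
      ((hM _).1 ⟨y, rfl⟩)
    exact ⟨(⟨p, (hA p).2 hp⟩, ⟨q, (hA q).2 hq⟩), hjM ((hg _).trans hpq)⟩
  have hfinj : Function.Injective (twoF hA hSK hK1) := fun x y h => Subtype.ext
    (mul_left_cancel₀ (pow_ne_zero b X_ne_zero)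
      (congrArg (fun z : ↥A × ↥A => ((Prod.snd z : ↥A) : k⟦X⟧)) h : (X : k⟦X⟧) ^ b * (x : k⟦X⟧) = X ^ b * (y : k⟦X⟧)))
  have hexact : Function.Exact (twoF hA hSK hK1) g' := fun a => by
    constructor
    · intro ha
      have h : (a.1 : k⟦X⟧) + X ^ s * (a.2 : k⟦X⟧) = 0 := by rw [← hg a]; exact (congrArg jM ha).trans (map_zero _)
      have h2 : ∀ m, coeff m (a.2 : k⟦X⟧) ≠ 0 → m ∈ Γ ∧ m + s ∈ Γ := fun m hm =>
        ⟨(hA _).1 a.2.2 m hm, (hA _).1 a.1.2 (m + s) (by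
          rw [eq_neg_of_add_eq_zero_left h, map_neg, coeff_X_pow_mul_eq, if_pos (Nat.le_add_left _ _),
            Nat.add_sub_cancel]
          exact neg_ne_zero.2 hm)⟩
      have hb : (a.2 : k⟦X⟧) ∈ supp (Set.Ici b) := fun m hm => (hK2 m (h2 m hm).1 (h2 m hm).2).1
      refine ⟨⟨down b (a.2 : k⟦X⟧), fun m hm => ?_⟩,
        Prod.ext (Subtype.ext ?_) (Subtype.ext (X_pow_mul_down hb))⟩
      · rw [coeff_down] at hm
        have := (hK2 _ (h2 _ hm).1 (h2 _ hm).2).2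
        rwa [Nat.add_sub_cancel] at this
      · change X ^ (b + s) * -down b (a.2 : k⟦X⟧) = (a.1 : k⟦X⟧)
        rw [eq_neg_of_add_eq_zero_left h, ← X_pow_mul_down hb, down_X_pow_mul]
        ring
    · rintro ⟨x, rfl⟩
      refine hjM ((hg _).trans ?_)
      change X ^ (b + s) * -(x : k⟦X⟧) + X ^ s * (X ^ b * (x : k⟦X⟧)) = jM 0
      rw [map_zero]; ring
  -- coordinates on `Hom`
  let o : suppSub hA SK hSK := ⟨1, one_mem_supp h0⟩
  let Ψ : (suppSub hA SK hSK →ₗ[A] N) →ₗ[k] k⟦X⟧ :=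
    { toFun := fun φ => jN (φ o)
      map_add' := fun _ _ => map_add _ _ _
      map_smul' := fun r φ => LinearMap.map_smul_of_tower jN r _ }
  have happ : ∀ φ (x : suppSub hA SK hSK), jN (φ x) = x * Ψ φ := fun φ x => by
    refine mul_left_cancel₀ (pow_ne_zero c X_ne_zero) ?_
    have h1 := congrArg (fun z => jN (φ z))
      (show (⟨X ^ c, hhigh _ (X_pow_mem (Set.mem_Ici.2 le_rfl))⟩ : A) • x =
          (⟨X ^ c * (x : k⟦X⟧), hhigh _ (X_pow_mul_mem_Ici c _)⟩ : A) • o from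
        Subtype.ext (mul_one _).symm)
    simp only [map_smul] at h1
    exact h1.trans (mul_assoc _ _ _)
  have hext : ∀ φ φ', Ψ φ = Ψ φ' → φ = φ' := fun φ φ' h => LinearMap.ext fun x => hjN (by
    rw [happ φ, happ φ', h])
  have hC : ∀ φ, Ψ φ ∈ supp {m | ∀ q ∈ SK, m + q ∈ SN} := fun φ m hm q hq => by
    by_contra hmq
    refine hm ?_
    have := coeff_eq_zero ((hN _).1 ⟨φ ⟨X ^ q, X_pow_mem hq⟩, rfl⟩) hmq
    rwa [happ φ, coeff_X_pow_mul_eq, if_pos (Nat.le_add_left _ _), Nat.add_sub_cancel] at this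
  let Φ : (suppSub hA SK hSK →ₗ[A] N) →ₗ[k] (ι → k) := LinearMap.pi fun a => coeff (d a) ∘ₗ Ψ
  refine length_ext_one_eq_card (K := ↥(suppSub hA SK hSK)) (F := ↥A × ↥A) (M := M) (chi A) (fun a => isUnit_of_high hhigh a) (twoF hA hSK hK1) g'
    hfinj hgsurj hexact N Φ (fun y => ?_) (fun φ => ?_)
  · let v := ∑ a, y a • (X : k⟦X⟧) ^ d a
    have hv : v ∈ supp {m | ∀ q ∈ SK, m + q ∈ SN} :=
      Submodule.sum_mem _ fun a _ => Submodule.smul_mem _ _ (X_pow_mem (hd1 a))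
    choose w hw using fun x : suppSub hA SK hSK =>
      (hN ((x : k⟦X⟧) * v)).2 (mul_mem_supp (fun q hq m hm => by rw [add_comm]; exact hm q hq) x.2 hv)
    let φ : suppSub hA SK hSK →ₗ[A] N :=
      { toFun := w
        map_add' := fun x y => hjN (by simp [hw, add_mul])
        map_smul' := fun r x => hjN (by
          rw [hw, map_smul, hw]
          exact mul_assoc _ _ _) }
    refine ⟨φ, funext fun a => ?_⟩
    change coeff (d a) (jN (w o)) = y a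
    rw [hw, show ((o : k⟦X⟧)) = 1 from rfl, one_mul, map_sum,
      Finset.sum_eq_single a (fun a' _ h => by
        rw [coeff_smul, coeff_X_pow, if_neg (fun h' => h (hd h').symm)]; simp) (by simp)]
    simp [coeff_smul, coeff_X_pow]
  · have hψ : ∀ ψ : ↥A × ↥A →ₗ[A] N, Ψ (ψ ∘ₗ twoF hA hSK hK1) =
        X ^ b * jN (ψ (0, 1)) + X ^ (b + s) * -jN (ψ (1, 0)) := fun ψ => by
      have h1 : twoF hA hSK hK1 o = (twoF hA hSK hK1 o).1 • ((1, 0) : ↥A × ↥A) +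
          (twoF hA hSK hK1 o).2 • ((0, 1) : ↥A × ↥A) := by
        ext <;> simp
      change jN (ψ (twoF hA hSK hK1 o)) = _
      rw [h1]
      simp only [map_add, map_smul]
      change X ^ (b + s) * -(1 : k⟦X⟧) * _ + X ^ b * (1 : k⟦X⟧) * _ = _
      ring
    constructor
    · intro hφ
      let T : Set ℕ := {m | b ≤ m ∧ m - b ∈ SN}
      let T' : Set ℕ := {m | b + s ≤ m ∧ m - (b + s) ∈ SN}
      let v := Ψ φ
      have hv : ∀ m, coeff m v ≠ 0 → m ∈ T ∨ m ∈ T' := fun m hm => by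
        by_contra h
        rw [not_or] at h
        obtain ⟨a, rfl⟩ := hd3 m (hC φ m hm) h.1 h.2
        exact hm (congrFun hφ a)
      have hrest : v - restr T v ∈ supp T' := fun m hm => by
        by_cases hT : m ∈ T
        · rw [map_sub, coeff_restr_of_mem hT, sub_self] at hm; exact absurd rfl hm
        · rw [map_sub, coeff_restr_of_not_mem hT, sub_zero] at hm
          exact (hv m hm).resolve_left hT
      obtain ⟨u1, hu1⟩ := (hN (down b (restr T v))).2 fun m hm => by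
        rw [coeff_down] at hm
        simpa [T] using (restr_mem T v _ hm).2
      obtain ⟨u0, hu0⟩ := (hN (down (b + s) (v - restr T v))).2 fun m hm => by
        rw [coeff_down] at hm
        simpa [T'] using (hrest _ hm).2
      let ψ : ↥A × ↥A →ₗ[A] N :=
        (LinearMap.toSpanSingleton A N (-u0)).coprod (LinearMap.toSpanSingleton A N u1)
      refine ⟨ψ, hext _ _ ?_⟩
      rw [hψ]
      have e0 : ψ (1, 0) = -u0 := by simp [ψ]
      have e1 : ψ (0, 1) = u1 := by simp [ψ]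
      rw [e0, e1, map_neg, neg_neg, hu0, hu1,
        X_pow_mul_down (supp_mono (fun m hm => Set.mem_Ici.2 hm.1) (restr_mem T v)),
        X_pow_mul_down (supp_mono (fun m hm => Set.mem_Ici.2 hm.1) hrest), add_sub_cancel]
    · rintro ⟨ψ, rfl⟩
      funext a
      change coeff (d a) (Ψ _) = 0
      rw [hψ, map_add, coeff_X_pow_mul_eq, coeff_X_pow_mul_eq]
      have z : ∀ x, (∃ y, jN y = x) → ∀ e, ¬(e ≤ d a ∧ d a - e ∈ SN) →
          (if e ≤ d a then coeff (d a - e) x else 0) = 0 := fun x hx e he => by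
        split
        · exact coeff_eq_zero ((hN x).1 hx) fun h => he ⟨‹_›, h⟩
        · rfl
      rw [z _ ⟨_, rfl⟩ b (hd2 a).1, z _ ⟨_, map_neg _ _⟩ (b + s) (hd2 a).2, add_zero]

end Groth.Agent.TFCurvLib
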