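import Groth.Agent.TFCurvLib.Mono

/-!
# `Ext¹` of monomial modules over `k + t^n k[[t]]`
-/

universe u

namespace Groth.Agent.TFCurvLib

open PowerSeries CategoryTheory Abelian

variable {k : Type u} [Field k]

section Hom

variable {A : Subalgebra k k⟦X⟧} {N : Type u} [AddCommGroup N] [Module A N]

theorem smul_eq_mul' (a : A) (f : k⟦X⟧) : a • f = (a : k⟦X⟧) * f := rfl

/-- Linear maps on a module inside a power of `k[[t]]` are multiplications. -/
theorem hom_apply_single {ι : Type*} [Fintype ι] [DecidableEq ι] (jN : N →ₗ[A] k⟦X⟧) {c : ℕ}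
    (hc : ∀ f ∈ supp (k := k) (Set.Ici c), f ∈ A) (φ : (ι → k⟦X⟧) →ₗ[A] N) (r : ι → k⟦X⟧) :
    jN (φ r) = ∑ l, r l * jN (φ (Pi.single l 1)) := by
  let T : A := ⟨X ^ c, hc _ (X_pow_mem (Set.mem_Ici.2 le_rfl))⟩
  let ρ : ι → A := fun l => ⟨X ^ c * r l, hc _ (X_pow_mul_mem_Ici c _)⟩
  have h : T • r = ∑ l, ρ l • (Pi.single l 1 : ι → k⟦X⟧) := by
    funext j
    simp [smul_eq_mul', T, ρ, Pi.single_apply]
  refine mul_left_cancel₀ (pow_ne_zero c X_ne_zero) ?_
  calc X ^ c * jN (φ r) = jN (φ (T • r)) := by rw [map_smul, map_smul]; rfl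
    _ = ∑ l, X ^ c * r l * jN (φ (Pi.single l 1)) := by
      rw [h, map_sum, map_sum]
      exact Finset.sum_congr rfl fun l _ => by rw [map_smul, map_smul]; rfl
    _ = _ := by rw [Finset.mul_sum]; exact Finset.sum_congr rfl fun l _ => mul_assoc _ _ _

end Hom

variable {A : Subalgebra k k⟦X⟧} {n i : ℕ} (e : Fin i → ℕ)

/-- Exponents of `k + t^n k[[t]]`. -/
def cubeSet (n : ℕ) : Set ℕ := {m | m = 0 ∨ n ≤ m}

/-- Exponents of the module generated by `1` and the `t^{e l}`. -/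
def modSet (n : ℕ) : Set ℕ := {m | m = 0 ∨ n ≤ m ∨ ∃ l, e l = m}

section Pres

variable (hA : ∀ f, f ∈ A ↔ f ∈ supp (k := k) (cubeSet n))

include hA in
theorem high_le : ∀ f ∈ supp (k := k) (Set.Ici n), f ∈ A :=
  fun f hf => (hA f).2 (supp_mono (fun _ hm => Or.inr hm) hf)

/-- `R^i → A × A^i`. -/
noncomputable def presF : (Fin i → k⟦X⟧) →ₗ[A] ↥A × (Fin i → ↥A) where
  toFun r := (⟨X ^ n * -∑ l, X ^ e l * r l, high_le hA _ (X_pow_mul_mem_Ici n _)⟩,
    fun l => ⟨X ^ n * r l, high_le hA _ (X_pow_mul_mem_Ici n _)⟩)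
  map_add' a b := by
    refine Prod.ext (Subtype.ext ?_) (funext fun l => Subtype.ext (mul_add _ _ _))
    simp [mul_add, Finset.sum_add_distrib]; ring
  map_smul' c a := by
    refine Prod.ext (Subtype.ext ?_) (funext fun l => Subtype.ext (mul_left_comm _ _ _))
    change X ^ n * -∑ l, X ^ e l * ((c : k⟦X⟧) * a l) = (c : k⟦X⟧) * (X ^ n * -∑ l, X ^ e l * a l)
    simp only [mul_neg, Finset.mul_sum]
    exact congrArg Neg.neg (Finset.sum_congr rfl fun l _ => by ring)

theorem presF_injective : Function.Injective (presF e hA) := fun a b h => funext fun l =>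
  mul_left_cancel₀ (pow_ne_zero n X_ne_zero)
    (congrArg (fun z => ((Prod.snd z) l : k⟦X⟧)) h : (X : k⟦X⟧) ^ n * a l = X ^ n * b l)

/-- `A × A^i → R`. -/
noncomputable def presG : ↥A × (Fin i → ↥A) →ₗ[A] k⟦X⟧ where
  toFun a := (a.1 : k⟦X⟧) + ∑ l, X ^ e l * (a.2 l : k⟦X⟧)
  map_add' a b := by simp [mul_add, Finset.sum_add_distrib]; ring
  map_smul' c a := by
    change (c : k⟦X⟧) * (a.1 : k⟦X⟧) + ∑ l, X ^ e l * ((c : k⟦X⟧) * (a.2 l : k⟦X⟧)) = (c : k⟦X⟧) * _
    rw [mul_add, Finset.mul_sum]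
    exact congrArg₂ _ rfl (Finset.sum_congr rfl fun l _ => by ring)

variable (he : Function.Injective e) (he1 : ∀ l, 1 ≤ e l) (hen : ∀ l, e l < n)

include hA in
theorem presG_mem (a : ↥A × (Fin i → ↥A)) : presG e a ∈ supp (modSet e n) := by
  refine add_mem (supp_mono (fun m hm => hm.imp_right Or.inl) ((hA _).1 a.1.2))
    (Submodule.sum_mem _ fun l _ => X_pow_mul_mem (fun m hm => ?_) ((hA _).1 (a.2 l).2))
  rcases hm with rfl | hm
  · exact Or.inr (Or.inr ⟨l, by simp⟩)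
  · exact Or.inr (Or.inl (le_trans hm (by omega)))

include hA he he1 hen in
theorem coeff_presG (a : ↥A × (Fin i → ↥A)) (l : Fin i) :
    coeff (e l) (presG e a) = constantCoeff (a.2 l : k⟦X⟧) := by
  have h1 : coeff (e l) (a.1 : k⟦X⟧) = 0 := coeff_eq_zero ((hA _).1 a.1.2)
    (by have := he1 l; have := hen l; simp only [cubeSet, Set.mem_setOf_eq]; omega)
  change coeff (e l) ((a.1 : k⟦X⟧) + _) = _
  rw [map_add, h1, zero_add, map_sum, Finset.sum_eq_single l]
  · rw [coeff_X_pow_mul_eq, if_pos le_rfl, Nat.sub_self, coeff_zero_eq_constantCoeff_apply]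
  · intro j _ hj
    rw [coeff_X_pow_mul_eq]
    split
    · refine coeff_eq_zero ((hA _).1 (a.2 j).2) ?_
      have := hen l; have := he1 j; have : e j ≠ e l := fun h => hj (he h)
      simp only [cubeSet, Set.mem_setOf_eq]; omega
    · rfl
  · simp

include he he1 hen in
theorem exact_presF_presG : Function.Exact (presF e hA) (presG e (A := A)) := by
  intro a
  constructor
  · intro ha
    have hz : ∀ l, (a.2 l : k⟦X⟧) ∈ supp (Set.Ici n) := fun l m hm => by
      rcases (hA _).1 (a.2 l).2 m hm with rfl | h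
      · refine absurd ?_ hm
        rw [coeff_zero_eq_constantCoeff_apply, ← coeff_presG e hA he he1 hen a l, ha, map_zero]
      · exact h
    refine ⟨fun l => down n (a.2 l : k⟦X⟧), Prod.ext (Subtype.ext ?_)
      (funext fun l => Subtype.ext (X_pow_mul_down (hz l)))⟩
    change X ^ n * -∑ l, X ^ e l * down n (a.2 l : k⟦X⟧) = (a.1 : k⟦X⟧)
    rw [eq_neg_of_add_eq_zero_left (ha : (a.1 : k⟦X⟧) + _ = 0), mul_neg, Finset.mul_sum]
    exact congrArg Neg.neg (Finset.sum_congr rfl fun l _ => by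
      rw [mul_left_comm, X_pow_mul_down (hz l)])
  · rintro ⟨r, rfl⟩
    change X ^ n * -∑ l, X ^ e l * r l + ∑ l, X ^ e l * (X ^ n * r l) = 0
    simp only [mul_neg, Finset.mul_sum, mul_left_comm]
    exact neg_add_cancel _

include hA he he1 hen in
theorem presG_surjective {f : k⟦X⟧} (hf : f ∈ supp (modSet e n)) :
    ∃ a : ↥A × (Fin i → ↥A), presG e a = f := by
  refine ⟨(⟨restr (cubeSet n) f, (hA _).2 (restr_mem _ _)⟩, fun l => algebraMap k A (coeff (e l) f)), ?_⟩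
  ext m
  change coeff m (restr (cubeSet n) f + ∑ l, X ^ e l * algebraMap k k⟦X⟧ (coeff (e l) f)) = _
  rw [map_add, map_sum]
  have hterm : ∀ l, coeff m (X ^ e l * algebraMap k k⟦X⟧ (coeff (e l) f)) =
      if m = e l then coeff (e l) f else 0 := fun l => by
    simp [PowerSeries.algebraMap_apply, coeff_mul_C, coeff_X_pow]
  simp only [hterm]
  by_cases hm : m ∈ cubeSet n
  · rw [coeff_restr_of_mem hm, Finset.sum_eq_zero fun l _ => if_neg ?_, add_zero]
    rintro rfl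
    have := he1 l; have := hen l
    rcases hm with h | h <;> omega
  · rw [coeff_restr_of_not_mem hm, zero_add]
    by_cases hl : ∃ l, e l = m
    · obtain ⟨l, rfl⟩ := hl
      rw [Finset.sum_eq_single l (fun j _ hj => if_neg fun h => hj (he h.symm)) (by simp), if_pos rfl]
    · rw [Finset.sum_eq_zero fun l _ => if_neg fun h => hl ⟨l, h.symm⟩,
        coeff_eq_zero hf fun h => h.elim (fun h => hm (Or.inl h))
          (fun h => h.elim (fun h => hm (Or.inr h)) hl)]

end Pres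

/-- `length Ext¹(M, N)` for monomial modules over `k + t^n k[[t]]`. -/
theorem length_ext_cubical (hA : ∀ f, f ∈ A ↔ f ∈ supp (k := k) (cubeSet n))
    (he : Function.Injective e) (he1 : ∀ l, 1 ≤ e l) (hen : ∀ l, e l < n)
    (M N : Type u) [AddCommGroup M] [Module A M] [AddCommGroup N] [Module A N] [Module k N]
    [IsScalarTower k A N]
    (jM : M →ₗ[A] k⟦X⟧) (hjM : Function.Injective jM)
    (hM : ∀ x, (∃ y, jM y = x) ↔ x ∈ supp (modSet e n))
    (jN : N →ₗ[A] k⟦X⟧) (hjN : Function.Injective jN) (SN : Set ℕ)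
    (hN : ∀ x, (∃ y, jN y = x) ↔ x ∈ supp SN)
    {ι : Type*} [Fintype ι] (Φ : (Fin i → k⟦X⟧) →ₗ[k] (ι → k))
    (hΦ : ∀ y, ∃ v, (∀ l x, x * v l ∈ supp SN) ∧ Φ v = y)
    (hker : ∀ v : Fin i → k⟦X⟧, (∀ l x, x * v l ∈ supp SN) → (Φ v = 0 ↔
      ∃ u0 ∈ supp (k := k) SN, ∃ u : Fin i → k⟦X⟧, (∀ l, u l ∈ supp SN) ∧
        ∀ l, v l = X ^ n * (u l - X ^ e l * u0))) :
    Module.length A (Ext (ModuleCat.of A M) (ModuleCat.of A N) 1) = Fintype.card ι := by
  have hc := high_le hA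
  -- the projection onto `M`
  choose g hg using fun a : ↥A × (Fin i → ↥A) => (hM _).2 (presG_mem e hA a)
  let g' : ↥A × (Fin i → ↥A) →ₗ[A] M :=
    { toFun := g
      map_add' := fun a b => hjM (by simp [hg])
      map_smul' := fun c a => hjM (by simp [hg]) }
  have hgsurj : Function.Surjective g' := fun y => by
    obtain ⟨a, ha⟩ := presG_surjective e hA he he1 hen ((hM _).1 ⟨y, rfl⟩)
    exact ⟨a, hjM ((hg a).trans ha)⟩
  have hexact : Function.Exact (presF e hA) g' := fun a => by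
    rw [← exact_presF_presG e hA he he1 hen a, ← hg a]
    exact (map_eq_zero_iff _ hjM).symm
  -- coordinates on `Hom`
  let Ψ : ((Fin i → k⟦X⟧) →ₗ[A] N) →ₗ[k] (Fin i → k⟦X⟧) :=
    { toFun := fun φ l => jN (φ (Pi.single l 1))
      map_add' := fun a b => funext fun l => map_add _ _ _
      map_smul' := fun r φ => funext fun l => LinearMap.map_smul_of_tower jN r _ }
  have hΨ : ∀ φ l x, x * Ψ φ l ∈ supp SN := fun φ l x => by
    refine (hN _).1 ⟨φ (Pi.single l x), ?_⟩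
    rw [hom_apply_single jN hc φ, Finset.sum_eq_single l (fun j _ hj => by simp [hj]) (by simp)]
    simp [Ψ]
  have hext : ∀ φ φ', Ψ φ = Ψ φ' → φ = φ' := fun φ φ' h => LinearMap.ext fun r => hjN (by
    rw [hom_apply_single jN hc φ, hom_apply_single jN hc φ']
    exact Finset.sum_congr rfl fun l _ => congrArg (r l * ·) (congrFun h l))
  refine length_ext_one_eq_card (chi A) (fun a => isUnit_of_high hc a) (presF e hA) g'
    (presF_injective e hA) hgsurj hexact N (Φ ∘ₗ Ψ) (fun y => ?_) (fun φ => ?_)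
  · obtain ⟨v, hv, hvy⟩ := hΦ y
    choose w hw using fun r : Fin i → k⟦X⟧ =>
      (hN (∑ l, r l * v l)).2 (Submodule.sum_mem _ fun l _ => hv l _)
    let φ : (Fin i → k⟦X⟧) →ₗ[A] N :=
      { toFun := w
        map_add' := fun a b => hjN (by simp [hw, add_mul, Finset.sum_add_distrib])
        map_smul' := fun c a => hjN (by
          simp [hw, Finset.smul_sum, smul_eq_mul', mul_assoc]) }
    refine ⟨φ, ?_⟩
    rw [← hvy]
    refine congrArg Φ (funext fun l => ?_)
    change jN (w (Pi.single l 1)) = v l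
    rw [hw, Finset.sum_eq_single l (fun j _ hj => by simp [hj]) (by simp)]
    simp
  · have hψ : ∀ (ψ : ↥A × (Fin i → ↥A) →ₗ[A] N) (l : Fin i), Ψ (ψ ∘ₗ presF e hA) l =
        X ^ n * (jN (ψ (0, Pi.single l 1)) - X ^ e l * jN (ψ (1, 0))) := fun ψ l => by
      have h1 : presF e hA (Pi.single l 1) =
          (⟨X ^ n * -(X ^ e l), hc _ (X_pow_mul_mem_Ici n _)⟩ : A) • ((1, 0) : ↥A × (Fin i → ↥A)) +
          (⟨X ^ n, hc _ (X_pow_mem (Set.mem_Ici.2 le_rfl))⟩ : A) •
            ((0, Pi.single l 1) : ↥A × (Fin i → ↥A)) := by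
        refine Prod.ext (Subtype.ext ?_) (funext fun j => Subtype.ext ?_)
        · simp [presF, Pi.single_apply, smul_eq_mul]
        · by_cases hj : j = l <;> simp [presF, hj, smul_eq_mul]
      change jN (ψ (presF e hA (Pi.single l 1))) = _
      rw [h1]
      simp only [map_add, map_smul, smul_eq_mul']
      ring
    rw [LinearMap.comp_apply, hker _ (hΨ φ)]
    constructor
    · rintro ⟨u0, hu0, u, hu, huv⟩
      obtain ⟨w0, hw0⟩ := (hN _).2 hu0
      choose w hw using fun l => (hN _).2 (hu l)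
      let ψ : ↥A × (Fin i → ↥A) →ₗ[A] N :=
        (LinearMap.toSpanSingleton A N w0).coprod (Fintype.linearCombination A w)
      refine ⟨ψ, hext _ _ (funext fun l => ?_)⟩
      rw [hψ, huv l]
      simp [ψ, hw, hw0, Fintype.linearCombination_apply_single]
    · rintro ⟨ψ, rfl⟩
      exact ⟨_, (hN _).1 ⟨_, rfl⟩, _, fun l => (hN _).1 ⟨_, rfl⟩, hψ ψ⟩

end Groth.Agent.TFCurvLib

namespace Groth.Agent.TFCurvLib

open PowerSeries

theorem mem_span_monomials {k : Type u} [Field k] {A : Subalgebra k k⟦X⟧} {n i : ℕ} (e : Fin i → ℕ)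
    (hA : ∀ f, f ∈ A ↔ f ∈ supp (k := k) (cubeSet n))
    (he : Function.Injective e) (he1 : ∀ l, 1 ≤ e l) (hen : ∀ l, e l < n) (E : Set ℕ)
    (hE : ∀ a, a ∈ E ↔ a = 0 ∨ ∃ l, e l = a) (x : k⟦X⟧) :
    (∃ y : Submodule.span A ((fun a : ℕ => (X : k⟦X⟧) ^ a) '' E), (Submodule.subtype _) y = x) ↔
      x ∈ supp (modSet e n) := by
  constructor
  · rintro ⟨⟨y, hy⟩, rfl⟩
    have : Submodule.span A ((fun a : ℕ => (X : k⟦X⟧) ^ a) '' E) ≤ LinearMap.range (presG e) := by
      rw [Submodule.span_le]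
      rintro _ ⟨a, ha, rfl⟩
      rcases (hE a).1 ha with rfl | ⟨l, rfl⟩
      · exact ⟨(1, 0), by simp [presG]⟩
      · refine ⟨(0, Pi.single l 1), ?_⟩
        change ((0 : ↥A) : k⟦X⟧) + ∑ j, X ^ e j * ((Pi.single (M := fun _ => ↥A) l (1 : ↥A)) j : k⟦X⟧) = _
        rw [Finset.sum_eq_single l (fun j _ hj => by simp [hj]) (by simp)]
        simp
    obtain ⟨a, ha⟩ := this hy
    exact ha ▸ presG_mem e hA a
  · intro hx
    obtain ⟨a, rfl⟩ := presG_surjective e hA he he1 hen hx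
    refine ⟨⟨_, ?_⟩, rfl⟩
    have h0 : (1 : k⟦X⟧) ∈ Submodule.span A ((fun a : ℕ => (X : k⟦X⟧) ^ a) '' E) :=
      Submodule.subset_span ⟨0, (hE 0).2 (Or.inl rfl), by simp⟩
    change (a.1 : k⟦X⟧) + ∑ l, X ^ e l * (a.2 l : k⟦X⟧) ∈ _
    refine add_mem ?_ (Submodule.sum_mem _ fun l _ => ?_)
    · have := Submodule.smul_mem _ a.1 h0; rwa [smul_eq_mul', mul_one] at this
    · have := Submodule.smul_mem _ (a.2 l)
        (Submodule.subset_span ⟨e l, (hE _).2 (Or.inr ⟨l, rfl⟩), rfl⟩ :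
          (X : k⟦X⟧) ^ e l ∈ Submodule.span A ((fun a : ℕ => (X : k⟦X⟧) ^ a) '' E))
      rwa [smul_eq_mul', mul_comm] at this

end Groth.Agent.TFCurvLib

namespace Groth.Agent.TFCurvLib

open PowerSeries

theorem coeff_sum_monomials {k : Type u} [Field k] {κ : Type*} [Fintype κ] (d : κ → ℕ)
    (hd : Function.Injective d) (y : κ → k) (a : κ) :
    coeff (d a) (∑ b, y b • (X : k⟦X⟧) ^ d b) = y a := by
  rw [map_sum, Finset.sum_eq_single a (fun b _ hb => by
    rw [coeff_smul, coeff_X_pow, if_neg (fun h => hb (hd h).symm)]; simp) (by simp)]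
  simp [coeff_smul, coeff_X_pow]

theorem sum_monomials_mem {k : Type u} [Field k] {κ : Type*} [Fintype κ] {S : Set ℕ} (d : κ → ℕ)
    (hd : ∀ b, d b ∈ S) (y : κ → k) : ∑ b, y b • (X : k⟦X⟧) ^ d b ∈ supp S :=
  Submodule.sum_mem _ fun b _ => Submodule.smul_mem _ _ (X_pow_mem (hd b))

theorem mul_mem_Ici {k : Type u} [Field k] {c : ℕ} (x : k⟦X⟧) {v : k⟦X⟧} (hv : v ∈ supp (Set.Ici c)) :
    x * v ∈ supp (Set.Ici c) :=
  mul_mem_supp (S := Set.univ) (fun _ _ q hq => le_trans hq (Nat.le_add_left _ _)) (fun _ _ => trivial) hv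

end Groth.Agent.TFCurvLib
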