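import Groth.Agent.TFCurvLib.TwoGen

/-!
# `Ext¹(R, R)` over the `E₆` singularity, `R = k[[t]]`
-/

universe u

namespace Groth.Agent.TFCurvLib

open PowerSeries CategoryTheory Abelian

variable {k : Type u} [Field k] {A : Subalgebra k k⟦X⟧}

/-- The exponents of `k[[t³, t⁴]]`. -/
def sixSet : Set ℕ := {m | m = 0 ∨ m = 3 ∨ m = 4 ∨ 6 ≤ m}

variable (hA : ∀ f, f ∈ A ↔ f ∈ supp (k := k) sixSet)

/-- `(a₀, a₁, a₂) ↦ a₀ + a₁ t + a₂ t²`. -/
noncomputable def sixG : ↥A × ↥A × ↥A →ₗ[A] k⟦X⟧ where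
  toFun a := (a.1 : k⟦X⟧) + (a.2.1 : k⟦X⟧) * X + (a.2.2 : k⟦X⟧) * X ^ 2
  map_add' a b := by simp [add_mul]; ring
  map_smul' c a := by
    change (c : k⟦X⟧) * (a.1 : k⟦X⟧) + (c : k⟦X⟧) * (a.2.1 : k⟦X⟧) * X +
      (c : k⟦X⟧) * (a.2.2 : k⟦X⟧) * X ^ 2 = (c : k⟦X⟧) * _
    ring

include hA in
theorem length_ext_six (M : Type u) [AddCommGroup M] [Module A M] [Module k M] [IsScalarTower k A M]
    (jM : M →ₗ[A] k⟦X⟧) (hjM : Function.Bijective jM) :
    Module.length A (Ext (ModuleCat.of A M) (ModuleCat.of A M) 1) = 6 := by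
  have hhigh : ∀ f ∈ supp (k := k) (Set.Ici 6), f ∈ A :=
    fun f hf => (hA f).2 (supp_mono (fun m hm => Or.inr (Or.inr (Or.inr hm))) hf)
  let K := LinearMap.ker (sixG (A := A))
  -- the two components after dividing by `t³`
  have hlow : ∀ x : K, (x.1.2.1 : k⟦X⟧) + (x.1.2.2 : k⟦X⟧) * X ∈ supp (Set.Ici 3) ∧
      -(x.1.2.2 : k⟦X⟧) ∈ supp (Set.Ici 3) := fun x => by
    have h : (x.1.1 : k⟦X⟧) + (x.1.2.1 : k⟦X⟧) * X + (x.1.2.2 : k⟦X⟧) * X ^ 2 = 0 := x.2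
    have z : ∀ (a : A) m, m = 1 ∨ m = 2 → coeff m (a : k⟦X⟧) = 0 := fun a m hm =>
      coeff_eq_zero ((hA _).1 a.2) (by simp only [sixSet]; change ¬(_ ∨ _); omega)
    have e1 := congrArg (coeff 1) h
    have e2 := congrArg (coeff 2) h
    simp [coeff_succ_mul_X, coeff_mul_X_pow', z] at e1 e2
    have b1 := z x.1.2.1 1 (Or.inl rfl)
    have b2 := z x.1.2.1 2 (Or.inr rfl)
    have c1 := z x.1.2.2 1 (Or.inl rfl)
    have c2 := z x.1.2.2 2 (Or.inr rfl)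
    refine ⟨fun m hm => ?_, fun m hm => ?_⟩ <;>
      · by_contra hc
        simp only [Set.mem_Ici, not_le] at hc
        refine hm ?_
        interval_cases m <;> simp [coeff_succ_mul_X, e1, e2, b1, b2, c1, c2]
  let α : K → k⟦X⟧ := fun x => down 3 ((x.1.2.1 : k⟦X⟧) + (x.1.2.2 : k⟦X⟧) * X)
  let β : K → k⟦X⟧ := fun x => down 3 (-(x.1.2.2 : k⟦X⟧))
  have hαX : ∀ x, X ^ 3 * α x = (x.1.2.1 : k⟦X⟧) + (x.1.2.2 : k⟦X⟧) * X :=
    fun x => X_pow_mul_down (hlow x).1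
  have hβX : ∀ x, X ^ 3 * β x = -(x.1.2.2 : k⟦X⟧) := fun x => X_pow_mul_down (hlow x).2
  let T : ∀ j, 3 ≤ j → j ≠ 5 → A := fun j h h' => ⟨X ^ j, (hA _).2 (X_pow_mem (by
    simp only [sixSet]; change _ ∨ _; omega))⟩
  let v₁ : K := ⟨(-T 4 (by omega) (by omega), T 3 (by omega) (by omega), 0), by
    change -(X : k⟦X⟧) ^ 4 + X ^ 3 * X + 0 * X ^ 2 = 0; ring⟩
  let v₂ : K := ⟨(0, T 4 (by omega) (by omega), -T 3 (by omega) (by omega)), by
    change (0 : k⟦X⟧) + X ^ 4 * X + -(X : k⟦X⟧) ^ 3 * X ^ 2 = 0; ring⟩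
  have happ : ∀ (φ : K →ₗ[A] M) x, jM (φ x) = α x * jM (φ v₁) + β x * jM (φ v₂) := fun φ x => by
    have h : T 6 (by omega) (by omega) • x =
        (⟨X ^ 6 * α x, hhigh _ (X_pow_mul_mem_Ici 6 _)⟩ : A) • v₁ +
        (⟨X ^ 6 * β x, hhigh _ (X_pow_mul_mem_Ici 6 _)⟩ : A) • v₂ := by
      have h0 : (x.1.1 : k⟦X⟧) + (x.1.2.1 : k⟦X⟧) * X + (x.1.2.2 : k⟦X⟧) * X ^ 2 = 0 := x.2
      refine Subtype.ext (Prod.ext (Subtype.ext ?_) (Prod.ext (Subtype.ext ?_) (Subtype.ext ?_)))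
      · change X ^ 6 * (x.1.1 : k⟦X⟧) = X ^ 6 * α x * -(X : k⟦X⟧) ^ 4 + X ^ 6 * β x * 0
        linear_combination X ^ 6 * h0 + X ^ 7 * hαX x
      · change X ^ 6 * (x.1.2.1 : k⟦X⟧) = X ^ 6 * α x * X ^ 3 + X ^ 6 * β x * X ^ 4
        linear_combination (-X ^ 6) * hαX x + (-X ^ 7) * hβX x
      · change X ^ 6 * (x.1.2.2 : k⟦X⟧) = X ^ 6 * α x * 0 + X ^ 6 * β x * -(X : k⟦X⟧) ^ 3
        linear_combination X ^ 6 * hβX x
    refine mul_left_cancel₀ (pow_ne_zero 6 X_ne_zero) ?_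
    have h1 := congrArg (fun z => jM (φ z)) h
    simp only [map_smul, map_add] at h1
    rw [mul_add, ← mul_assoc, ← mul_assoc]
    exact h1
  let Ψ : (K →ₗ[A] M) →ₗ[k] (Fin 2 → k⟦X⟧) :=
    { toFun := fun φ => ![jM (φ v₁), jM (φ v₂)]
      map_add' := fun a b => by ext i : 1; fin_cases i <;> simp
      map_smul' := fun r φ => by
        ext i : 1; fin_cases i <;> exact LinearMap.map_smul_of_tower jM r _ }
  have hext : ∀ φ φ', Ψ φ = Ψ φ' → φ = φ' := fun φ φ' h => LinearMap.ext fun x => hjM.1 (by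
    have h0 : jM (φ v₁) = jM (φ' v₁) := congrFun h 0
    have h1 : jM (φ v₂) = jM (φ' v₂) := congrFun h 1
    rw [happ φ, happ φ', h0, h1])
  choose g hg using fun a : ↥A × ↥A × ↥A => hjM.2 (sixG a)
  let g' : ↥A × ↥A × ↥A →ₗ[A] M :=
    { toFun := g
      map_add' := fun x y => hjM.1 (by simp [hg])
      map_smul' := fun r x => hjM.1 (by simp [hg]) }
  have hgsurj : Function.Surjective g' := fun y => by
    let f := jM y
    refine ⟨(⟨restr sixSet f + coeff 5 f • X ^ 4 * X - coeff 5 f • X ^ 4 * X, (hA _).2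
        (by rw [add_sub_cancel_right]; exact restr_mem _ _)⟩,
      ⟨coeff 1 f • 1 + coeff 5 f • X ^ 4, (hA _).2 (add_mem
        (Submodule.smul_mem _ _ (one_mem_supp (Or.inl rfl)))
        (Submodule.smul_mem _ _ (X_pow_mem (Or.inr (Or.inr (Or.inl rfl))))))⟩,
      ⟨coeff 2 f • 1, (hA _).2 (Submodule.smul_mem _ _ (one_mem_supp (Or.inl rfl)))⟩), hjM.1 ?_⟩
    rw [show jM (g' _) = sixG _ from hg _]
    change restr sixSet f + coeff 5 f • X ^ 4 * X - coeff 5 f • X ^ 4 * X +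
      (coeff 1 f • 1 + coeff 5 f • X ^ 4) * X + coeff 2 f • 1 * X ^ 2 = f
    ext m
    have hr : coeff m (restr sixSet f) = if m = 1 ∨ m = 2 ∨ m = 5 then 0 else coeff m f := by
      split
      · exact coeff_restr_of_not_mem (by change ¬(_ ∨ _); omega) f
      · exact coeff_restr_of_mem (show _ ∨ _ by omega) f
    rw [add_sub_cancel_right, show ((coeff 1 f • 1 + coeff 5 f • X ^ 4) * X : k⟦X⟧) =
      coeff 1 f • X ^ 1 + coeff 5 f • X ^ 5 by simp [add_mul, pow_succ],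
      show (coeff 2 f • 1 * X ^ 2 : k⟦X⟧) = coeff 2 f • X ^ 2 by simp]
    simp only [map_add, hr, coeff_smul, coeff_X_pow, smul_eq_mul, mul_ite, mul_one, mul_zero]
    split_ifs <;> first | omega | (subst_vars; simp)
  have hexact : Function.Exact K.subtype g' := fun a => by
    constructor
    · intro ha
      refine ⟨⟨a, ?_⟩, rfl⟩
      change sixG a = 0
      rw [← hg a]; exact (congrArg jM ha).trans (map_zero _)
    · rintro ⟨x, rfl⟩
      exact hjM.1 ((hg _).trans ((x.2 : sixG x.1 = 0).trans (map_zero _).symm))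
  let Φ : (K →ₗ[A] M) →ₗ[k] (Fin 2 × Fin 3 → k) :=
    LinearMap.pi fun p => coeff (p.2 : ℕ) ∘ₗ LinearMap.proj p.1 ∘ₗ Ψ
  rw [length_ext_one_eq_card (K := ↥K) (F := ↥A × ↥A × ↥A) (M := M) (chi A)
    (fun a => isUnit_of_high hhigh a) K.subtype g' K.injective_subtype hgsurj hexact M Φ
    (fun y => ?_) (fun φ => ?_)]
  · simp
  · let c : Fin 2 → k⟦X⟧ := fun l => ∑ m : Fin 3, y (l, m) • (X : k⟦X⟧) ^ (m : ℕ)
    choose w hw using fun x : K => hjM.2 (α x * c 0 + β x * c 1)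
    have hadd : ∀ x z, α (x + z) = α x + α z ∧ β (x + z) = β x + β z := fun x z => by
      refine ⟨?_, ?_⟩ <;> refine mul_left_cancel₀ (pow_ne_zero 3 X_ne_zero) ?_
      · rw [mul_add, hαX, hαX, hαX]; simp; ring
      · rw [mul_add, hβX, hβX, hβX]; simp; ring
    have hsmul : ∀ (r : A) x, α (r • x) = (r : k⟦X⟧) * α x ∧ β (r • x) = (r : k⟦X⟧) * β x := fun r x => by
      refine ⟨?_, ?_⟩ <;> refine mul_left_cancel₀ (pow_ne_zero 3 X_ne_zero) ?_
      · rw [mul_left_comm, hαX, hαX]; simp; ring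
      · rw [mul_left_comm, hβX, hβX]; simp
    let φ : K →ₗ[A] M :=
      { toFun := w
        map_add' := fun x z => hjM.1 (by rw [hw, map_add, hw, hw, (hadd x z).1, (hadd x z).2]; ring)
        map_smul' := fun r x => hjM.1 (by
          rw [hw, map_smul, hw, (hsmul r x).1, (hsmul r x).2]
          change _ = (r : k⟦X⟧) * _
          ring) }
    refine ⟨φ, funext fun p => ?_⟩
    have e : Ψ φ = c := by
      have a1 : α v₁ = 1 ∧ β v₁ = 0 ∧ α v₂ = 0 ∧ β v₂ = 1 := by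
        refine ⟨?_, ?_, ?_, ?_⟩ <;> refine mul_left_cancel₀ (pow_ne_zero 3 X_ne_zero) ?_ <;>
          first | rw [hαX] | rw [hβX]
        all_goals simp [v₁, v₂, T]
        all_goals ring
      funext l
      fin_cases l
      · change jM (w v₁) = c 0
        rw [hw, a1.1, a1.2.1, one_mul, zero_mul, add_zero]
      · change jM (w v₂) = c 1
        rw [hw, a1.2.2.1, a1.2.2.2, one_mul, zero_mul, zero_add]
    change coeff (p.2 : ℕ) (Ψ φ p.1) = y p
    rw [e, map_sum, Finset.sum_eq_single p.2 (fun b _ hb => by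
      rw [coeff_smul, coeff_X_pow, if_neg (fun h => hb (Fin.ext h.symm))]; simp) (by simp)]
    simp [coeff_smul, coeff_X_pow]
  · have hψ : ∀ ψ : ↥A × ↥A × ↥A →ₗ[A] M,
        jM (ψ v₁.1) = -X ^ 4 * jM (ψ (1, 0, 0)) + X ^ 3 * jM (ψ (0, 1, 0)) ∧
        jM (ψ v₂.1) = X ^ 4 * jM (ψ (0, 1, 0)) + -X ^ 3 * jM (ψ (0, 0, 1)) := fun ψ => by
      have h1 : v₁.1 = v₁.1.1 • ((1, 0, 0) : ↥A × ↥A × ↥A) + v₁.1.2.1 • (0, 1, 0) := by
        ext <;> simp [v₁]
      have h2 : v₂.1 = v₂.1.2.1 • ((0, 1, 0) : ↥A × ↥A × ↥A) + v₂.1.2.2 • (0, 0, 1) := by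
        ext <;> simp [v₂]
      refine ⟨?_, ?_⟩
      · rw [h1, map_add, map_add, map_smul, map_smul, map_smul, map_smul]; rfl
      · rw [h2, map_add, map_add, map_smul, map_smul, map_smul, map_smul]; rfl
    constructor
    · intro hφ
      have hc : ∀ l, Ψ φ l ∈ supp (Set.Ici 3) := fun l m hm => by
        by_contra hc
        simp only [Set.mem_Ici, not_le] at hc
        exact hm (congrFun hφ (l, (⟨m, hc⟩ : Fin 3)))
      let w := down 3 (Ψ φ 0)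
      let z := down 3 (Ψ φ 1)
      obtain ⟨u1, hu1⟩ := hjM.2 w
      obtain ⟨u2, hu2⟩ := hjM.2 (X * w - z)
      let ψ : ↥A × ↥A × ↥A →ₗ[A] M :=
        (0 : ↥A →ₗ[A] M).coprod ((LinearMap.toSpanSingleton A M u1).coprod (LinearMap.toSpanSingleton A M u2))
      refine ⟨ψ, hext _ _ (funext fun l => ?_)⟩
      have e0 : ψ (1, 0, 0) = 0 := by simp [ψ]
      have e1 : ψ (0, 1, 0) = u1 := by simp [ψ]
      have e2 : ψ (0, 0, 1) = u2 := by simp [ψ]
      fin_cases l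
      · change jM (ψ v₁.1) = Ψ φ 0
        rw [(hψ ψ).1, e0, e1, map_zero, mul_zero, zero_add, hu1]
        exact X_pow_mul_down (hc 0)
      · change jM (ψ v₂.1) = Ψ φ 1
        rw [(hψ ψ).2, e1, e2, hu1, hu2, ← X_pow_mul_down (hc 1)]
        ring
    · rintro ⟨ψ, rfl⟩
      funext ⟨l, m⟩
      change coeff (m : ℕ) (Ψ _ l) = 0
      fin_cases l
      · change coeff (m : ℕ) (jM (ψ v₁.1)) = 0
        rw [(hψ ψ).1, neg_mul, map_add, map_neg, coeff_X_pow_mul_eq, coeff_X_pow_mul_eq,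
          if_neg (by omega), if_neg (by omega)]; simp
      · change coeff (m : ℕ) (jM (ψ v₂.1)) = 0
        rw [(hψ ψ).2, neg_mul, map_add, map_neg, coeff_X_pow_mul_eq, coeff_X_pow_mul_eq,
          if_neg (by omega), if_neg (by omega)]; simp

end Groth.Agent.TFCurvLib
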