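import Groth.Agent.AssLib.Apply
import Groth.Agent.FlatDense.Basic
import Groth.Prelude.Def_TorSh

/-! Associated points of torsion-free modules on reduced locally Noetherian schemes. -/

set_option autoImplicit false
universe u
open AlgebraicGeometry CategoryTheory IsLocalRing TopologicalSpace

namespace Groth.Agent.TFCurvLib

theorem isField_of_forall_not_regular {R : Type u} [CommRing R] [IsLocalRing R] [IsNoetherianRing R] [_root_.IsReduced R]
    (h : ∀ r ∈ maximalIdeal R, ¬ IsSMulRegular R r) : IsField R := by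
  obtain ⟨p, hp, hle⟩ : ∃ p ∈ associatedPrimes R R, maximalIdeal R ≤ p := by
    by_contra hne
    push Not at hne
    obtain ⟨r, hr, hreg⟩ := (Alg6.exists_isSMulRegular_mem_iff (maximalIdeal R)).2 hne
    exact h r hr hreg
  have hpm : maximalIdeal R = p := (maximalIdeal.isMaximal R).eq_of_le hp.1.ne_top hle
  obtain ⟨-, a, ha⟩ := isAssociatedPrime_iff.1 hp
  by_cases ham : a ∈ maximalIdeal R
  · exfalso
    have h2 : a * a = 0 := by
      have : a ∈ p := hpm ▸ ham
      rw [ha, Submodule.mem_colon_singleton, Submodule.mem_bot] at this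
      exact this
    have h0 : a = 0 := IsNilpotent.eq_zero ⟨2, by rw [pow_two]; exact h2⟩
    exact hp.1.ne_top (by rw [ha, h0]; exact eq_top_iff.2 fun r _ => Submodule.mem_colon_singleton.2 (by simp))
  · refine IsLocalRing.isField_iff_maximalIdeal_eq.2 (eq_bot_iff.2 fun r hr => ?_)
    have : r ∈ p := hpm ▸ hr
    rw [ha, Submodule.mem_colon_singleton, Submodule.mem_bot] at this
    have hu : IsUnit a := by
      by_contra hu
      exact ham ((mem_maximalIdeal a).2 hu)
    exact (Submodule.mem_bot R).2 (hu.mul_left_eq_zero.1 this)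

variable {X : Scheme.{u}}

theorem isField_stalk_of_mem_ass [IsLocallyNoetherian X] [AlgebraicGeometry.IsReduced X] {F : X.Modules}
    (htF : TorSh.IsTorsionFree F) {x : X} (hx : x ∈ AssSch.Ass F) : IsField (X.presheaf.stalk x) := by
  haveI := htF x
  refine isField_of_forall_not_regular fun r hr hreg => ?_
  have h2 : IsSMulRegular (F.presheaf.stalk x) r :=
    Module.IsTorsionFree.isSMulRegular ⟨fun a b hab => hreg hab, fun a b hab => hreg (by simpa [mul_comm] using hab)⟩
  exact Alg6.isSMulRegular_iff_forall_ass.1 h2 _ hx hr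

theorem eq_of_specializes_of_isField {y y' : X} (hy : IsField (X.presheaf.stalk y)) (h : y' ⤳ y) : y' = y := by
  have hmem : y' ∈ Set.range (X.fromSpecStalk y) := by rw [Scheme.range_fromSpecStalk]; exact h
  obtain ⟨t, rfl⟩ := hmem
  letI := hy.toField
  have : t = closedPoint (X.presheaf.stalk y) := Subsingleton.elim (α := PrimeSpectrum (X.presheaf.stalk y)) _ _
  subst this
  exact Scheme.fromSpecStalk_closedPoint

theorem mem_of_dense_of_isField [IsLocallyNoetherian X] {U : X.Opens} (hU : Dense (U : Set X)) {y : X}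
    (hy : IsField (X.presheaf.stalk y)) : y ∈ U :=
  FlatDense.mem_of_dense_of_max_scheme U hU fun _ h => eq_of_specializes_of_isField hy h

theorem eq_zero_of_germ_isField [IsLocallyNoetherian X] [AlgebraicGeometry.IsReduced X] {F : X.Modules}
    (hF : Coh.IsQCoh F) (htF : TorSh.IsTorsionFree F) {U : X.Opens} (s : Γ(F, U))
    (h : ∀ y (hy : y ∈ U), IsField (X.presheaf.stalk y) → F.presheaf.germ U y hy s = 0) : s = 0 := by
  refine TopCat.Presheaf.section_ext ⟨F.presheaf, F.isSheaf⟩ U _ _ fun z hz => ?_
  show F.presheaf.germ U z hz s = F.presheaf.germ U z hz 0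
  obtain ⟨W, hW, hzW, hWU⟩ := exists_isAffineOpen_mem_and_subset (x := z) (U := U) hz
  have hle : W ≤ U := hWU
  have hs : F.presheaf.map (homOfLE hle).op s = 0 :=
    AssLib.eq_zero_of_germ_ass hF hW _ fun y hy hya => by
      rw [F.presheaf.germ_res_apply (homOfLE hle) y hy s]
      exact h y (hle hy) (isField_stalk_of_mem_ass htF hya)
  rw [map_zero]
  exact AssLib.germ_eq_zero_of_res_eq_zero (M := F) hle hzW s hs

end Groth.Agent.TFCurvLib
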