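import Groth.Agent.TFCurvLib.Length
import Mathlib.Algebra.Category.ModuleCat.Injective
import Mathlib.Algebra.Category.ModuleCat.EpiMono
import Mathlib.Algebra.Homology.ShortComplex.ModuleCat
import Mathlib.CategoryTheory.Abelian.Injective.Dimension
import Mathlib.RingTheory.SimpleModule.Basic
import Mathlib.RingTheory.Localization.Integer
import Mathlib.LinearAlgebra.FreeModule.PID

/-!
# Duality of lattices over a one-dimensional local domain with respect to a canonical ideal
-/

set_option linter.style.haveILetI false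

universe u

open CategoryTheory
open scoped Matrix

namespace Groth.Agent.TFCurvLib.Lattice

section General

variable {O : Type*} [CommRing O] {V : Type*} [AddCommGroup V] [Module O V]

/-- The length of `L / N`. -/
noncomputable def dlen (N L : Submodule O V) : ℕ∞ := Module.length O (L ⧸ N.comap L.subtype)

theorem dlen_add {A B C : Submodule O V} (h1 : A ≤ B) (h2 : B ≤ C) :
    dlen A C = dlen A B + dlen B C := by
  let i : (B ⧸ A.comap B.subtype) →ₗ[O] (C ⧸ A.comap C.subtype) :=
    Submodule.mapQ _ _ (Submodule.inclusion h2) (fun x hx => hx)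
  let p : (C ⧸ A.comap C.subtype) →ₗ[O] (C ⧸ B.comap C.subtype) :=
    Submodule.factor (Submodule.comap_mono h1)
  have hi : Function.Injective i := by
    rw [injective_iff_map_eq_zero]
    intro x hx
    obtain ⟨x, rfl⟩ := Submodule.Quotient.mk_surjective _ x
    have hx' : (Submodule.Quotient.mk (Submodule.inclusion h2 x) : C ⧸ A.comap C.subtype) = 0 := hx
    exact (Submodule.Quotient.mk_eq_zero _).2
      (show (x : V) ∈ A from ((Submodule.Quotient.mk_eq_zero (A.comap C.subtype)).1 hx' :))
  refine Module.length_eq_add_of_exact i p hi (Submodule.factor_surjective _) fun y => ?_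
  obtain ⟨y, rfl⟩ := Submodule.Quotient.mk_surjective _ y
  refine ⟨fun h => ?_, ?_⟩
  · have h' : (Submodule.Quotient.mk y : C ⧸ B.comap C.subtype) = 0 := h
    exact ⟨Submodule.Quotient.mk ⟨y.1, ((Submodule.Quotient.mk_eq_zero (B.comap C.subtype)).1 h' :)⟩, rfl⟩
  · rintro ⟨x, hx⟩
    obtain ⟨x, rfl⟩ := Submodule.Quotient.mk_surjective _ x
    rw [← hx]
    exact (Submodule.Quotient.mk_eq_zero _).2 x.2

theorem dlen_self (L : Submodule O V) : dlen L L = 0 := by
  refine Module.length_eq_zero_iff.2 (Submodule.Quotient.subsingleton_iff.2 ?_)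
  exact Submodule.comap_subtype_self L

theorem eq_of_dlen_eq_zero {N L : Submodule O V} (h : N ≤ L) (h0 : dlen N L = 0) : N = L := by
  refine le_antisymm h fun x hx => ?_
  have h2 := Submodule.Quotient.subsingleton_iff.1 (Module.length_eq_zero_iff.1 h0)
  exact (h2 ▸ Submodule.mem_top : (⟨x, hx⟩ : L) ∈ N.comap L.subtype)

theorem dlen_map {V' : Type*} [AddCommGroup V'] [Module O V'] (e : V ≃ₗ[O] V') (N L : Submodule O V) :
    dlen (N.map e.toLinearMap) (L.map e.toLinearMap) = dlen N L := by
  refine LinearEquiv.length_eq ((Submodule.Quotient.equiv _ _ (e.submoduleMap L) ?_).symm)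
  ext y
  constructor
  · rintro ⟨x, hx, rfl⟩
    exact ⟨x, hx, rfl⟩
  · intro hy
    obtain ⟨x, hx, hxy⟩ := Submodule.mem_map.1 hy
    obtain ⟨x', hx', hxy'⟩ := Submodule.mem_map.1 y.2
    refine ⟨⟨x', hx'⟩, ?_, Subtype.ext hxy'⟩
    show x' ∈ N
    rwa [e.injective (hxy'.trans hxy.symm)]

/-- Homomorphisms from a quotient are the maps killing it. -/
theorem length_hom_add {W : Type*} [AddCommGroup W] [Module O W] {X : Type*} [AddCommGroup X] [Module O X]
    (N : Submodule O X) (hext : ∀ g : N →ₗ[O] W, ∃ f : X →ₗ[O] W, f ∘ₗ N.subtype = g) :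
    Module.length O (X →ₗ[O] W) =
      Module.length O ((X ⧸ N) →ₗ[O] W) + Module.length O (N →ₗ[O] W) := by
  refine Module.length_eq_add_of_exact (LinearMap.lcomp O W N.mkQ) (LinearMap.lcomp O W N.subtype)
    (fun f g h => Submodule.linearMap_qext _ h) hext fun f => ⟨fun h => ?_, ?_⟩
  · have hk : N ≤ LinearMap.ker f := fun x hx => LinearMap.mem_ker.2 (LinearMap.congr_fun h ⟨x, hx⟩ :)
    exact ⟨Submodule.liftQ N f hk, Submodule.liftQ_mkQ N f hk⟩
  · rintro ⟨g, rfl⟩
    refine LinearMap.ext fun x => ?_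
    show g (N.mkQ x) = 0
    rw [Submodule.mkQ_apply, (Submodule.Quotient.mk_eq_zero _).2 x.2, map_zero]

end General

section

variable (O : Type u) [CommRing O] [IsDomain O] (K : Type u) [Field K] [Algebra O K] [IsFractionRing O K]

theorem injective_fractionField : Module.Injective O K := by
  refine Module.Baer.injective fun I g => ?_
  by_cases hI : I = ⊥
  · refine ⟨0, fun x hx => ?_⟩
    subst hI
    obtain rfl : x = 0 := hx
    exact (map_zero g).symm
  obtain ⟨a, ha, ha0⟩ := Submodule.exists_mem_ne_zero_of_ne_bot hI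
  have hau : algebraMap O K a ≠ 0 := fun h => ha0 (IsFractionRing.to_map_eq_zero_iff.1 h)
  refine ⟨LinearMap.toSpanSingleton O K (g ⟨a, ha⟩ / algebraMap O K a), fun x hx => ?_⟩
  have h : a • g ⟨x, hx⟩ = x • g ⟨a, ha⟩ := by
    rw [← map_smul, ← map_smul]
    exact congrArg g (Subtype.ext (mul_comm a x))
  rw [LinearMap.toSpanSingleton_apply, Algebra.smul_def]
  rw [Algebra.smul_def, Algebra.smul_def] at h
  field_simp
  linear_combination -h

/-- `K / ω` is injective when `ω` has injective dimension at most one. -/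
theorem injective_quotient (ω : Submodule O K) (hω : HasInjectiveDimensionLT (ModuleCat.of O ↥ω) 2) :
    Module.Injective O (K ⧸ ω) := by
  let S : ShortComplex (ModuleCat.{u} O) := ShortComplex.mk (ModuleCat.ofHom ω.subtype) (ModuleCat.ofHom ω.mkQ)
    (ModuleCat.hom_ext (LinearMap.ext fun x => (Submodule.Quotient.mk_eq_zero _).2 x.2))
  have hS : S.ShortExact :=
    { exact := ShortComplex.Exact.moduleCat_of_range_eq_ker _ _ (by
        show LinearMap.range ω.subtype = LinearMap.ker ω.mkQ
        rw [Submodule.range_subtype, Submodule.ker_mkQ])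
      mono_f := (ModuleCat.mono_iff_injective _).2 ω.subtype_injective
      epi_g := (ModuleCat.epi_iff_surjective _).2 ω.mkQ_surjective }
  haveI : Injective (ModuleCat.of O K) :=
    (Module.injective_iff_injective_object O K).1 (injective_fractionField O K)
  haveI h2 : HasInjectiveDimensionLT S.X₂ 1 := injective_iff_hasInjectiveDimensionLT_one.1 this
  haveI : HasInjectiveDimensionLT S.X₁ 2 := hω
  haveI : HasInjectiveDimensionLT S.X₃ 1 := hS.hasInjectiveDimensionLT_X₃ 1 h2 inferInstance
  exact Module.injective_module_of_injective_object O (K ⧸ ω)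
    (inj := injective_iff_hasInjectiveDimensionLT_one.2 this)

variable {n : ℕ}

/-- A lattice. -/
structure IsLat (L : Submodule O (Fin n → K)) : Prop where
  fg : L.FG
  span_top : Submodule.span K (L : Set (Fin n → K)) = ⊤

/-- The dual with respect to `ω`. -/
def dual (ω : Submodule O K) (L : Submodule O (Fin n → K)) : Submodule O (Fin n → K) where
  carrier := {v | ∀ y ∈ L, v ⬝ᵥ y ∈ ω}
  add_mem' h1 h2 y hy := by rw [add_dotProduct]; exact ω.add_mem (h1 y hy) (h2 y hy)
  zero_mem' y _ := by rw [zero_dotProduct]; exact ω.zero_mem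
  smul_mem' c v h y hy := by rw [smul_dotProduct]; exact ω.smul_mem c (h y hy)

variable {O K}

theorem dual_anti (ω : Submodule O K) {L L' : Submodule O (Fin n → K)} (h : L ≤ L') : dual O K ω L' ≤ dual O K ω L :=
  fun _ hv y hy => hv y (h hy)

theorem le_dual_dual (ω : Submodule O K) (L : Submodule O (Fin n → K)) : L ≤ dual O K ω (dual O K ω L) :=
  fun y hy v hv => by rw [dotProduct_comm]; exact hv y hy

/-- A finitely generated module is contained in a scaled standard lattice. -/
theorem exists_denom {L : Submodule O (Fin n → K)} (hL : L.FG) :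
    ∃ d : O, d ≠ 0 ∧ ∀ y ∈ L, ∀ i, ∃ b : O, algebraMap O K b = algebraMap O K d * y i := by
  classical
  obtain ⟨s, rfl⟩ := hL
  obtain ⟨d, hd⟩ := IsLocalization.exist_integer_multiples_of_finset (nonZeroDivisors O)
    ((s ×ˢ (Finset.univ : Finset (Fin n))).image fun p => p.1 p.2)
  refine ⟨d, nonZeroDivisors.coe_ne_zero d, fun y hy => ?_⟩
  induction hy using Submodule.span_induction with
  | mem y hy =>
    intro i
    obtain ⟨b, hb⟩ := hd (y i) (Finset.mem_image.2 ⟨(y, i), Finset.mem_product.2 ⟨hy, Finset.mem_univ _⟩, rfl⟩)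
    exact ⟨b, hb.trans (Algebra.smul_def _ _)⟩
  | zero => exact fun i => ⟨0, by simp⟩
  | add x y _ _ hx hy =>
    intro i
    obtain ⟨a, ha⟩ := hx i
    obtain ⟨b, hb⟩ := hy i
    exact ⟨a + b, by rw [map_add, ha, hb, Pi.add_apply, mul_add]⟩
  | smul c x _ hx =>
    intro i
    obtain ⟨a, ha⟩ := hx i
    exact ⟨c * a, by rw [map_mul, ha, Pi.smul_apply, Algebra.smul_def]; ring⟩

/-- Every vector has a nonzero multiple in a lattice. -/
theorem IsLat.exists_smul_mem {L : Submodule O (Fin n → K)} (hL : IsLat O K L) (v : Fin n → K) :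
    ∃ a : O, a ≠ 0 ∧ a • v ∈ L := by
  have hv : v ∈ Submodule.span K (L : Set (Fin n → K)) := hL.span_top ▸ Submodule.mem_top
  induction hv using Submodule.span_induction with
  | mem x hx => exact ⟨1, one_ne_zero, by rwa [one_smul]⟩
  | zero => exact ⟨1, one_ne_zero, by rw [smul_zero]; exact L.zero_mem⟩
  | add x y _ _ hx hy =>
    obtain ⟨a, ha, hax⟩ := hx
    obtain ⟨b, hb, hby⟩ := hy
    refine ⟨a * b, mul_ne_zero ha hb, ?_⟩
    rw [smul_add, mul_smul a b y, mul_comm a b, mul_smul b a x]
    exact L.add_mem (L.smul_mem b hax) (L.smul_mem a hby)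
  | smul c x _ hx =>
    obtain ⟨a, ha, hax⟩ := hx
    obtain ⟨p, q, hq, rfl⟩ := IsFractionRing.div_surjective (A := O) c
    refine ⟨a * q, mul_ne_zero ha (nonZeroDivisors.ne_zero hq), ?_⟩
    have hq0 : algebraMap O K q ≠ 0 := fun h =>
      nonZeroDivisors.ne_zero hq (IsFractionRing.to_map_eq_zero_iff.1 h)
    have : (a * q) • (algebraMap O K p / algebraMap O K q) • x = p • a • x := by
      funext i
      simp only [Pi.smul_apply]
      simp only [Algebra.smul_def, map_mul, smul_eq_mul, Algebra.algebraMap_self, RingHom.id_apply]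
      linear_combination (algebraMap O K a * x i) * div_mul_cancel₀ (algebraMap O K p) hq0
    rw [this]
    exact L.smul_mem p hax

theorem IsLat.mono {L L' : Submodule O (Fin n → K)} (hL : IsLat O K L) (h : L ≤ L') (hfg : L'.FG) : IsLat O K L' :=
  ⟨hfg, eq_top_iff.2 (hL.span_top ▸ Submodule.span_mono h)⟩

theorem IsLat.map {m : ℕ} {L : Submodule O (Fin n → K)} (hL : IsLat O K L) (e : (Fin n → K) ≃ₗ[K] (Fin m → K)) :
    IsLat O K (L.map (e.toLinearMap.restrictScalars O)) := by
  refine ⟨hL.fg.map _, ?_⟩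
  show Submodule.span K (e.toLinearMap '' L) = ⊤
  rw [Submodule.span_image, hL.span_top, Submodule.map_top, LinearEquiv.range]

/-- Scaling. -/
noncomputable def scale (c : Kˣ) : (Fin n → K) ≃ₗ[K] (Fin n → K) :=
  LinearEquiv.smulOfUnit c

/-- Extension of a map on a lattice to a linear map over `K`. -/
theorem IsLat.exists_extend {L : Submodule O (Fin n → K)} (hL : IsLat O K L) {V' : Type u} [AddCommGroup V']
    [Module K V'] [Module O V'] [IsScalarTower O K V'] (f : L →ₗ[O] V') :
    ∃ F : (Fin n → K) →ₗ[K] V', ∀ y : L, F y = f y := by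
  classical
  choose a ha hae using fun i => hL.exists_smul_mem (Pi.single i (1 : K))
  obtain ⟨F, hFb⟩ : ∃ F : (Fin n → K) →ₗ[K] V',
      ∀ i, F (Pi.single i (1 : K)) = (algebraMap O K (a i))⁻¹ • f ⟨_, hae i⟩ :=
    ⟨(Pi.basisFun K (Fin n)).constr K fun i => (algebraMap O K (a i))⁻¹ • f ⟨_, hae i⟩, fun i => by
      have h := (Pi.basisFun K (Fin n)).constr_basis K (fun i => (algebraMap O K (a i))⁻¹ • f ⟨_, hae i⟩) i
      rw [Pi.basisFun_apply] at h
      exact h⟩
  refine ⟨F, fun y => ?_⟩
  obtain ⟨d, hd, hden⟩ := exists_denom hL.fg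
  choose b hb using hden y.1 y.2
  let D : O := d * ∏ i, a i
  have hD : algebraMap O K D ≠ 0 := fun h =>
    mul_ne_zero hd (Finset.prod_ne_zero_iff.2 fun i _ => ha i) (IsFractionRing.to_map_eq_zero_iff.1 h)
  choose c hc using fun i => Finset.dvd_prod_of_mem a (Finset.mem_univ i)
  have hterm : ∀ (i j : Fin n) (e : O), (e • (a i • (Pi.single i (1 : K) : Fin n → K))) j =
      if j = i then algebraMap O K e * algebraMap O K (a i) else 0 := fun i j e => by
    rw [smul_smul, Pi.smul_apply, Algebra.smul_def, Pi.single_apply, mul_ite, mul_one, mul_zero, map_mul]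
  have hDy : D • y = ∑ i, (b i * c i) • (⟨_, hae i⟩ : L) := by
    apply Subtype.ext
    rw [Submodule.coe_sum]
    funext j
    rw [Finset.sum_apply]
    refine Eq.trans ?_ (Finset.sum_congr rfl fun i _ => (hterm i j (b i * c i)).symm)
    rw [Finset.sum_ite_eq, if_pos (Finset.mem_univ j), Submodule.coe_smul_of_tower, Pi.smul_apply, Algebra.smul_def]
    show algebraMap O K (d * ∏ i, a i) * y.1 j = _
    rw [hc j, map_mul, map_mul, map_mul, hb j]
    ring
  have hF : ∀ i, F (a i • (Pi.single i (1 : K) : Fin n → K)) = f ⟨_, hae i⟩ := fun i => by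
    rw [LinearMap.map_smul_of_tower, hFb i, ← algebraMap_smul K (a i), smul_smul,
      mul_inv_cancel₀ (fun h => ha i (IsFractionRing.to_map_eq_zero_iff.1 h)), one_smul]
  have h2 : algebraMap O K D • F y.1 = algebraMap O K D • f y := by
    rw [algebraMap_smul, algebraMap_smul, ← LinearMap.map_smul_of_tower F D]
    refine Eq.trans (congrArg F (congrArg Subtype.val hDy)) (Eq.trans ?_ ((congrArg f hDy.symm).trans (f.map_smul D y)))
    rw [Submodule.coe_sum, map_sum, map_sum]
    refine Finset.sum_congr rfl fun i _ => ?_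
    rw [Submodule.coe_smul_of_tower, LinearMap.map_smul_of_tower, hF i, LinearMap.map_smul]
  have h3 := congrArg ((algebraMap O K D)⁻¹ • ·) h2
  simpa only [inv_smul_smul₀ hD] using h3

variable [IsNoetherianRing O]

/-- The dual of a lattice is a lattice. -/
theorem IsLat.dual {L : Submodule O (Fin n → K)} (hL : IsLat O K L) {ω : Submodule O K} (hfg : ω.FG)
    (h0 : ω ≠ ⊥) : IsLat O K (dual O K ω L) := by
  classical
  choose a ha hae using fun i => hL.exists_smul_mem (Pi.single i (1 : K))
  haveI : Module.Finite O ω := Module.Finite.iff_fg.2 hfg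
  let g : ↥(Lattice.dual O K ω L) →ₗ[O] (Fin n → ω) :=
    { toFun := fun v i => ⟨v.1 ⬝ᵥ (a i • Pi.single i (1 : K)), v.2 _ (hae i)⟩
      map_add' := fun v w => funext fun i => Subtype.ext (add_dotProduct (v : Fin n → K) w.1 _)
      map_smul' := fun c v => funext fun i => Subtype.ext (smul_dotProduct c (v : Fin n → K) _) }
  have hg : Function.Injective g := by
    intro v w h
    refine Subtype.ext (funext fun i => ?_)
    have hi := congrArg Subtype.val (congrFun h i)
    simp only [g, LinearMap.coe_mk, AddHom.coe_mk, dotProduct_smul, dotProduct_single, mul_one] at hi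
    simp only [Algebra.smul_def] at hi
    exact mul_left_cancel₀ (fun h => ha i (IsFractionRing.to_map_eq_zero_iff.1 h)) hi
  refine ⟨Module.Finite.iff_fg.1 (Module.Finite.of_injective g hg), eq_top_iff.2 fun v _ => ?_⟩
  obtain ⟨w, hw, hw0⟩ := Submodule.exists_mem_ne_zero_of_ne_bot h0
  obtain ⟨d, hd, hden⟩ := exists_denom hL.fg
  rw [← Finset.univ_sum_single v]
  refine Submodule.sum_mem _ fun i _ => ?_
  have hmem : (Pi.single i (algebraMap O K d * w) : Fin n → K) ∈ Lattice.dual O K ω L := fun y hy => by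
    obtain ⟨b, hb⟩ := hden y hy i
    rw [single_dotProduct, mul_right_comm, ← hb, ← Algebra.smul_def]
    exact ω.smul_mem b hw
  have : (Pi.single i (v i) : Fin n → K) = (v i / (algebraMap O K d * w)) • Pi.single i (algebraMap O K d * w) := by
    rw [← Pi.single_smul', smul_eq_mul, div_mul_cancel₀]
    exact mul_ne_zero (fun h => hd (IsFractionRing.to_map_eq_zero_iff.1 h)) hw0
  rw [this]
  exact Submodule.smul_mem _ _ (Submodule.subset_span hmem)

variable (O K) [IsLocalRing O] [Ring.KrullDimLE 1 O]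

theorem dlen_ne_top {N L : Submodule O (Fin n → K)} (hN : IsLat O K N) (hL : IsLat O K L) :
    dlen N L ≠ ⊤ := by
  haveI : Module.Finite O L := Module.Finite.iff_fg.2 hL.fg
  refine _root_.TFCurvLib.length_ne_top_of_torsion fun v => ?_
  obtain ⟨v, rfl⟩ := Submodule.Quotient.mk_surjective _ v
  obtain ⟨a, ha, hav⟩ := hN.exists_smul_mem v.1
  exact ⟨a, ha, (Submodule.Quotient.mk_eq_zero _).2 hav⟩

variable {O K} (ω : Submodule O K)

/-- The multiplicity of the residue field in the socle of `K/ω`. -/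
noncomputable def socleLength : ℕ∞ :=
  Module.length O ((O ⧸ IsLocalRing.maximalIdeal O) →ₗ[O] K ⧸ ω)

theorem length_hom_eq [Module.Injective O (K ⧸ ω)] :
    ∀ {X : Type u} [AddCommGroup X] [Module O X], IsFiniteLength O X →
      Module.length O (X →ₗ[O] K ⧸ ω) = socleLength ω * Module.length O X := by
  intro X _ _ h
  induction h with
  | of_subsingleton => simp [Module.length_eq_zero]
  | @of_simple_quotient X _ _ N hs _ ih =>
    rw [length_hom_add N (fun g => by
        obtain ⟨f, hf⟩ := Module.Injective.out N.subtype N.subtype_injective g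
        exact ⟨f, LinearMap.ext hf⟩), ih,
      Module.length_eq_add_of_exact N.subtype N.mkQ N.subtype_injective N.mkQ_surjective
        (LinearMap.exact_subtype_mkQ N), mul_add, add_comm]
    congr 1
    obtain ⟨I, hI, ⟨e⟩⟩ := isSimpleModule_iff_quot_maximal.1 hs
    obtain rfl := IsLocalRing.eq_maximalIdeal hI
    rw [(LinearEquiv.congrLeft (K ⧸ ω) O e).length_eq, Module.length_eq_one (R := O) (M := X ⧸ N), mul_one]
    rfl

variable (hfg : ω.FG) (h0 : ω ≠ ⊥) (hinj : HasInjectiveDimensionLT (ModuleCat.of O ↥ω) 2)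

include hfg h0 hinj in
theorem dlen_dual_aux {N L : Submodule O (Fin n → K)} (hN : IsLat O K N) (hL : IsLat O K L) (h : N ≤ L) :
    dlen (dual O K ω L) (dual O K ω N) = socleLength ω * dlen N L := by
  classical
  haveI := injective_quotient O K ω hinj
  rw [dlen, dlen, ← length_hom_eq ω (Module.length_ne_top_iff.1 (dlen_ne_top O K hN hL))]
  let dot : ↥(dual O K ω N) → (↥L →ₗ[O] K ⧸ ω) := fun v =>
    ω.mkQ ∘ₗ
      { toFun := fun y => v.1 ⬝ᵥ y.1
        map_add' := fun x y => dotProduct_add _ _ _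
        map_smul' := fun c x => dotProduct_smul _ _ _ }
  let Φ : ↥(dual O K ω N) →ₗ[O] ((↥L ⧸ N.comap L.subtype) →ₗ[O] K ⧸ ω) :=
    { toFun := fun v => Submodule.liftQ _ (dot v) fun y hy => (Submodule.Quotient.mk_eq_zero _).2 (v.2 y.1 hy)
      map_add' := fun v w => Submodule.linearMap_qext _ (LinearMap.ext fun y => congrArg ω.mkQ (add_dotProduct (v : Fin n → K) w.1 _))
      map_smul' := fun c v => Submodule.linearMap_qext _ (LinearMap.ext fun y => congrArg ω.mkQ (smul_dotProduct c (v : Fin n → K) _)) }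
  have hker : LinearMap.ker Φ = (dual O K ω L).comap (dual O K ω N).subtype := by
    ext v
    refine ⟨fun hv y hy => ?_, fun hv => Submodule.linearMap_qext _ (LinearMap.ext fun y =>
      (Submodule.Quotient.mk_eq_zero _).2 (hv y.1 y.2))⟩
    exact (Submodule.Quotient.mk_eq_zero _).1 (LinearMap.congr_fun hv (Submodule.Quotient.mk ⟨y, hy⟩))
  have hsurj : Function.Surjective Φ := by
    intro φ
    obtain ⟨d, hd, hden⟩ := exists_denom hL.fg
    have hdu : algebraMap O K d ≠ 0 := fun h => hd (IsFractionRing.to_map_eq_zero_iff.1 h)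
    choose b hb using fun (y : L) => hden y.1 y.2
    let ι : ↥L →ₗ[O] (Fin n → O) :=
      { toFun := b
        map_add' := fun x y => funext fun i => IsFractionRing.injective O K (by
          rw [Pi.add_apply, map_add, hb, hb, hb, Submodule.coe_add, Pi.add_apply, mul_add])
        map_smul' := fun c x => funext fun i => IsFractionRing.injective O K (by
          rw [RingHom.id_apply, Pi.smul_apply, smul_eq_mul, map_mul, hb, hb, Submodule.coe_smul_of_tower,
            Pi.smul_apply, Algebra.smul_def]; ring) }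
    have hι : Function.Injective ι := fun x y h => Subtype.ext (funext fun i =>
      mul_left_cancel₀ hdu (by rw [← hb, ← hb, show b x = b y from h]))
    obtain ⟨ψ, hψ⟩ := Module.Injective.out ι hι (φ ∘ₗ Submodule.mkQ _)
    choose w hw using fun i => ω.mkQ_surjective (ψ (Pi.single i 1))
    let v : Fin n → K := fun i => algebraMap O K d * w i
    have hv : ∀ y : L, ω.mkQ (v ⬝ᵥ y.1) = φ (Submodule.Quotient.mk y) := by
      intro y
      rw [← show ψ (ι y) = φ (Submodule.Quotient.mk y) from hψ y,
        show ι y = ∑ i, b y i • (Pi.single i (1 : O) : Fin n → O) from pi_eq_sum_univ' (b y),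
        map_sum, dotProduct, map_sum]
      refine Finset.sum_congr rfl fun i _ => ?_
      rw [map_smul, ← hw, ← map_smul, Algebra.smul_def, hb]
      congr 1
      show algebraMap O K d * w i * y.1 i = _
      ring
    have hvN : v ∈ dual O K ω N := fun y hy => by
      rw [← Submodule.Quotient.mk_eq_zero ω]
      refine (hv ⟨y, h hy⟩).trans ?_
      rw [(Submodule.Quotient.mk_eq_zero (N.comap L.subtype)).2 hy, map_zero]
    exact ⟨⟨v, hvN⟩, Submodule.linearMap_qext _ (LinearMap.ext hv)⟩
  rw [← hker, (Φ.quotKerEquivOfSurjective hsurj).length_eq]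

theorem isLat_pi_one : IsLat O K (Submodule.pi Set.univ fun _ : Fin n => (1 : Submodule O K)) := by
  classical
  refine ⟨?_, eq_top_iff.2 fun v _ => ?_⟩
  · have : (Submodule.pi Set.univ fun _ : Fin n => (1 : Submodule O K)) =
        LinearMap.range (LinearMap.pi fun i => (Algebra.linearMap O K) ∘ₗ (LinearMap.proj i : (Fin n → O) →ₗ[O] O)) := by
      ext v
      refine ⟨fun hv => ?_, ?_⟩
      · choose c hc using fun i => Submodule.mem_one.1 (hv i (Set.mem_univ i))
        exact ⟨c, funext hc⟩
      · rintro ⟨c, rfl⟩ i -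
        exact Submodule.mem_one.2 ⟨c i, rfl⟩
    rw [this, LinearMap.range_eq_map]
    exact Module.Finite.fg_top.map _
  · rw [← Finset.univ_sum_single v]
    refine Submodule.sum_mem _ fun i _ => ?_
    rw [show (Pi.single i (v i) : Fin n → K) = v i • Pi.single i 1 by rw [← Pi.single_smul', smul_eq_mul, mul_one]]
    refine Submodule.smul_mem _ _ (Submodule.subset_span fun j _ => ?_)
    rcases eq_or_ne j i with rfl | hj
    · simpa using Submodule.mem_one.2 ⟨1, map_one _⟩
    · simp [Pi.single_eq_of_ne hj]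

/-- Multiplication by a nonzero scalar, over `O`. -/
noncomputable def scaleO (c : Kˣ) : (Fin n → K) ≃ₗ[O] (Fin n → K) := (scale c).restrictScalars O

omit [IsDomain O] [IsNoetherianRing O] [IsLocalRing O] [Ring.KrullDimLE 1 O] [IsFractionRing O K] in
theorem dual_scale (c : Kˣ) (L : Submodule O (Fin n → K)) :
    dual O K ω (L.map (scaleO (O := O) c).toLinearMap) = (dual O K ω L).map (scaleO (O := O) c⁻¹).toLinearMap := by
  ext v
  refine ⟨fun hv => ⟨(c : K) • v, fun y hy => ?_, ?_⟩, ?_⟩
  · rw [smul_dotProduct, ← dotProduct_smul]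
    exact hv _ ⟨y, hy, rfl⟩
  · show ((c⁻¹ : Kˣ) : K) • (c : K) • v = v
    rw [smul_smul, Units.inv_mul, one_smul]
  · rintro ⟨v, hv, rfl⟩ _ ⟨y, hy, rfl⟩
    show (((c⁻¹ : Kˣ) : K) • v) ⬝ᵥ ((c : K) • y) ∈ ω
    rw [smul_dotProduct, dotProduct_smul, smul_smul, Units.inv_mul, one_smul]
    exact hv y hy

omit [IsDomain O] [IsNoetherianRing O] [IsLocalRing O] [Ring.KrullDimLE 1 O] [IsFractionRing O K] in
theorem map_scale_le {x : O} (c : Kˣ) (hc : (c : K) = algebraMap O K x) (L : Submodule O (Fin n → K)) :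
    L.map (scaleO (O := O) c).toLinearMap ≤ L := by
  rintro _ ⟨y, hy, rfl⟩
  show (c : K) • y ∈ L
  rw [hc, algebraMap_smul]
  exact L.smul_mem x hy

include hfg h0 hinj in
theorem socleLength_eq_one (hnf : ¬ IsField O) : socleLength ω = 1 := by
  classical
  obtain ⟨x, hx, hx0⟩ := Submodule.exists_mem_ne_zero_of_ne_bot
    (IsLocalRing.isField_iff_maximalIdeal_eq.not.1 hnf)
  let c : Kˣ := Units.mk0 (algebraMap O K x) fun h => hx0 (IsFractionRing.to_map_eq_zero_iff.1 h)
  let L : Submodule O (Fin 1 → K) := Submodule.pi Set.univ fun _ : Fin 1 => (1 : Submodule O K)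
  have hL : IsLat O K L := isLat_pi_one
  let D := dual O K ω L
  have hD : IsLat O K D := hL.dual hfg h0
  obtain ⟨d, hd, hden⟩ := exists_denom hD.fg
  let c' : Kˣ := Units.mk0 (algebraMap O K d) fun h => hd (IsFractionRing.to_map_eq_zero_iff.1 h)
  let s := fun (e : Kˣ) (N : Submodule O (Fin 1 → K)) => N.map (scaleO (O := O) e).toLinearMap
  have hlat : ∀ e N, IsLat O K N → IsLat O K (s e N) := fun e N hN => hN.map (scale e)
  have hle : s c' D ≤ L := by
    rintro _ ⟨y, hy, rfl⟩ i -
    obtain ⟨b, hb⟩ := hden y hy i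
    exact Submodule.mem_one.2 ⟨b, hb⟩
  have key : dlen (s c (s c' D)) (s c' D) = dlen (s c L) L := by
    have h1 := dlen_add (map_scale_le c rfl (s c' D)) hle
    have h2 := dlen_add (Submodule.map_mono hle : s c (s c' D) ≤ s c L) (map_scale_le c rfl L)
    rw [dlen_map] at h2
    rw [h1, add_comm] at h2
    exact WithTop.add_left_cancel (dlen_ne_top O K (hlat _ _ hD) hL) h2
  have hDD : dlen (s c (s c' D)) (s c' D) = dlen D (s c⁻¹ D) := by
    rw [show s c (s c' D) = s c' (s c D) by
      simp only [s, ← Submodule.map_comp]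
      congr 1
      exact LinearMap.ext fun v =>
        show (c : K) • (c' : K) • v = (c' : K) • (c : K) • v from smul_comm _ _ _]
    rw [dlen_map, ← dlen_map (scaleO (O := O) c⁻¹) (s c D) D]
    congr 1
    rw [← Submodule.map_comp]
    rw [show (scaleO (O := O) (n := 1) c⁻¹).toLinearMap ∘ₗ (scaleO (O := O) (n := 1) c).toLinearMap = LinearMap.id from
      LinearMap.ext fun v => by
        show ((c⁻¹ : Kˣ) : K) • (c : K) • v = v
        rw [smul_smul, Units.inv_mul, one_smul], Submodule.map_id]
  have haux := dlen_dual_aux ω hfg h0 hinj (hlat c L hL) hL (map_scale_le c rfl L)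
  rw [dual_scale] at haux
  rw [← hDD, key] at haux
  have hne : dlen (s c L) L ≠ 0 := by
    intro h
    have heq := eq_of_dlen_eq_zero (map_scale_le c rfl L) h
    have h1 : (fun _ => (1 : K)) ∈ s c L := (congrArg (fun N => (fun _ => (1 : K)) ∈ N) heq).mpr
      fun i _ => Submodule.mem_one.2 ⟨1, map_one _⟩
    obtain ⟨y, hy, hy1⟩ := h1
    obtain ⟨b, hb⟩ := Submodule.mem_one.1 (hy 0 (Set.mem_univ _))
    have : algebraMap O K (x * b) = algebraMap O K 1 := by
      rw [map_mul, map_one, hb]
      exact congrFun hy1 0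
    exact hx (IsUnit.of_mul_eq_one b (IsFractionRing.injective O K this))
  obtain ⟨a, ha⟩ := ENat.ne_top_iff_exists.1 (dlen_ne_top O K (hlat c L hL) hL)
  rw [show dlen (Submodule.map (scaleO (O := O) c).toLinearMap L) L = (a : ℕ∞) from ha.symm] at haux
  have ha0 : a ≠ 0 := fun h => hne (by rw [← ha, h]; rfl)
  rcases eq_or_ne (socleLength ω) ⊤ with ht | ht
  · rw [ht, ENat.top_mul (by exact_mod_cast ha0)] at haux
    exact absurd haux (ENat.coe_ne_top a)
  · obtain ⟨r, hr⟩ := ENat.ne_top_iff_exists.1 ht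
    rw [← hr] at haux ⊢
    norm_cast at haux ⊢
    exact (mul_eq_right₀ ha0).1 haux.symm

include hfg h0 hinj in
theorem dlen_dual (hnf : ¬ IsField O) {N L : Submodule O (Fin n → K)} (hN : IsLat O K N) (hL : IsLat O K L)
    (h : N ≤ L) : dlen (dual O K ω L) (dual O K ω N) = dlen N L := by
  rw [dlen_dual_aux ω hfg h0 hinj hN hL h, socleLength_eq_one ω hfg h0 hinj hnf, one_mul]

include hfg h0 hinj in
theorem dual_dual (hnf : ¬ IsField O) {L : Submodule O (Fin n → K)} (hL : IsLat O K L) :
    dual O K ω (dual O K ω L) = L := by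
  have h3 : dual O K ω (dual O K ω (dual O K ω L)) = dual O K ω L :=
    le_antisymm (dual_anti ω (le_dual_dual ω L)) (le_dual_dual ω _)
  have h := dlen_dual ω hfg h0 hinj hnf hL ((hL.dual hfg h0).dual hfg h0) (le_dual_dual ω L)
  rw [h3, dlen_self] at h
  exact (eq_of_dlen_eq_zero (le_dual_dual ω L) h.symm).symm

omit [IsNoetherianRing O] [IsLocalRing O] [Ring.KrullDimLE 1 O] in
/-- The dual is the module of homomorphisms. -/
theorem nonempty_dual_equiv_hom {L : Submodule O (Fin n → K)} (hL : IsLat O K L) :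
    Nonempty (dual O K ω L ≃ₗ[O] (L →ₗ[O] ω)) := by
  classical
  let Φ : dual O K ω L →ₗ[O] (L →ₗ[O] ω) :=
    { toFun := fun v =>
        { toFun := fun y => ⟨v.1 ⬝ᵥ y.1, v.2 y.1 y.2⟩
          map_add' := fun x y => Subtype.ext (dotProduct_add (v : Fin n → K) x.1 y.1)
          map_smul' := fun c x => Subtype.ext (dotProduct_smul c (v : Fin n → K) x.1) }
      map_add' := fun v w => LinearMap.ext fun y => Subtype.ext (add_dotProduct (v : Fin n → K) w.1 _)
      map_smul' := fun c v => LinearMap.ext fun y => Subtype.ext (smul_dotProduct c (v : Fin n → K) _) }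
  refine ⟨LinearEquiv.ofBijective Φ ⟨fun v w h => Subtype.ext (funext fun i => ?_), fun f => ?_⟩⟩
  · obtain ⟨a, ha, hai⟩ := hL.exists_smul_mem (Pi.single i (1 : K))
    have hi := congrArg Subtype.val (LinearMap.congr_fun h ⟨_, hai⟩)
    simp only [Φ, LinearMap.coe_mk, AddHom.coe_mk, dotProduct_smul, dotProduct_single, mul_one] at hi
    simp only [Algebra.smul_def] at hi
    exact mul_left_cancel₀ (fun h => ha (IsFractionRing.to_map_eq_zero_iff.1 h)) hi
  · obtain ⟨F, hF⟩ := hL.exists_extend (V' := K) (ω.subtype ∘ₗ f)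
    have hFv : ∀ y, (fun i => F (Pi.single i 1)) ⬝ᵥ y = F y := fun y => by
      conv_rhs => rw [pi_eq_sum_univ' y, map_sum]
      exact Finset.sum_congr rfl fun i _ => by rw [map_smul, smul_eq_mul, mul_comm]
    exact ⟨⟨fun i => F (Pi.single i 1), fun y hy => by rw [hFv, show F y = _ from hF ⟨y, hy⟩]; exact (f ⟨y, hy⟩).2⟩,
      LinearMap.ext fun y => Subtype.ext ((hFv y.1).trans (hF y))⟩

omit [IsNoetherianRing O] [IsLocalRing O] [Ring.KrullDimLE 1 O] in
/-- An isomorphism of lattices comes from an automorphism of the ambient space. -/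
theorem exists_equiv_map {L L' : Submodule O (Fin n → K)} (hL : IsLat O K L) (hL' : IsLat O K L')
    (e : L ≃ₗ[O] L') :
    ∃ h : (Fin n → K) ≃ₗ[K] (Fin n → K), L.map (h.toLinearMap.restrictScalars O) = L' := by
  obtain ⟨F, hF⟩ := hL.exists_extend (V' := Fin n → K) (L'.subtype ∘ₗ e.toLinearMap)
  have hsurj : Function.Surjective F := by
    rw [← LinearMap.range_eq_top, eq_top_iff, ← hL'.span_top, Submodule.span_le]
    intro y hy
    exact ⟨(e.symm ⟨y, hy⟩).1, by rw [hF]; simp⟩
  refine ⟨LinearEquiv.ofBijective F ⟨LinearMap.injective_iff_surjective.2 hsurj, hsurj⟩, le_antisymm ?_ fun y hy => ?_⟩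
  · rintro _ ⟨y, hy, rfl⟩
    show F y ∈ L'
    rw [show F y = _ from hF ⟨y, hy⟩]
    exact (e ⟨y, hy⟩).2
  · refine ⟨(e.symm ⟨y, hy⟩).1, (e.symm ⟨y, hy⟩).2, ?_⟩
    show F _ = y
    rw [hF]
    simp

end

end Groth.Agent.TFCurvLib.Lattice
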